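import Mathlib
import Cfsg.Agent.Presentations.BinaryIcosahedral

/-!
Element orders of Frobenius groups `V ⋊ K`, and a solvable group with element orders
`{1, 2, 3, 4, 6, 8, 13}`.
-/

set_option autoImplicit false

namespace Cfsg.Agent.Spectra

/-- The spectrum of a finite group in which every element order divides one of the orders of a
given family of elements is the set of divisors of these orders. -/
theorem range_orderOf_eq {G : Type*} [Group G] [Finite G] (s : Finset ℕ)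
    (hle : ∀ g : G, ∃ n ∈ s, g ^ n = 1) (hex : ∀ n ∈ s, ∃ g : G, orderOf g = n) :
    Set.range (orderOf : G → ℕ) = {m | ∃ n ∈ s, m ∣ n} := by
  ext m
  constructor
  · rintro ⟨g, rfl⟩
    obtain ⟨n, hn, hg⟩ := hle g
    exact ⟨n, hn, orderOf_dvd_of_pow_eq_one hg⟩
  · rintro ⟨n, hn, hd⟩
    obtain ⟨g, hg⟩ := hex n hn
    have hpos : n ≠ 0 := hg ▸ (orderOf_pos g).ne'
    refine ⟨g ^ (n / m), ?_⟩
    rw [orderOf_pow, hg, Nat.gcd_eq_right (Nat.div_dvd_of_dvd hd), Nat.div_div_self hd hpos]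

section Frobenius

variable {R : Type*} [CommRing R] {d : ℕ}

/-- Action of an invertible matrix on the column space. -/
def vecAut (K : Subgroup (Matrix (Fin d) (Fin d) R)ˣ) :
    ↥K →* MulAut (Multiplicative (Fin d → R)) where
  toFun k :=
    { toFun := fun v => Multiplicative.ofAdd
        (Matrix.mulVec ((k : (Matrix (Fin d) (Fin d) R)ˣ) : Matrix (Fin d) (Fin d) R) v.toAdd)
      invFun := fun v => Multiplicative.ofAdd
        (Matrix.mulVec (((k : (Matrix (Fin d) (Fin d) R)ˣ)⁻¹ : (Matrix (Fin d) (Fin d) R)ˣ) :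
          Matrix (Fin d) (Fin d) R) v.toAdd)
      left_inv := fun v => by simp [Matrix.mulVec_mulVec, ← Units.val_mul]
      right_inv := fun v => by simp [Matrix.mulVec_mulVec, ← Units.val_mul]
      map_mul' := fun v w => by simp [Matrix.mulVec_add] }
  map_one' := by
    ext v
    simp
  map_mul' a b := by
    ext v
    simp [Matrix.mulVec_mulVec]

/-- An element outside the kernel of a fixed point free semidirect product has the order of its
image. -/
theorem orderOf_semidirect [Finite R] (K : Subgroup (Matrix (Fin d) (Fin d) R)ˣ)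
    (hfpf : ∀ k ∈ K, k ≠ 1 → ∀ v : Fin d → R,
      Matrix.mulVec ((k : (Matrix (Fin d) (Fin d) R)ˣ) : Matrix (Fin d) (Fin d) R) v = v → v = 0)
    (x : Multiplicative (Fin d → R) ⋊[vecAut K] ↥K) (hx : x.right ≠ 1) :
    orderOf x = orderOf x.right := by
  set M : Matrix (Fin d) (Fin d) R := ((x.right : (Matrix (Fin d) (Fin d) R)ˣ) :
    Matrix (Fin d) (Fin d) R)
  set T : (Fin d → R) → (Fin d → R) := fun w => w - M.mulVec w with hT
  have hinj : Function.Injective T := by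
    intro a b hab
    have h : M.mulVec (a - b) = a - b := by
      rw [Matrix.mulVec_sub]
      simp only [hT] at hab
      linear_combination (exp := 1) -hab
    have := hfpf _ x.right.2 (fun e => hx (Subtype.ext e)) _ h
    exact sub_eq_zero.mp this
  obtain ⟨w, hw⟩ := (Finite.injective_iff_surjective.mp hinj) x.left.toAdd
  set u : Multiplicative (Fin d → R) ⋊[vecAut K] ↥K := SemidirectProduct.inl (Multiplicative.ofAdd w)
  have hconj : x = u * SemidirectProduct.inr x.right * u⁻¹ := by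
    apply SemidirectProduct.ext
    · apply Multiplicative.toAdd.injective
      simp only [u, SemidirectProduct.mul_left, SemidirectProduct.mul_right, SemidirectProduct.inv_left,
        SemidirectProduct.inv_right, SemidirectProduct.left_inl, SemidirectProduct.right_inl,
        SemidirectProduct.left_inr, SemidirectProduct.right_inr, map_one, inv_one, MulAut.one_apply,
        toAdd_mul, one_mul, mul_one]
      rw [← hw]
      simp only [vecAut, MonoidHom.coe_mk, OneHom.coe_mk, MulEquiv.coe_mk, Equiv.coe_fn_mk,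
        toAdd_ofAdd, toAdd_inv, Matrix.mulVec_neg, hT, M]
      abel
    · simp [u]
  conv_lhs => rw [hconj]
  rw [← MulAut.conj_apply, MulEquiv.orderOf_eq, orderOf_injective _ SemidirectProduct.inr_injective]

end Frobenius

section Octahedral

/-- Matrices of size 4 over `ZMod 13`, coded as lists of naturals. -/
def toM (a : List ℕ) : Matrix (Fin 4) (Fin 4) (ZMod 13) :=
  Matrix.of fun i j => ((a.getD (4 * (i : ℕ) + (j : ℕ)) 0 : ℕ) : ZMod 13)

/-- Coded multiplication. -/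
def mulL (a b : List ℕ) : List ℕ :=
  (List.range 16).map fun r => (a.getD (4 * (r / 4)) 0 * b.getD (r % 4) 0
    + a.getD (4 * (r / 4) + 1) 0 * b.getD (4 + r % 4) 0
    + a.getD (4 * (r / 4) + 2) 0 * b.getD (8 + r % 4) 0
    + a.getD (4 * (r / 4) + 3) 0 * b.getD (12 + r % 4) 0) % 13

theorem toM_mulL (a b : List ℕ) : toM (mulL a b) = toM a * toM b := by
  ext i j
  simp only [toM, mulL, Matrix.of_apply, Matrix.mul_apply, Fin.sum_univ_four]
  have hi := i.isLt
  have hj := j.isLt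
  have h4 : (4 * (i : ℕ) + (j : ℕ)) / 4 = i := by omega
  have h5 : (4 * (i : ℕ) + (j : ℕ)) % 4 = j := by omega
  rw [List.getD_eq_getElem _ _ (by simp; omega)]
  simp [h4, h5, ZMod.natCast_mod]

def oneL : List ℕ := [1, 0, 0, 0, 0, 1, 0, 0, 0, 0, 1, 0, 0, 0, 0, 1]

def negL : List ℕ := [12, 0, 0, 0, 0, 12, 0, 0, 0, 0, 12, 0, 0, 0, 0, 12]

def sL : List ℕ := [0, 6, 0, 0, 3, 0, 0, 0, 0, 0, 0, 9, 0, 0, 11, 0]

def tL : List ℕ := [3, 0, 3, 0, 0, 3, 0, 3, 2, 0, 11, 0, 0, 2, 0, 11]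

/-- The 48 elements of the binary octahedral subgroup of `GL(4,13)`, coded. -/
def octCodes : List (List ℕ) :=
  [[1, 0, 0, 0, 0, 1, 0, 0, 0, 0, 1, 0, 0, 0, 0, 1],
    [0, 6, 0, 0, 3, 0, 0, 0, 0, 0, 0, 9, 0, 0, 11, 0],
    [3, 0, 3, 0, 0, 3, 0, 3, 2, 0, 11, 0, 0, 2, 0, 11],
    [5, 0, 0, 0, 0, 5, 0, 0, 0, 0, 8, 0, 0, 0, 0, 8],
    [0, 5, 0, 1, 9, 0, 7, 0, 0, 12, 0, 8, 6, 0, 4, 0],
    [0, 5, 0, 5, 9, 0, 9, 0, 0, 5, 0, 8, 9, 0, 4, 0],
    [2, 0, 3, 0, 0, 2, 0, 3, 2, 0, 10, 0, 0, 2, 0, 10],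
    [0, 4, 0, 0, 2, 0, 0, 0, 0, 0, 0, 7, 0, 0, 10, 0],
    [2, 0, 11, 0, 0, 2, 0, 11, 10, 0, 10, 0, 0, 10, 0, 10],
    [0, 12, 0, 1, 6, 0, 7, 0, 0, 12, 0, 12, 6, 0, 6, 0],
    [2, 0, 2, 0, 0, 2, 0, 2, 3, 0, 10, 0, 0, 3, 0, 10],
    [0, 12, 0, 5, 6, 0, 9, 0, 0, 5, 0, 12, 9, 0, 6, 0],
    [12, 0, 0, 0, 0, 12, 0, 0, 0, 0, 12, 0, 0, 0, 0, 12],
    [0, 12, 0, 8, 6, 0, 4, 0, 0, 8, 0, 12, 4, 0, 6, 0],
    [10, 0, 11, 0, 0, 10, 0, 11, 10, 0, 2, 0, 0, 10, 0, 2],
    [10, 0, 3, 0, 0, 10, 0, 3, 2, 0, 2, 0, 0, 2, 0, 2],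
    [0, 7, 0, 0, 10, 0, 0, 0, 0, 0, 0, 4, 0, 0, 2, 0],
    [0, 12, 0, 12, 6, 0, 6, 0, 0, 1, 0, 12, 7, 0, 6, 0],
    [2, 0, 10, 0, 0, 2, 0, 10, 11, 0, 10, 0, 0, 11, 0, 10],
    [10, 0, 2, 0, 0, 10, 0, 2, 3, 0, 2, 0, 0, 3, 0, 2],
    [10, 0, 10, 0, 0, 10, 0, 10, 11, 0, 2, 0, 0, 11, 0, 2],
    [0, 8, 0, 8, 4, 0, 4, 0, 0, 8, 0, 5, 4, 0, 9, 0],
    [0, 8, 0, 1, 4, 0, 7, 0, 0, 12, 0, 5, 6, 0, 9, 0],
    [8, 0, 0, 0, 0, 8, 0, 0, 0, 0, 5, 0, 0, 0, 0, 5],
    [0, 8, 0, 5, 4, 0, 9, 0, 0, 5, 0, 5, 9, 0, 9, 0],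
    [0, 8, 0, 12, 4, 0, 6, 0, 0, 1, 0, 5, 7, 0, 9, 0],
    [0, 0, 0, 7, 0, 0, 10, 0, 0, 9, 0, 0, 11, 0, 0, 0],
    [0, 0, 8, 0, 0, 0, 0, 8, 8, 0, 0, 0, 0, 8, 0, 0],
    [0, 0, 12, 0, 0, 0, 0, 12, 1, 0, 0, 0, 0, 1, 0, 0],
    [11, 0, 10, 0, 0, 11, 0, 10, 11, 0, 3, 0, 0, 11, 0, 3],
    [11, 0, 11, 0, 0, 11, 0, 11, 10, 0, 3, 0, 0, 10, 0, 3],
    [0, 9, 0, 0, 11, 0, 0, 0, 0, 0, 0, 6, 0, 0, 3, 0],
    [11, 0, 3, 0, 0, 11, 0, 3, 2, 0, 3, 0, 0, 2, 0, 3],
    [11, 0, 2, 0, 0, 11, 0, 2, 3, 0, 3, 0, 0, 3, 0, 3],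
    [0, 0, 0, 4, 0, 0, 2, 0, 0, 6, 0, 0, 3, 0, 0, 0],
    [0, 1, 0, 12, 7, 0, 6, 0, 0, 1, 0, 1, 7, 0, 7, 0],
    [0, 1, 0, 8, 7, 0, 4, 0, 0, 8, 0, 1, 4, 0, 7, 0],
    [0, 0, 0, 9, 0, 0, 11, 0, 0, 7, 0, 0, 10, 0, 0, 0],
    [3, 0, 10, 0, 0, 3, 0, 10, 11, 0, 11, 0, 0, 11, 0, 11],
    [0, 1, 0, 1, 7, 0, 7, 0, 0, 12, 0, 1, 6, 0, 7, 0],
    [0, 1, 0, 5, 7, 0, 9, 0, 0, 5, 0, 1, 9, 0, 7, 0],
    [0, 0, 5, 0, 0, 0, 0, 5, 5, 0, 0, 0, 0, 5, 0, 0],
    [3, 0, 2, 0, 0, 3, 0, 2, 3, 0, 11, 0, 0, 3, 0, 11],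
    [0, 5, 0, 12, 9, 0, 6, 0, 0, 1, 0, 8, 7, 0, 4, 0],
    [3, 0, 11, 0, 0, 3, 0, 11, 10, 0, 11, 0, 0, 10, 0, 11],
    [0, 0, 1, 0, 0, 0, 0, 1, 12, 0, 0, 0, 0, 12, 0, 0],
    [0, 5, 0, 8, 9, 0, 4, 0, 0, 8, 0, 8, 4, 0, 4, 0],
    [0, 0, 0, 6, 0, 0, 3, 0, 0, 4, 0, 0, 2, 0, 0, 0]]

theorem toM_oneL : toM oneL = 1 := by decide +kernel

theorem toM_negL : toM negL = -1 := by decide +kernel

def octS : Matrix (Fin 4) (Fin 4) (ZMod 13) := toM sL

def octT : Matrix (Fin 4) (Fin 4) (ZMod 13) := toM tL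

theorem octCodes_mul : ∀ x ∈ octCodes, mulL sL x ∈ octCodes ∧ mulL tL x ∈ octCodes := by
  decide +kernel

theorem octCodes_one : oneL ∈ octCodes := by decide +kernel

theorem octCodes_cases : ∀ x ∈ octCodes, x = oneL ∨ (mulL x (mulL x x) = oneL ∧
      ((List.range 16).all fun r => ((mulL x x).getD r 0 + x.getD r 0 + oneL.getD r 0) % 13 == 0) = true)
    ∨ x = negL ∨ mulL x x = negL ∨ mulL x (mulL x x) = negL ∨
    mulL (mulL x x) (mulL x x) = negL := by
  decide +kernel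

theorem octCodes_length : octCodes.length = 48 := by decide +kernel

/-- The 48 elements of the binary octahedral subgroup of `GL(4,13)`. -/
def octList : List (Matrix (Fin 4) (Fin 4) (ZMod 13)) := octCodes.map toM

theorem octList_mul : ∀ x ∈ octList, octS * x ∈ octList ∧ octT * x ∈ octList := by
  intro x hx
  obtain ⟨c, hc, rfl⟩ := List.mem_map.mp hx
  exact ⟨List.mem_map.mpr ⟨_, (octCodes_mul c hc).1, toM_mulL _ _⟩,
    List.mem_map.mpr ⟨_, (octCodes_mul c hc).2, toM_mulL _ _⟩⟩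

theorem octList_one : (1 : Matrix (Fin 4) (Fin 4) (ZMod 13)) ∈ octList :=
  List.mem_map.mpr ⟨_, octCodes_one, toM_oneL⟩

theorem octList_cases : ∀ x ∈ octList, x = 1 ∨ x ^ 2 + x + 1 = 0 ∨ x = -1 ∨ x ^ 2 = -1 ∨
    x ^ 3 = -1 ∨ x ^ 4 = -1 := by
  intro x hx
  obtain ⟨c, hc, rfl⟩ := List.mem_map.mp hx
  rcases octCodes_cases c hc with h | ⟨-, h⟩ | h | h | h | h
  · exact Or.inl (by rw [h, toM_oneL])
  · refine Or.inr (Or.inl ?_)
    rw [pow_two, ← toM_mulL, ← toM_oneL]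
    ext i j
    simp only [toM, Matrix.add_apply, Matrix.of_apply, Matrix.zero_apply, ← Nat.cast_add]
    rw [ZMod.natCast_eq_zero_iff, Nat.dvd_iff_mod_eq_zero]
    have hlt : 4 * (i : ℕ) + (j : ℕ) < 16 := by have := i.isLt; have := j.isLt; omega
    exact beq_iff_eq.mp (List.all_eq_true.mp h _ (List.mem_range.mpr hlt))
  · exact Or.inr (Or.inr (Or.inl (by rw [h, toM_negL])))
  · exact Or.inr (Or.inr (Or.inr (Or.inl (by rw [pow_two, ← toM_mulL, h, toM_negL]))))
  · refine Or.inr (Or.inr (Or.inr (Or.inr (Or.inl ?_))))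
    rw [pow_succ', pow_two, ← toM_mulL, ← toM_mulL, h, toM_negL]
  · refine Or.inr (Or.inr (Or.inr (Or.inr (Or.inr ?_))))
    rw [(by rw [← pow_add] : toM c ^ 4 = toM c ^ 2 * toM c ^ 2), pow_two, ← toM_mulL, ← toM_mulL, h, toM_negL]

theorem octS_pow : octS ^ 8 = 1 ∧ octS ^ 4 ≠ 1 := by
  have h4 : octS ^ 4 = -1 := by
    have h : mulL (mulL sL sL) (mulL sL sL) = negL := by decide +kernel
    rw [octS, (by rw [← pow_add] : toM sL ^ 4 = toM sL ^ 2 * toM sL ^ 2), pow_two, ← toM_mulL, ← toM_mulL, h, toM_negL]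
  refine ⟨by rw [show 8 = 4 * 2 from rfl, pow_mul, h4, Even.neg_one_pow (by decide)], ?_⟩
  rw [h4]
  intro h
  exact absurd (congrFun (congrFun h 0) 0) (by decide)

theorem octT_pow : octT ^ 6 = 1 ∧ octT ^ 2 ≠ 1 ∧ octT ^ 3 ≠ 1 := by
  have h3 : octT ^ 3 = -1 := by
    have h : mulL tL (mulL tL tL) = negL := by decide +kernel
    rw [octT, pow_succ', pow_two, ← toM_mulL, ← toM_mulL, h, toM_negL]
  refine ⟨by rw [show 6 = 3 * 2 from rfl, pow_mul, h3, Even.neg_one_pow (by decide)], ?_, ?_⟩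
  · rw [octT, pow_two, ← toM_mulL]
    intro h
    exact absurd (congrFun (congrFun h 0) 0) (by decide +kernel)
  · rw [h3]
    intro h
    exact absurd (congrFun (congrFun h 0) 0) (by decide)

def uS : (Matrix (Fin 4) (Fin 4) (ZMod 13))ˣ :=
  ⟨octS, octS ^ 7, by rw [← pow_succ']; exact octS_pow.1, by rw [← pow_succ]; exact octS_pow.1⟩

def uT : (Matrix (Fin 4) (Fin 4) (ZMod 13))ˣ :=
  ⟨octT, octT ^ 5, by rw [← pow_succ']; exact octT_pow.1, by rw [← pow_succ]; exact octT_pow.1⟩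

/-- The binary octahedral group in `GL(4,13)`. -/
def oct : Subgroup (Matrix (Fin 4) (Fin 4) (ZMod 13))ˣ := Subgroup.closure {uS, uT}

theorem mem_octList {k : (Matrix (Fin 4) (Fin 4) (ZMod 13))ˣ} (hk : k ∈ oct) :
    (k : Matrix (Fin 4) (Fin 4) (ZMod 13)) ∈ octList := by
  rw [oct, ← Subgroup.mem_toSubmonoid, Subgroup.closure_toSubmonoid_of_finite] at hk
  induction hk using Submonoid.closure_induction_left with
  | one => exact octList_one
  | mul_left x hx y _ ih =>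
    rcases Set.mem_insert_iff.mp hx with rfl | hx
    · exact (octList_mul _ ih).1
    · rw [Set.mem_singleton_iff.mp hx]; exact (octList_mul _ ih).2

theorem oct_fpf : ∀ k ∈ oct, k ≠ 1 → ∀ v : Fin 4 → ZMod 13,
    Matrix.mulVec ((k : (Matrix (Fin 4) (Fin 4) (ZMod 13))ˣ) :
      Matrix (Fin 4) (Fin 4) (ZMod 13)) v = v → v = 0 := by
  intro k hk hne v hv
  have h2 : ∀ n : ℕ, ((k : Matrix (Fin 4) (Fin 4) (ZMod 13)) ^ n).mulVec v = v := by
    intro n
    induction n with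
    | zero => simp
    | succ n ih => rw [pow_succ, ← Matrix.mulVec_mulVec, hv, ih]
  have hneg : ∀ n : ℕ, (k : Matrix (Fin 4) (Fin 4) (ZMod 13)) ^ n = -1 → v = 0 := by
    intro n hn
    have := h2 n
    rw [hn, Matrix.neg_mulVec, Matrix.one_mulVec] at this
    funext i
    exact (show ∀ a : ZMod 13, -a = a → a = 0 by decide) _ (congrFun this i)
  rcases octList_cases _ (mem_octList hk) with h | h | h | h | h | h
  · exact absurd (Units.ext h) hne
  · have := congrArg (fun M : Matrix (Fin 4) (Fin 4) (ZMod 13) => M.mulVec v) h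
    simp only [Matrix.add_mulVec, h2 2, hv, Matrix.one_mulVec, Matrix.zero_mulVec] at this
    funext i
    exact (show ∀ a : ZMod 13, a + a + a = 0 → a = 0 by decide) _ (congrFun this i)
  · exact hneg 1 (by rw [pow_one]; exact h)
  · exact hneg 2 h
  · exact hneg 3 h
  · exact hneg 4 h

theorem card_oct_le : Nat.card ↥oct < 60 := by
  classical
  have hinj : Function.Injective (fun k : ↥oct =>
      (⟨((k : (Matrix (Fin 4) (Fin 4) (ZMod 13))ˣ) : Matrix (Fin 4) (Fin 4) (ZMod 13)),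
        List.mem_toFinset.mpr (mem_octList k.2)⟩ : ↥octList.toFinset)) := by
    intro a b h
    exact Subtype.ext (Units.ext (congrArg Subtype.val h))
  have h := Nat.card_le_card_of_injective _ hinj
  rw [Nat.card_eq_fintype_card (α := ↥octList.toFinset), Fintype.card_coe] at h
  have h' : octList.length = 48 := by rw [octList, List.length_map, octCodes_length]
  have := octList.toFinset_card_le
  omega

/-- The solvable twin. -/
abbrev Twin : Type := Multiplicative (Fin 4 → ZMod 13) ⋊[vecAut oct] ↥oct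

instance : Finite Twin := Finite.of_equiv _ SemidirectProduct.equivProd.symm

theorem twin_solvable : Group.IsSolvable Twin := by
  have hK : Group.IsSolvable ↥oct :=
    Cfsg.Lib.Presentations.isSolvable_of_card_lt_sixty _ _ rfl card_oct_le
  exact Group.isSolvable_of_ker_le_range (SemidirectProduct.inl :
    Multiplicative (Fin 4 → ZMod 13) →* Twin) (SemidirectProduct.rightHom : Twin →* ↥oct)
    (le_of_eq SemidirectProduct.range_inl_eq_ker_rightHom.symm)

theorem twin_spectrum : Set.range (orderOf : Twin → ℕ) = {m | ∃ n ∈ ({6, 8, 13} : Finset ℕ), m ∣ n} := by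
  apply range_orderOf_eq
  · intro x
    by_cases hx : x.right = 1
    · refine ⟨13, by decide, ?_⟩
      have hx' : x = SemidirectProduct.inl x.left := SemidirectProduct.ext (by simp) (by simp [hx])
      rw [hx', ← map_pow]
      have : x.left ^ 13 = 1 := by
        apply Multiplicative.toAdd.injective
        funext i
        simp only [toAdd_pow, Pi.smul_apply, toAdd_one, Pi.zero_apply, nsmul_eq_mul]
        rw [ZMod.natCast_self, zero_mul]
      rw [this, map_one]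
    · have ho := orderOf_semidirect oct oct_fpf x hx
      have hk := x.right.2
      have hne : (x.right : (Matrix (Fin 4) (Fin 4) (ZMod 13))ˣ) ≠ 1 := fun e => hx (Subtype.ext e)
      have key : ∀ n : ℕ, ((x.right : (Matrix (Fin 4) (Fin 4) (ZMod 13))ˣ) :
          Matrix (Fin 4) (Fin 4) (ZMod 13)) ^ n = 1 → x ^ n = 1 := by
        intro n hn
        rw [← orderOf_dvd_iff_pow_eq_one, ho, ← Subgroup.orderOf_coe, orderOf_dvd_iff_pow_eq_one]
        exact Units.ext (by simpa using hn)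
      set M := ((x.right : (Matrix (Fin 4) (Fin 4) (ZMod 13))ˣ) : Matrix (Fin 4) (Fin 4) (ZMod 13))
      rcases octList_cases _ (mem_octList hk) with h | h | h | h | h | h
      · exact absurd (Units.ext h) hne
      · refine ⟨6, by decide, key 6 ?_⟩
        have h3 : M ^ 3 = 1 := by
          have : M ^ 3 - 1 = (M - 1) * (M ^ 2 + M + 1) := by noncomm_ring
          rw [h, mul_zero, sub_eq_zero] at this
          exact this
        rw [show 6 = 3 * 2 from rfl, pow_mul, h3, one_pow]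
      · refine ⟨6, by decide, key 6 ?_⟩
        rw [show M = -1 from h, Even.neg_one_pow (by decide)]
      · refine ⟨8, by decide, key 8 ?_⟩
        rw [show 8 = 2 * 4 from rfl, pow_mul, h, Even.neg_one_pow (by decide)]
      · refine ⟨6, by decide, key 6 ?_⟩
        rw [show 6 = 3 * 2 from rfl, pow_mul, h, Even.neg_one_pow (by decide)]
      · refine ⟨8, by decide, key 8 ?_⟩
        rw [show 8 = 4 * 2 from rfl, pow_mul, h, Even.neg_one_pow (by decide)]
  · have hS : uS ∈ oct := Subgroup.subset_closure (Set.mem_insert _ _)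
    have hT : uT ∈ oct := Subgroup.subset_closure (Set.mem_insert_of_mem _ rfl)
    have oS : orderOf octS = 8 := by
      haveI : Fact (Nat.Prime 2) := ⟨Nat.prime_two⟩
      exact orderOf_eq_prime_pow (p := 2) (n := 2) octS_pow.2 octS_pow.1
    have oT : orderOf octT = 6 := (orderOf_eq_iff (by decide)).mpr
      ⟨octT_pow.1, fun m hm h0 h => by
        have hd : octT ^ Nat.gcd m 6 = 1 := pow_gcd_eq_one.mpr ⟨h, octT_pow.1⟩
        interval_cases m
        · exact octT_pow.2.1 (by rw [pow_two]; simp only [show Nat.gcd 1 6 = 1 from rfl, pow_one] at hd; rw [hd, one_mul])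
        · exact octT_pow.2.1 h
        · exact octT_pow.2.2 h
        · exact octT_pow.2.1 hd
        · exact octT_pow.2.1 (by simp only [show Nat.gcd 5 6 = 1 from rfl, pow_one] at hd; rw [hd, one_pow])⟩
    intro n hn
    simp only [Finset.mem_insert, Finset.mem_singleton] at hn
    rcases hn with rfl | rfl | rfl
    · refine ⟨SemidirectProduct.inr ⟨uT, hT⟩, ?_⟩
      rw [orderOf_injective _ SemidirectProduct.inr_injective, ← Subgroup.orderOf_coe,
        ← orderOf_units]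
      exact oT
    · refine ⟨SemidirectProduct.inr ⟨uS, hS⟩, ?_⟩
      rw [orderOf_injective _ SemidirectProduct.inr_injective, ← Subgroup.orderOf_coe,
        ← orderOf_units]
      exact oS
    · refine ⟨SemidirectProduct.inl (Multiplicative.ofAdd (fun _ => 1)), ?_⟩
      rw [orderOf_injective _ SemidirectProduct.inl_injective, orderOf_ofAdd_eq_addOrderOf]
      haveI : Fact (Nat.Prime 13) := ⟨by norm_num⟩
      apply addOrderOf_eq_prime
      · funext i
        simp [ZMod.natCast_self]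
        rfl
      · intro h
        exact one_ne_zero (congrFun h 0)

end Octahedral

end Cfsg.Agent.Spectra
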