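import Mathlib
import Cfsg.Agent.Spectra.SolvableTwins

/-!
The element orders of `PSL(3,3)`.
-/

set_option autoImplicit false

namespace Cfsg.Agent.Spectra

open Matrix

/-- The Cayley-Hamilton theorem for three by three matrices, explicitly. -/
theorem cayley_three {R : Type*} [CommRing R] (M : Matrix (Fin 3) (Fin 3) R) :
    M * (M * M) = (M 0 0 + M 1 1 + M 2 2) • (M * M)
      - (M 0 0 * M 1 1 - M 0 1 * M 1 0 + (M 0 0 * M 2 2 - M 0 2 * M 2 0)
          + (M 1 1 * M 2 2 - M 1 2 * M 2 1)) • M + M.det • 1 := by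
  ext i j
  fin_cases i <;> fin_cases j <;>
    simp [Matrix.det_fin_three, Matrix.mul_apply, Fin.sum_univ_three] <;> ring

/-- One step of the linear recursion for the powers of a cubic root. -/
def cubicStep {R : Type*} [CommRing R] (a b : R) (c : R × R × R) : R × R × R :=
  (c.1 * a + c.2.1, -(c.1 * b) + c.2.2, c.1)

theorem pow_eq_cubicStep {R : Type*} [CommRing R] (M : Matrix (Fin 3) (Fin 3) R) (a b : R)
    (h : M * (M * M) = a • (M * M) - b • M + 1) (n : ℕ) :
    M ^ n = ((cubicStep a b)^[n] (0, 0, 1)).1 • (M * M) + ((cubicStep a b)^[n] (0, 0, 1)).2.1 • M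
      + ((cubicStep a b)^[n] (0, 0, 1)).2.2 • (1 : Matrix (Fin 3) (Fin 3) R) := by
  induction n with
  | zero => simp
  | succ n ih =>
    rw [pow_succ', ih, Function.iterate_succ_apply']
    generalize (cubicStep a b)^[n] (0, 0, 1) = c
    simp only [cubicStep, mul_add, Matrix.mul_smul, mul_one, h]
    module

theorem cubic_periods : ∀ a b : ZMod 3, ∃ n ∈ ({6, 8, 13} : Finset ℕ),
    (cubicStep a b)^[n] (0, 0, 1) = (0, 0, 1) := by
  decide +kernel

theorem sl_three_three_pow (M : Matrix.SpecialLinearGroup (Fin 3) (ZMod 3)) :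
    ∃ n ∈ ({6, 8, 13} : Finset ℕ), M ^ n = 1 := by
  obtain ⟨A, hA⟩ := M
  have h := cayley_three A
  rw [hA, one_smul] at h
  obtain ⟨n, hn, hc⟩ := cubic_periods (A 0 0 + A 1 1 + A 2 2)
    (A 0 0 * A 1 1 - A 0 1 * A 1 0 + (A 0 0 * A 2 2 - A 0 2 * A 2 0)
          + (A 1 1 * A 2 2 - A 1 2 * A 2 1))
  refine ⟨n, hn, Subtype.ext ?_⟩
  show A ^ n = 1
  rw [pow_eq_cubicStep A _ _ h n, hc]
  simp

def w6 : Matrix.SpecialLinearGroup (Fin 3) (ZMod 3) :=
  ⟨!![1, 0, 0; 0, 2, 1; 0, 0, 2], by decide +kernel⟩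

def w8 : Matrix.SpecialLinearGroup (Fin 3) (ZMod 3) :=
  ⟨!![2, 0, 0; 0, 0, 1; 0, 1, 1], by decide +kernel⟩

def w13 : Matrix.SpecialLinearGroup (Fin 3) (ZMod 3) :=
  ⟨!![0, 0, 1; 1, 0, 1; 0, 1, 0], by decide +kernel⟩

theorem w6_order : orderOf w6 = 6 := (orderOf_eq_iff (by decide)).mpr
  ⟨by decide +kernel, fun m hm h0 => by interval_cases m <;> decide +kernel⟩

theorem w8_order : orderOf w8 = 8 := (orderOf_eq_iff (by decide)).mpr
  ⟨by decide +kernel, fun m hm h0 => by interval_cases m <;> decide +kernel⟩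

theorem w13_order : orderOf w13 = 13 := (orderOf_eq_iff (by decide)).mpr
  ⟨by decide +kernel, fun m hm h0 => by interval_cases m <;> decide +kernel⟩

theorem sl_three_three_spectrum :
    Set.range (orderOf : Matrix.SpecialLinearGroup (Fin 3) (ZMod 3) → ℕ)
      = {m | ∃ n ∈ ({6, 8, 13} : Finset ℕ), m ∣ n} := by
  apply range_orderOf_eq
  · exact sl_three_three_pow
  · intro n hn
    simp only [Finset.mem_insert, Finset.mem_singleton] at hn
    rcases hn with rfl | rfl | rfl
    · exact ⟨w6, w6_order⟩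
    · exact ⟨w8, w8_order⟩
    · exact ⟨w13, w13_order⟩

theorem psl_three_three_spectrum {F : Type*} [Field F] [Fintype F] (hF : Fintype.card F = 3) :
    Set.range (orderOf : Matrix.ProjectiveSpecialLinearGroup (Fin 3) F → ℕ)
      = {m | ∃ n ∈ ({6, 8, 13} : Finset ℕ), m ∣ n} := by
  have hc : Subgroup.center (Matrix.SpecialLinearGroup (Fin 3) F) = ⊥ := by
    rw [Subgroup.eq_bot_iff_forall]
    intro A hA
    rw [Matrix.SpecialLinearGroup.mem_center_iff] at hA
    obtain ⟨r, hr, hAr⟩ := hA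
    have h3 : r ^ 3 = r := by
      have := FiniteField.pow_card r
      rwa [hF] at this
    rw [Fintype.card_fin, h3] at hr
    apply Subtype.ext
    rw [← hAr, hr, map_one]
    rfl
  let e1 : Matrix.ProjectiveSpecialLinearGroup (Fin 3) F ≃* Matrix.SpecialLinearGroup (Fin 3) F :=
    (QuotientGroup.quotientMulEquivOfEq hc).trans QuotientGroup.quotientBot
  haveI : Fact (Nat.Prime 3) := ⟨Nat.prime_three⟩
  let eR : ZMod 3 ≃+* F := ZMod.ringEquivOfPrime F Nat.prime_three hF
  let f : Matrix.SpecialLinearGroup (Fin 3) F →* Matrix.SpecialLinearGroup (Fin 3) (ZMod 3) :=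
    Matrix.SpecialLinearGroup.map eR.symm.toRingHom
  have hf : Function.Bijective f := by
    refine ⟨fun A B h => ?_, fun A => ⟨Matrix.SpecialLinearGroup.map eR.toRingHom A, ?_⟩⟩
    · apply Subtype.ext
      ext i j
      have := congrArg (fun C : Matrix.SpecialLinearGroup (Fin 3) (ZMod 3) =>
        (C : Matrix (Fin 3) (Fin 3) (ZMod 3)) i j) h
      simpa [f] using this
    · apply Subtype.ext
      ext i j
      simp [f]
  let e : Matrix.ProjectiveSpecialLinearGroup (Fin 3) F ≃*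
      Matrix.SpecialLinearGroup (Fin 3) (ZMod 3) := e1.trans (MulEquiv.ofBijective f hf)
  rw [← sl_three_three_spectrum]
  ext m
  constructor
  · rintro ⟨x, rfl⟩
    exact ⟨e x, e.orderOf_eq x⟩
  · rintro ⟨x, rfl⟩
    exact ⟨e.symm x, e.symm.orderOf_eq x⟩

end Cfsg.Agent.Spectra
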