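import Mathlib
import Cfsg.Agent.Spectra.SolvableTwins

/-!
A `3`-group of exponent 9 with a fixed point free action of a group of order 20 in which every
element fixed by an involution has cube one; the semidirect product has element orders
`{1, 2, 3, 4, 5, 6, 9, 12}`.
-/

set_option autoImplicit false

namespace Cfsg.Agent.Spectra.Twist

/-- Triples of superdiagonal data, the two kinds of products of adjacent data, and triple products. -/
@[ext]
structure CubeGrp (R : Type) where
  a : Fin 4 → R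
  b : Fin 4 → R
  c : Fin 4 → R
  u : Fin 4 → R
  v : Fin 4 → R
  w : Fin 4 → R
  z : Fin 4 → R
  top : Fin 4 → R

variable {R : Type}

instance [Finite R] : Finite (CubeGrp R) :=
  Finite.of_injective (fun x => (x.a, x.b, x.c, x.u, x.v, x.w, x.z, x.top)) (fun x y h => by
    simp only [Prod.mk.injEq] at h
    obtain ⟨h1, h2, h3, h4, h5, h6, h7, h8⟩ := h
    exact CubeGrp.ext h1 h2 h3 h4 h5 h6 h7 h8)

variable [CommRing R]

instance : Mul (CubeGrp R) := ⟨fun x y =>
  { a := fun i => x.a i + y.a i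
    b := fun i => x.b i + y.b i
    c := fun i => x.c i + y.c i
    u := fun i => x.u i + y.u i + x.a (i + 1) * y.b i
    v := fun i => x.v i + y.v i + x.a (i + 3) * y.b i
    w := fun i => x.w i + y.w i + x.b i * y.c (i + 3)
    z := fun i => x.z i + y.z i + x.b i * y.c (i + 1)
    top := fun i => x.top i + y.top i + x.u i * y.c (i + 3) - x.v i * y.c (i + 1)
      + x.a (i + 1) * y.w i - x.a (i + 3) * y.z i }⟩

instance : One (CubeGrp R) := ⟨⟨0, 0, 0, 0, 0, 0, 0, 0⟩⟩

instance : Inv (CubeGrp R) := ⟨fun x =>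
  { a := fun i => -x.a i
    b := fun i => -x.b i
    c := fun i => -x.c i
    u := fun i => -x.u i + x.a (i + 1) * x.b i
    v := fun i => -x.v i + x.a (i + 3) * x.b i
    w := fun i => -x.w i + x.b i * x.c (i + 3)
    z := fun i => -x.z i + x.b i * x.c (i + 1)
    top := fun i => -x.top i + (x.u i * x.c (i + 3) - x.v i * x.c (i + 1)
      + x.a (i + 1) * x.w i - x.a (i + 3) * x.z i)
      - (x.a (i + 1) * x.b i * x.c (i + 3) - x.a (i + 3) * x.b i * x.c (i + 1)) }⟩

theorem mul_def (x y : CubeGrp R) : x * y =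
  { a := fun i => x.a i + y.a i
    b := fun i => x.b i + y.b i
    c := fun i => x.c i + y.c i
    u := fun i => x.u i + y.u i + x.a (i + 1) * y.b i
    v := fun i => x.v i + y.v i + x.a (i + 3) * y.b i
    w := fun i => x.w i + y.w i + x.b i * y.c (i + 3)
    z := fun i => x.z i + y.z i + x.b i * y.c (i + 1)
    top := fun i => x.top i + y.top i + x.u i * y.c (i + 3) - x.v i * y.c (i + 1)
      + x.a (i + 1) * y.w i - x.a (i + 3) * y.z i } := rfl

theorem one_def : (1 : CubeGrp R) = ⟨0, 0, 0, 0, 0, 0, 0, 0⟩ := rfl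

theorem inv_def (x : CubeGrp R) : x⁻¹ =
  { a := fun i => -x.a i
    b := fun i => -x.b i
    c := fun i => -x.c i
    u := fun i => -x.u i + x.a (i + 1) * x.b i
    v := fun i => -x.v i + x.a (i + 3) * x.b i
    w := fun i => -x.w i + x.b i * x.c (i + 3)
    z := fun i => -x.z i + x.b i * x.c (i + 1)
    top := fun i => -x.top i + (x.u i * x.c (i + 3) - x.v i * x.c (i + 1)
      + x.a (i + 1) * x.w i - x.a (i + 3) * x.z i)
      - (x.a (i + 1) * x.b i * x.c (i + 3) - x.a (i + 3) * x.b i * x.c (i + 1)) } := rfl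

instance : Group (CubeGrp R) where
  mul_assoc x y z := by ext i <;> simp only [mul_def] <;> ring
  one_mul x := by ext i <;> simp [mul_def, one_def]
  mul_one x := by ext i <;> simp [mul_def, one_def]
  inv_mul_cancel x := by
    ext i <;> simp only [mul_def, one_def, inv_def, Pi.zero_apply] <;> ring

/-- Shifting all indices. -/
def shift : MulAut (CubeGrp R) where
  toFun x := ⟨fun i => x.a (i + 1), fun i => x.b (i + 1), fun i => x.c (i + 1), fun i => x.u (i + 1),
    fun i => x.v (i + 1), fun i => x.w (i + 1), fun i => x.z (i + 1), fun i => x.top (i + 1)⟩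
  invFun x := ⟨fun i => x.a (i + 3), fun i => x.b (i + 3), fun i => x.c (i + 3), fun i => x.u (i + 3),
    fun i => x.v (i + 3), fun i => x.w (i + 3), fun i => x.z (i + 3), fun i => x.top (i + 3)⟩
  left_inv x := by
    ext i <;> simp only [add_assoc, show (3 : Fin 4) + 1 = 0 from rfl, add_zero]
  right_inv x := by
    ext i <;> simp only [add_assoc, show (1 : Fin 4) + 3 = 0 from rfl, add_zero]
  map_mul' x y := by
    ext i <;> simp only [mul_def, add_assoc, add_comm (1 : Fin 4) 3]

/-- The weight of the index `i`. -/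
def wt (i : Fin 4) : ℕ := 2 ^ (i : ℕ) % 5

theorem wt_add (i : Fin 4) : (wt (i + 1) + wt i) % 5 = wt (i + 3) ∧ (wt (i + 3) + wt i) % 5 = wt (i + 2)
    ∧ (wt (i + 3) + wt (i + 3)) % 5 = wt i ∧ (wt (i + 2) + wt (i + 1)) % 5 = wt i
    ∧ (wt (i + 1) + wt (i + 2)) % 5 = wt i ∧ wt (i + 1) = 2 * wt i % 5 := by
  revert i; decide

theorem wt_not_dvd (i : Fin 4) : ¬ 5 ∣ wt i := by revert i; decide

theorem wt_table : ∀ i : Fin 4, 2 * wt i % 5 = wt (i + 1) := by decide

theorem mulAut_pow_apply {G : Type*} [Group G] (f : MulAut G) (n : ℕ) (x : G) :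
    (f ^ n) x = (⇑f)^[n] x := by
  induction n generalizing x with
  | zero => rfl
  | succ n ih => rw [pow_succ, MulAut.mul_apply, ih, Function.iterate_succ_apply]

section Scale

variable {e : R} (he : e ^ 5 = 1)

theorem pow_mod_five (he : e ^ 5 = 1) (n : ℕ) : e ^ n = e ^ (n % 5) := pow_eq_pow_mod n he

/-- Scaling by the weights, as a homomorphism. -/
def scale (he : e ^ 5 = 1) (n : ℕ) : CubeGrp R →* CubeGrp R where
  toFun x := ⟨fun i => e ^ (n * wt i) * x.a i, fun i => e ^ (n * wt i) * x.b i,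
    fun i => e ^ (n * wt i) * x.c i, fun i => e ^ (n * wt (i + 3)) * x.u i,
    fun i => e ^ (n * wt (i + 2)) * x.v i, fun i => e ^ (n * wt (i + 2)) * x.w i,
    fun i => e ^ (n * wt (i + 3)) * x.z i, fun i => e ^ (n * wt i) * x.top i⟩
  map_one' := by ext i <;> simp [one_def]
  map_mul' x y := by
    have key : ∀ p q r : ℕ, (p + q) % 5 = r → e ^ (n * r) = e ^ (n * p) * e ^ (n * q) := by
      intro p q r h
      rw [← pow_add, ← Nat.mul_add, pow_mod_five he (n * (p + q)), pow_mod_five he (n * r), ← h,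
        Nat.mul_mod, Nat.mul_mod n (p + q), Nat.mod_mod]
    ext i <;> simp only [mul_def]
    · ring
    · ring
    · ring
    · rw [key _ _ _ (wt_add i).1]; ring
    · rw [key _ _ _ (wt_add i).2.1]; ring
    · rw [key (wt i) (wt (i + 3)) _ (by rw [Nat.add_comm]; exact (wt_add i).2.1)]; ring
    · rw [key (wt i) (wt (i + 1)) _ (by rw [Nat.add_comm]; exact (wt_add i).1)]; ring
    · have h1 := key _ _ _ (wt_add i).2.2.1
      have h2 := key _ _ _ (wt_add i).2.2.2.1
      have h3 := key _ _ _ (wt_add i).2.2.2.2.1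
      linear_combination (x.u i * y.c (i + 3)) * h1 - (x.v i * y.c (i + 1)) * h2
        + (x.a (i + 1) * y.w i) * h3 - (x.a (i + 3) * y.z i) * h1

theorem scale_comp (n m : ℕ) (x : CubeGrp R) : scale he n (scale he m x) = scale he (n + m) x := by
  ext i <;> simp [scale, ← mul_assoc, ← pow_add, ← Nat.add_mul]

theorem scale_five (n : ℕ) (hn : 5 ∣ n) (x : CubeGrp R) : scale he n x = x := by
  obtain ⟨k, rfl⟩ := hn
  ext i <;> simp [scale, Nat.mul_assoc, pow_mul, he]

/-- Scaling by the weights, as an automorphism. -/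
def scaleAut (he : e ^ 5 = 1) : MulAut (CubeGrp R) where
  toFun := scale he 1
  invFun := scale he 4
  left_inv x := by rw [scale_comp, scale_five he _ (dvd_refl 5)]
  right_inv x := by rw [scale_comp, scale_five he _ (dvd_refl 5)]
  map_mul' := map_mul (scale he 1)

theorem scaleAut_pow_apply (n : ℕ) (x : CubeGrp R) : (scaleAut he ^ n) x = scale he n x := by
  rw [mulAut_pow_apply]
  induction n with
  | zero => exact (scale_five he 0 (dvd_zero 5) x).symm
  | succ n ih =>
    rw [Function.iterate_succ_apply', ih]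
    show scale he 1 (scale he n x) = _
    rw [scale_comp, Nat.add_comm]

theorem scaleAut_pow_five : scaleAut he ^ 5 = 1 := by
  ext1 x
  rw [scaleAut_pow_apply, scale_five he _ (dvd_refl 5)]
  rfl

theorem shift_pow_four : (shift : MulAut (CubeGrp R)) ^ 4 = 1 := by
  ext1 x
  rw [mulAut_pow_apply]
  show shift (shift (shift (shift x))) = x
  ext i <;> simp [shift, add_assoc, show (1 : Fin 4) + (1 + (1 + 1)) = 0 from rfl]

theorem shift_scale : shift * scaleAut he = scaleAut he ^ 2 * shift := by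
  ext1 x
  rw [MulAut.mul_apply, MulAut.mul_apply, scaleAut_pow_apply]
  show shift (scale he 1 x) = scale he 2 (shift x)
  have key : ∀ j : Fin 4, e ^ (1 * wt (j + 1)) = e ^ (2 * wt j) := fun j => by
    rw [one_mul, pow_mod_five he (2 * wt j), wt_table]
  ext i <;> simp only [shift, scale, MulEquiv.coe_mk, Equiv.coe_fn_mk, MonoidHom.coe_mk, OneHom.coe_mk]
  · rw [key]
  · rw [key]
  · rw [key]
  · rw [show i + 1 + 3 = i + 3 + 1 from add_right_comm i 1 3, key]
  · rw [show i + 1 + 2 = i + 2 + 1 from add_right_comm i 1 2, key]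
  · rw [show i + 1 + 2 = i + 2 + 1 from add_right_comm i 1 2, key]
  · rw [show i + 1 + 3 = i + 3 + 1 from add_right_comm i 1 3, key]
  · rw [key]

theorem shift_scale_pow (n : ℕ) : shift * scaleAut he ^ n = scaleAut he ^ (2 * n) * shift := by
  induction n with
  | zero => simp
  | succ n ih =>
    rw [pow_succ, ← mul_assoc, ih, mul_assoc, shift_scale, ← mul_assoc, ← pow_add, Nat.mul_succ]

theorem shift_pow_scale_pow (j n : ℕ) :
    shift ^ j * scaleAut he ^ n = scaleAut he ^ (2 ^ j * n) * shift ^ j := by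
  induction j with
  | zero => simp
  | succ j ih =>
    rw [pow_succ', mul_assoc, ih, ← mul_assoc, shift_scale_pow, mul_assoc, pow_succ' 2 j,
      Nat.mul_assoc 2]

/-- The group of order 20. -/
def twistGrp (he : e ^ 5 = 1) : Subgroup (MulAut (CubeGrp R)) where
  carrier := {f | ∃ (i : Fin 5) (j : Fin 4), f = scaleAut he ^ (i : ℕ) * shift ^ (j : ℕ)}
  mul_mem' := by
    rintro _ _ ⟨i, j, rfl⟩ ⟨i', j', rfl⟩
    refine ⟨⟨(i + 2 ^ (j : ℕ) * i') % 5, Nat.mod_lt _ (by norm_num)⟩,
      ⟨(j + j') % 4, Nat.mod_lt _ (by norm_num)⟩, ?_⟩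
    rw [← pow_eq_pow_mod _ (scaleAut_pow_five he), ← pow_eq_pow_mod _ shift_pow_four, pow_add, pow_add,
      ← mul_assoc, mul_assoc (scaleAut he ^ (i : ℕ)), shift_pow_scale_pow]
    simp only [mul_assoc]
  one_mem' := ⟨0, 0, by simp⟩
  inv_mem' := by
    rintro _ ⟨i, j, rfl⟩
    refine ⟨⟨(2 ^ (4 - (j : ℕ)) * (5 - (i : ℕ))) % 5, Nat.mod_lt _ (by norm_num)⟩,
      ⟨(4 - (j : ℕ)) % 4, Nat.mod_lt _ (by norm_num)⟩, ?_⟩
    rw [← pow_eq_pow_mod _ (scaleAut_pow_five he), ← pow_eq_pow_mod _ shift_pow_four,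
      ← shift_pow_scale_pow]
    apply inv_eq_of_mul_eq_one_right
    rw [mul_assoc, ← mul_assoc (shift ^ (j : ℕ)), ← pow_add,
      show (j : ℕ) + (4 - (j : ℕ)) = 4 by omega, shift_pow_four, one_mul, ← pow_add,
      show (i : ℕ) + (5 - (i : ℕ)) = 5 by omega, scaleAut_pow_five]

theorem card_twistGrp_le : Nat.card ↥(twistGrp he) < 60 := by
  have hs : Function.Surjective (fun p : Fin 5 × Fin 4 => (⟨scaleAut he ^ (p.1 : ℕ) * shift ^ (p.2 : ℕ),
      p.1, p.2, rfl⟩ : ↥(twistGrp he))) := by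
    rintro ⟨f, i, j, rfl⟩
    exact ⟨(i, j), rfl⟩
  have := Nat.card_le_card_of_surjective _ hs
  simp at this
  omega

end Scale

section Orders

variable [CharP R 3]

theorem three_eq : (3 : R) = 0 := by exact_mod_cast CharP.cast_eq_zero R 3

theorem cube_eq (x : CubeGrp R) : x ^ 3 =
    ⟨0, 0, 0, 0, 0, 0, 0, fun i =>
      x.a (i + 1) * x.b i * x.c (i + 3) - x.a (i + 3) * x.b i * x.c (i + 1)⟩ := by
  rw [pow_succ, pow_two]
  have h3 := three_eq (R := R)
  ext i <;> simp only [mul_def, Pi.zero_apply]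
  · linear_combination (x.a i) * h3
  · linear_combination (x.b i) * h3
  · linear_combination (x.c i) * h3
  · linear_combination (x.u i + x.a (i + 1) * x.b i) * h3
  · linear_combination (x.v i + x.a (i + 3) * x.b i) * h3
  · linear_combination (x.w i + x.b i * x.c (i + 3)) * h3
  · linear_combination (x.z i + x.b i * x.c (i + 1)) * h3
  · linear_combination (x.top i + (x.u i * x.c (i + 3) - x.v i * x.c (i + 1))
      + (x.a (i + 1) * x.w i - x.a (i + 3) * x.z i)) * h3

theorem pow_nine (x : CubeGrp R) : x ^ 9 = 1 := by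
  rw [show 9 = 3 * 3 from rfl, pow_mul, cube_eq, cube_eq]
  ext i <;> simp [one_def]

theorem cube_eq_one_of_periodic (x : CubeGrp R) (ha : ∀ i, x.a (i + 2) = x.a i)
    (hc : ∀ i, x.c (i + 2) = x.c i) : x ^ 3 = 1 := by
  have h : ∀ i : Fin 4, x.a (i + 3) = x.a (i + 1) ∧ x.c (i + 3) = x.c (i + 1) := fun i => by
    rw [show i + 3 = i + 1 + 2 by rw [add_assoc]; rfl]
    exact ⟨ha _, hc _⟩
  rw [cube_eq]
  ext i <;> simp [one_def, (h i).1, (h i).2]

end Orders

section Group

variable {e : R} (he : e ^ 5 = 1)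

/-- The twisted semidirect product. -/
abbrev Semi (he : e ^ 5 = 1) : Type := CubeGrp R ⋊[(twistGrp he).subtype] ↥(twistGrp he)

theorem scale_fixed_eq_one (hne : ∀ n : ℕ, ¬ 5 ∣ n → IsUnit (e ^ n - 1)) {n : ℕ} (hn : ¬ 5 ∣ n)
    {x : CubeGrp R} (hx : scale he n x = x) : x = 1 := by
  have h : ∀ (i : Fin 4) (r : R), e ^ (n * wt i) * r = r → r = 0 := by
    intro i r hr
    have h5 : ¬ 5 ∣ n * wt i := fun h => ((Nat.Prime.dvd_mul (by norm_num)).mp h).elim hn (wt_not_dvd i)
    exact (hne _ h5).mul_right_eq_zero.mp (by rw [sub_mul, hr, one_mul, sub_self])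
  ext i <;> simp only [one_def, Pi.zero_apply]
  · exact h i _ (congrFun (congrArg CubeGrp.a hx) i)
  · exact h i _ (congrFun (congrArg CubeGrp.b hx) i)
  · exact h i _ (congrFun (congrArg CubeGrp.c hx) i)
  · exact h _ _ (congrFun (congrArg CubeGrp.u hx) i)
  · exact h _ _ (congrFun (congrArg CubeGrp.v hx) i)
  · exact h _ _ (congrFun (congrArg CubeGrp.w hx) i)
  · exact h _ _ (congrFun (congrArg CubeGrp.z hx) i)
  · exact h i _ (congrFun (congrArg CubeGrp.top hx) i)

theorem pow_five_of_scale [Finite R] (hne : ∀ n : ℕ, ¬ 5 ∣ n → IsUnit (e ^ n - 1))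
    (g : Semi he) {n : ℕ} (hn : ¬ 5 ∣ n)
    (hg : (g.right : MulAut (CubeGrp R)) = scaleAut he ^ n) : g ^ 5 = 1 := by
  have hinj : Function.Injective (fun y : CubeGrp R => y * (g.right : MulAut (CubeGrp R)) y⁻¹) := by
    intro y z h
    have h' : (g.right : MulAut (CubeGrp R)) (z⁻¹ * y) = z⁻¹ * y := by
      have h2 : y * ((g.right : MulAut (CubeGrp R)) y)⁻¹ = z * ((g.right : MulAut (CubeGrp R)) z)⁻¹ := by
        simpa only [map_inv] using h
      rw [map_mul, map_inv, inv_mul_eq_iff_eq_mul]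
      have h3 : ((g.right : MulAut (CubeGrp R)) z)⁻¹ = z⁻¹ * y * ((g.right : MulAut (CubeGrp R)) y)⁻¹ := by
        rw [mul_assoc, h2, inv_mul_cancel_left]
      calc (g.right : MulAut (CubeGrp R)) y
          = (g.right : MulAut (CubeGrp R)) z * (((g.right : MulAut (CubeGrp R)) z)⁻¹
              * (g.right : MulAut (CubeGrp R)) y) := by rw [mul_inv_cancel_left]
        _ = _ := by rw [h3, inv_mul_cancel_right]
    rw [hg, scaleAut_pow_apply] at h'
    exact (inv_mul_eq_one.mp (scale_fixed_eq_one he hne hn h')).symm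
  obtain ⟨y, hy⟩ := Finite.surjective_of_injective hinj g.left
  have hconj : g = SemidirectProduct.inl y * SemidirectProduct.inr g.right * (SemidirectProduct.inl y)⁻¹ := by
    apply SemidirectProduct.ext
    · simp [← hy]
    · simp
  have h5 : g.right ^ 5 = 1 := by
    apply Subtype.ext
    rw [SubmonoidClass.coe_pow, hg, ← pow_mul, Nat.mul_comm, pow_mul, scaleAut_pow_five, one_pow]
    rfl
  rw [hconj, conj_pow, ← map_pow, h5, map_one, mul_one, mul_inv_cancel]

theorem pow_four_left (g : Semi he) (hg : g.right ^ 4 = 1) :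
    g ^ 4 = SemidirectProduct.inl (g.left * (g.right : MulAut (CubeGrp R)) g.left
      * (g.right : MulAut (CubeGrp R)) ((g.right : MulAut (CubeGrp R)) g.left)
      * (g.right : MulAut (CubeGrp R)) ((g.right : MulAut (CubeGrp R))
          ((g.right : MulAut (CubeGrp R)) g.left))) := by
  have h4 : g.right * g.right * g.right * g.right = 1 := by
    rw [← hg, pow_succ, pow_succ, pow_two]
  rw [pow_succ, pow_succ, pow_two]
  apply SemidirectProduct.ext
  · simp [mul_assoc]
  · simp only [SemidirectProduct.mul_right, SemidirectProduct.right_inl]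
    exact h4

theorem shift_a (x : CubeGrp R) (i : Fin 4) :
    ((shift : MulAut (CubeGrp R)) x).a i = x.a (i + 1) ∧
    ((shift : MulAut (CubeGrp R)) x).c i = x.c (i + 1) := ⟨rfl, rfl⟩

theorem pow_twelve_of_shift [CharP R 3] (g : Semi he) {j : ℕ}
    (hj : j = 1 ∨ j = 2 ∨ j = 3) (hg : (g.right : MulAut (CubeGrp R)) = shift ^ j) : g ^ 12 = 1 := by
  have h4 : g.right ^ 4 = 1 := by
    apply Subtype.ext
    rw [SubmonoidClass.coe_pow, hg, ← pow_mul, Nat.mul_comm, pow_mul, shift_pow_four, one_pow]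
    rfl
  rw [show 12 = 4 * 3 from rfl, pow_mul, pow_four_left he g h4, ← map_pow, hg]
  have hz : ∀ (i : Fin 4), (i : Fin 4) + 2 + 2 = i ∧ i + 1 + 1 = i + 2 ∧ i + 3 + 3 = i + 2 ∧
      i + 2 + 1 = i + 3 ∧ i + 2 + 3 = i + 1 ∧ i + 1 + 1 + 1 = i + 3 ∧ i + 3 + 3 + 3 = i + 1 ∧
      i + 3 + 1 = i ∧ i + 1 + 3 = i ∧ i + 2 + 1 + 1 = i := by decide
  rw [cube_eq_one_of_periodic, map_one]
  · intro i
    rcases hj with rfl | rfl | rfl <;>
      simp [mul_def, pow_succ, MulAut.mul_apply, shift_a, hz i] <;> ring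
  · intro i
    rcases hj with rfl | rfl | rfl <;>
      simp [mul_def, pow_succ, MulAut.mul_apply, shift_a, hz i] <;> ring

theorem shift_conj (j i : ℕ) (hj : j = 1 ∨ j = 2 ∨ j = 3) :
    ∃ m : ℕ, scaleAut he ^ m * (scaleAut he ^ i * shift ^ j) = shift ^ j * scaleAut he ^ m := by
  have hi : ∃ m : ℕ, (m + i) % 5 = (2 ^ j * m) % 5 := by
    have hb : ∀ (j : Fin 4) (i : Fin 5), 0 < (j : ℕ) →
        ∃ m : Fin 5, ((m : ℕ) + (i : ℕ)) % 5 = (2 ^ (j : ℕ) * (m : ℕ)) % 5 := by decide
    obtain ⟨m, hm⟩ := hb ⟨j, by omega⟩ ⟨i % 5, Nat.mod_lt _ (by norm_num)⟩ (by simp; omega)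
    refine ⟨m, ?_⟩
    simp only at hm
    rw [← hm, Nat.add_mod_mod]
  obtain ⟨m, hm⟩ := hi
  refine ⟨m, ?_⟩
  rw [shift_pow_scale_pow, ← mul_assoc, ← pow_add, pow_eq_pow_mod _ (scaleAut_pow_five he), hm,
    ← pow_eq_pow_mod _ (scaleAut_pow_five he)]

theorem semi_orders [Finite R] [CharP R 3] (hne : ∀ n : ℕ, ¬ 5 ∣ n → IsUnit (e ^ n - 1))
    (g : Semi he) : ∃ n ∈ ({5, 9, 12} : Finset ℕ), g ^ n = 1 := by
  obtain ⟨i, j, hij⟩ := g.right.2
  by_cases hj : (j : ℕ) = 0
  · rw [hj, pow_zero, mul_one] at hij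
    by_cases hi : (i : ℕ) = 0
    · refine ⟨9, by decide, ?_⟩
      rw [hi, pow_zero] at hij
      have hx : g = SemidirectProduct.inl g.left :=
        SemidirectProduct.ext (by simp) (by rw [SemidirectProduct.right_inl]; exact Subtype.ext hij)
      rw [hx, ← map_pow, pow_nine, map_one]
    · exact ⟨5, by decide, pow_five_of_scale he hne g (n := i) (by omega) hij⟩
  · refine ⟨12, by decide, ?_⟩
    have hjv : (j : ℕ) = 1 ∨ (j : ℕ) = 2 ∨ (j : ℕ) = 3 := by omega
    obtain ⟨m, hm⟩ := shift_conj he j i hjv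
    have hmem : scaleAut he ^ m ∈ twistGrp he := by
      refine ⟨⟨m % 5, Nat.mod_lt _ (by norm_num)⟩, 0, ?_⟩
      simp [← pow_eq_pow_mod _ (scaleAut_pow_five he)]
    set u : Semi he := SemidirectProduct.inr ⟨_, hmem⟩
    have h12 : (u * g * u⁻¹) ^ 12 = 1 := by
      apply pow_twelve_of_shift he _ hjv
      simp only [u, SemidirectProduct.mul_right, SemidirectProduct.inv_right,
        SemidirectProduct.right_inr, Subgroup.coe_mul, InvMemClass.coe_inv]
      rw [hij, hm, mul_inv_cancel_right]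
    rw [conj_pow, mul_inv_eq_one] at h12
    exact mul_left_cancel (a := u) (by rw [h12, mul_one])

instance [Finite R] : Finite (Semi he) := Finite.of_equiv _ SemidirectProduct.equivProd.symm

theorem semi_spectrum [Finite R] [CharP R 3] [Nontrivial R]
    (hne : ∀ n : ℕ, ¬ 5 ∣ n → IsUnit (e ^ n - 1)) :
    Set.range (orderOf : Semi he → ℕ) = {m | ∃ n ∈ ({5, 9, 12} : Finset ℕ), m ∣ n} := by
  apply range_orderOf_eq
  · exact semi_orders he hne
  · have hA : scaleAut he ∈ twistGrp he := ⟨1, 0, by simp⟩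
    have hS : (shift : MulAut (CubeGrp R)) ∈ twistGrp he := ⟨0, 1, by simp⟩
    intro n hn
    simp only [Finset.mem_insert, Finset.mem_singleton] at hn
    rcases hn with rfl | rfl | rfl
    · refine ⟨SemidirectProduct.inr ⟨_, hA⟩, ?_⟩
      rw [orderOf_injective _ SemidirectProduct.inr_injective, ← Subgroup.orderOf_coe]
      haveI : Fact (Nat.Prime 5) := ⟨by norm_num⟩
      refine orderOf_eq_prime (scaleAut_pow_five he) ?_
      intro h
      set x : CubeGrp R := ⟨fun _ => 1, 0, 0, 0, 0, 0, 0, 0⟩ with hx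
      have h1 : (scaleAut he) x = x := by rw [show scaleAut he = 1 from h]; rfl
      have h2 := congrFun (congrArg CubeGrp.a h1) 0
      simp only [scaleAut, MulEquiv.coe_mk, Equiv.coe_fn_mk, scale, MonoidHom.coe_mk, OneHom.coe_mk,
        hx, one_mul, mul_one] at h2
      have hw : wt 0 = 1 := rfl
      rw [hw, pow_one] at h2
      have := hne 1 (by norm_num)
      rw [pow_one, h2, sub_self, isUnit_zero_iff] at this
      exact zero_ne_one this
    · refine ⟨SemidirectProduct.inl ⟨fun i => if i = 1 then 1 else 0, fun i => if i = 0 then 1 else 0,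
        fun i => if i = 3 then 1 else 0, 0, 0, 0, 0, 0⟩, ?_⟩
      rw [orderOf_injective _ SemidirectProduct.inl_injective]
      haveI : Fact (Nat.Prime 3) := ⟨Nat.prime_three⟩
      refine orderOf_eq_prime_pow (p := 3) (n := 1) ?_ (pow_nine _)
      intro h
      rw [pow_one, cube_eq] at h
      have := congrFun (congrArg CubeGrp.top h) 0
      simp [one_def] at this
    · set x : CubeGrp R := ⟨fun i => if i = 0 then 1 else 0, 0, 0, 0, 0, 0, 0, 0⟩ with hx
      set g : Semi he := ⟨x, ⟨_, hS⟩⟩ with hgdef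
      refine ⟨g, ?_⟩
      have h12 : g ^ 12 = 1 := pow_twelve_of_shift he g (Or.inl rfl) (by rw [pow_one])
      have hd := orderOf_dvd_of_pow_eq_one h12
      have h4' : ¬ orderOf g ∣ 4 := by
        intro h
        have h1 := orderOf_dvd_iff_pow_eq_one.mp h
        have hs4 : g.right ^ 4 = 1 := by
          apply Subtype.ext
          rw [SubmonoidClass.coe_pow]
          exact shift_pow_four
        rw [pow_four_left he g hs4, ← map_one (SemidirectProduct.inl (φ := (twistGrp he).subtype)),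
          SemidirectProduct.inl_inj] at h1
        have h2 := congrFun (congrArg CubeGrp.a h1) 0
        simp [hgdef, hx, mul_def, one_def, shift] at h2
      have h6' : ¬ orderOf g ∣ 6 := by
        intro h
        have h1 := congrArg SemidirectProduct.rightHom (orderOf_dvd_iff_pow_eq_one.mp h)
        rw [map_pow, map_one] at h1
        have h2 := congrArg (fun k : ↥(twistGrp he) => ((k : MulAut (CubeGrp R)) x).a 2) h1
        simp only [SubmonoidClass.coe_pow, OneMemClass.coe_one, MulAut.one_apply] at h2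
        change ((shift ^ 6 : MulAut (CubeGrp R)) x).a 2 = x.a 2 at h2
        rw [show 6 = 4 + 2 from rfl, pow_add, shift_pow_four, one_mul, pow_two, MulAut.mul_apply,
          (shift_a _ _).1, (shift_a _ _).1] at h2
        simp [hx, show (2 : Fin 4) + 1 + 1 = 0 from rfl] at h2
      have hle : orderOf g ≤ 12 := Nat.le_of_dvd (by norm_num) hd
      interval_cases (orderOf g) <;> first | rfl | omega

theorem semi_solvable [Finite R] [CharP R 3] : Group.IsSolvable (Semi he) := by
  haveI : Fact (Nat.Prime 3) := ⟨Nat.prime_three⟩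
  have hp : IsPGroup 3 (CubeGrp R) := fun x => ⟨2, pow_nine x⟩
  haveI : Group.IsNilpotent (CubeGrp R) := hp.isNilpotent
  haveI : Group.IsSolvable (CubeGrp R) := inferInstance
  haveI : Group.IsSolvable ↥(twistGrp he) :=
    Cfsg.Lib.Presentations.isSolvable_of_card_lt_sixty _ _ rfl (card_twistGrp_le he)
  exact Group.isSolvable_of_ker_le_range (SemidirectProduct.inl : CubeGrp R →* Semi he)
    (SemidirectProduct.rightHom : Semi he →* ↥(twistGrp he))
    (le_of_eq SemidirectProduct.range_inl_eq_ker_rightHom.symm)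

end Group

/-- A solvable group with the element orders of `PSp(4,3)`. -/
theorem exists_solvable_twin : ∃ (H : Type) (_ : Group H) (_ : Fintype H), Group.IsSolvable H ∧
    Set.range (orderOf : H → ℕ) = {m | ∃ n ∈ ({5, 9, 12} : Finset ℕ), m ∣ n} := by
  haveI : Fact (Nat.Prime 3) := ⟨Nat.prime_three⟩
  haveI : Fact (Nat.Prime 5) := ⟨by norm_num⟩
  let K := GaloisField 3 4
  haveI : Fintype K := Fintype.ofFinite K
  have hcard : Nat.card Kˣ = 80 := by
    rw [Nat.card_units, GaloisField.card 3 4 (by norm_num)]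
    norm_num
  obtain ⟨e, he⟩ := exists_prime_orderOf_dvd_card' (G := Kˣ) 5 (by rw [hcard]; norm_num)
  have he5 : (e : K) ^ 5 = 1 := by
    have := pow_orderOf_eq_one e
    rw [he] at this
    rw [← Units.val_pow_eq_pow_val, this, Units.val_one]
  have hne : ∀ n : ℕ, ¬ 5 ∣ n → IsUnit ((e : K) ^ n - 1) := by
    intro n hn
    rw [isUnit_iff_ne_zero, sub_ne_zero]
    intro h
    refine hn (he ▸ orderOf_dvd_of_pow_eq_one (Units.ext ?_))
    rw [Units.val_pow_eq_pow_val, h, Units.val_one]
  haveI : Finite (Semi he5) := Finite.of_equiv _ SemidirectProduct.equivProd.symm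
  exact ⟨Semi he5, inferInstance, Fintype.ofFinite _, semi_solvable he5, semi_spectrum he5 hne⟩

end Cfsg.Agent.Spectra.Twist
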