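import Mathlib
import Cfsg.Agent.Spectra.SolvableTwins

/-!
Extensions of elementary abelian 2-groups by `SL(2,8)` with edgeless prime graph on `{2, 3, 7}`,
and the element orders of `PSL(2,7)`.
-/

set_option autoImplicit false

namespace Cfsg.Agent.Spectra.Eight

/-- The field with eight elements, concretely. -/
@[ext]
structure Oct where
  c0 : ZMod 2
  c1 : ZMod 2
  c2 : ZMod 2
deriving DecidableEq

instance : Fintype Oct := Fintype.ofEquiv (ZMod 2 × ZMod 2 × ZMod 2)
  { toFun := fun p => ⟨p.1, p.2.1, p.2.2⟩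
    invFun := fun x => (x.c0, x.c1, x.c2)
    left_inv := fun _ => rfl
    right_inv := fun _ => rfl }

instance : Zero Oct := ⟨⟨0, 0, 0⟩⟩
instance : One Oct := ⟨⟨1, 0, 0⟩⟩
instance : Add Oct := ⟨fun x y => ⟨x.c0 + y.c0, x.c1 + y.c1, x.c2 + y.c2⟩⟩
instance : Neg Oct := ⟨fun x => x⟩
instance : Mul Oct := ⟨fun x y =>
  ⟨x.c0 * y.c0 + (x.c1 * y.c2 + x.c2 * y.c1),
   x.c0 * y.c1 + x.c1 * y.c0 + (x.c1 * y.c2 + x.c2 * y.c1) + x.c2 * y.c2,
   x.c0 * y.c2 + x.c1 * y.c1 + x.c2 * y.c0 + x.c2 * y.c2⟩⟩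

instance : CommRing Oct where
  add_assoc := by decide +kernel
  zero_add := by decide +kernel
  add_zero := by decide +kernel
  add_comm := by decide +kernel
  left_distrib := by decide +kernel
  right_distrib := by decide +kernel
  zero_mul := by decide +kernel
  mul_zero := by decide +kernel
  mul_assoc := by decide +kernel
  one_mul := by decide +kernel
  mul_one := by decide +kernel
  mul_comm := by decide +kernel
  neg_add_cancel := by decide +kernel
  nsmul := nsmulRec
  zsmul := zsmulRec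

theorem oct_unit : ∀ t : Oct, t = 0 ∨ ∃ s : Oct, s * t = 1 := by decide +kernel

/-- One step of the recursion for the powers of a root of `x ^ 2 - t x + 1`. -/
def quadStep {R : Type*} [CommRing R] (t : R) (c : R × R) : R × R := (c.1 * t + c.2, -c.1)

theorem pow_eq_quadStep {R : Type*} [CommRing R] (A : Matrix (Fin 2) (Fin 2) R) (hA : A.det = 1)
    (n : ℕ) : A ^ n = ((quadStep (A 0 0 + A 1 1))^[n] (0, 1)).1 • A
      + ((quadStep (A 0 0 + A 1 1))^[n] (0, 1)).2 • (1 : Matrix (Fin 2) (Fin 2) R) := by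
  have h : A * A = (A 0 0 + A 1 1) • A - (1 : Matrix (Fin 2) (Fin 2) R) := by
    have hd : A 0 0 * A 1 1 - A 0 1 * A 1 0 = 1 := by rw [← Matrix.det_fin_two]; exact hA
    ext i j
    fin_cases i <;> fin_cases j <;> simp [Matrix.mul_apply, Fin.sum_univ_two]
    · linear_combination -hd
    · ring
    · ring
    · linear_combination -hd
  induction n with
  | zero => simp
  | succ n ih =>
    rw [pow_succ', ih, Function.iterate_succ_apply']
    generalize (quadStep (A 0 0 + A 1 1))^[n] (0, 1) = c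
    simp only [quadStep, mul_add, Matrix.mul_smul, mul_one, h]
    module

theorem oct_periods : ∀ t : Oct, t = 0 ∧ (quadStep t)^[2] (0, 1) = (0, 1) ∨
    t ≠ 0 ∧ ((quadStep t)^[7] (0, 1) = (0, 1) ∨ (quadStep t)^[9] (0, 1) = (0, 1)) := by
  decide +kernel

abbrev SLEight : Type := Matrix.SpecialLinearGroup (Fin 2) Oct

abbrev Modl (k : ℕ) : Type := Multiplicative (Fin k → Fin 2 → Oct)

/-- The diagonal action on `k` copies of the natural module. -/
def act (k : ℕ) : SLEight →* MulAut (Modl k) where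
  toFun g :=
    { toFun := fun v => Multiplicative.ofAdd fun i => (g : Matrix (Fin 2) (Fin 2) Oct).mulVec (v.toAdd i)
      invFun := fun v => Multiplicative.ofAdd fun i =>
        ((g⁻¹ : SLEight) : Matrix (Fin 2) (Fin 2) Oct).mulVec (v.toAdd i)
      left_inv := fun v => by
        apply Multiplicative.toAdd.injective
        funext i
        simp only [toAdd_ofAdd]
        rw [Matrix.mulVec_mulVec, ← Matrix.SpecialLinearGroup.coe_mul, inv_mul_cancel,
          Matrix.SpecialLinearGroup.coe_one, Matrix.one_mulVec]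
      right_inv := fun v => by
        apply Multiplicative.toAdd.injective
        funext i
        simp only [toAdd_ofAdd]
        rw [Matrix.mulVec_mulVec, ← Matrix.SpecialLinearGroup.coe_mul, mul_inv_cancel,
          Matrix.SpecialLinearGroup.coe_one, Matrix.one_mulVec]
      map_mul' := fun v w => by
        apply Multiplicative.toAdd.injective
        funext i
        simp [Matrix.mulVec_add] }
  map_one' := by
    apply MulEquiv.ext
    intro v
    apply Multiplicative.toAdd.injective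
    funext i
    simp only [MulEquiv.coe_mk, Equiv.coe_fn_mk, toAdd_ofAdd, MulAut.one_apply,
      Matrix.SpecialLinearGroup.coe_one, Matrix.one_mulVec]
  map_mul' a b := by
    apply MulEquiv.ext
    intro v
    apply Multiplicative.toAdd.injective
    funext i
    simp only [MulEquiv.coe_mk, Equiv.coe_fn_mk, toAdd_ofAdd, MulAut.mul_apply,
      Matrix.SpecialLinearGroup.coe_mul, Matrix.mulVec_mulVec]

abbrev Big (k : ℕ) : Type := Modl k ⋊[act k] SLEight

instance (k : ℕ) : Finite (Big k) := Finite.of_equiv _ SemidirectProduct.equivProd.symm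

theorem modl_sq {k : ℕ} (v : Modl k) : v ^ 2 = 1 := by
  apply Multiplicative.toAdd.injective
  funext i j
  have h : ∀ x : Oct, x + x = 0 := by decide +kernel
  simp [pow_two, h]

theorem big_pow (k : ℕ) (x : Big k) : ∃ n ∈ ({4, 7, 9} : Finset ℕ), x ^ n = 1 := by
  set A : Matrix (Fin 2) (Fin 2) Oct := (x.right : Matrix (Fin 2) (Fin 2) Oct) with hA
  have hpow : ∀ n, (quadStep (A 0 0 + A 1 1))^[n] (0, 1) = (0, 1) → x.right ^ n = 1 := by
    intro n hn
    apply Subtype.ext
    show A ^ n = 1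
    rw [pow_eq_quadStep A x.right.2 n, hn]
    simp
  rcases oct_periods (A 0 0 + A 1 1) with ⟨-, h2⟩ | ⟨hne, h⟩
  · refine ⟨4, by decide, ?_⟩
    have hr : (x ^ 2).right = 1 := by rw [pow_two, SemidirectProduct.mul_right, ← pow_two, hpow 2 h2]
    have he : x ^ 2 = SemidirectProduct.inl (x ^ 2).left :=
      SemidirectProduct.ext (by simp) (by rw [SemidirectProduct.right_inl, hr])
    rw [show 4 = 2 * 2 from rfl, pow_mul, he, ← map_pow, modl_sq, map_one]
  · obtain ⟨n, hn, hn1⟩ : ∃ n ∈ ({4, 7, 9} : Finset ℕ), x.right ^ n = 1 := by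
      rcases h with h | h
      · exact ⟨7, by decide, hpow 7 h⟩
      · exact ⟨9, by decide, hpow 9 h⟩
    refine ⟨n, hn, ?_⟩
    obtain ⟨s, hs⟩ := (oct_unit (A 0 0 + A 1 1)).resolve_left hne
    have hinj : Function.Injective (fun (w : Fin k → Fin 2 → Oct) i => w i - A.mulVec (w i)) := by
      intro a b hab
      funext i
      have h1 := congrFun hab i
      simp only at h1
      have h2 : A.mulVec (a i - b i) = a i - b i := by
        rw [Matrix.mulVec_sub]
        linear_combination (exp := 1) -h1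
      have h3 : (A * A).mulVec (a i - b i) = a i - b i := by rw [← Matrix.mulVec_mulVec, h2, h2]
      have h4 := pow_eq_quadStep A x.right.2 2
      rw [pow_two] at h4
      rw [h4] at h3
      simp only [Function.iterate_succ, Function.iterate_zero, Function.comp_def, id_eq, quadStep,
        zero_mul, zero_add, neg_zero, one_mul, add_zero, Matrix.add_mulVec, Matrix.smul_mulVec,
        Matrix.one_mulVec, h2] at h3
      funext j
      have h5 := congrFun h3 j
      simp only [Pi.add_apply, Pi.smul_apply, Pi.sub_apply, smul_eq_mul] at h5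
      have hchar : ∀ y : Oct, y + y = 0 := by decide +kernel
      have h6 : (A 0 0 + A 1 1) * (a i j - b i j) = 0 := by
        linear_combination h5 + hchar (a i j - b i j)
      have h7 : a i j - b i j = 0 := by linear_combination s * h6 - (a i j - b i j) * hs
      exact sub_eq_zero.mp h7
    obtain ⟨w, hw⟩ := (Finite.injective_iff_surjective.mp hinj) x.left.toAdd
    have hconj : x = SemidirectProduct.inl (Multiplicative.ofAdd w) * SemidirectProduct.inr x.right
        * (SemidirectProduct.inl (Multiplicative.ofAdd w))⁻¹ := by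
      apply SemidirectProduct.ext
      · apply Multiplicative.toAdd.injective
        simp only [SemidirectProduct.mul_left, SemidirectProduct.mul_right, SemidirectProduct.inv_left,
          SemidirectProduct.inv_right, SemidirectProduct.left_inl, SemidirectProduct.right_inl,
          SemidirectProduct.left_inr, SemidirectProduct.right_inr, map_one, inv_one, MulAut.one_apply,
          toAdd_mul, one_mul, mul_one]
        rw [← hw]
        funext i
        simp only [act, MonoidHom.coe_mk, OneHom.coe_mk, MulEquiv.coe_mk, Equiv.coe_fn_mk, toAdd_ofAdd,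
          toAdd_inv, Pi.neg_apply, Pi.add_apply, Matrix.mulVec_neg, hA]
        abel
      · simp
    rw [hconj, conj_pow, ← map_pow, hn1, map_one, mul_one, mul_inv_cancel]

def s3 : SLEight := ⟨!![0, 1; 1, 1], by decide +kernel⟩

def s7 : SLEight := ⟨!![⟨0, 1, 0⟩, 0; 0, ⟨1, 0, 1⟩], by decide +kernel⟩

def s2 : SLEight := ⟨!![1, 1; 0, 1], by decide +kernel⟩

theorem big_witness (k : ℕ) : ∀ p ∈ ({2, 3, 7} : Finset ℕ), ∃ g : Big k, orderOf g = p := by
  intro p hp
  simp only [Finset.mem_insert, Finset.mem_singleton] at hp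
  haveI : Fact (Nat.Prime 2) := ⟨Nat.prime_two⟩
  haveI : Fact (Nat.Prime 3) := ⟨Nat.prime_three⟩
  haveI : Fact (Nat.Prime 7) := ⟨by norm_num⟩
  have key : ∀ (q : ℕ) (s : SLEight), orderOf s = q → ∃ g : Big k, orderOf g = q := fun q s h =>
    ⟨SemidirectProduct.inr s, by rw [orderOf_injective _ SemidirectProduct.inr_injective, h]⟩
  rcases hp with rfl | rfl | rfl
  · exact key 2 s2 (orderOf_eq_prime (by decide +kernel) (by decide +kernel))
  · exact key 3 s3 (orderOf_eq_prime (by decide +kernel) (by decide +kernel))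
  · exact key 7 s7 (orderOf_eq_prime (by decide +kernel) (by decide +kernel))

theorem lt_card_big (k : ℕ) : k < Nat.card (Big k) := by
  have h : Function.Injective (SemidirectProduct.inl : Modl k →* Big k) := SemidirectProduct.inl_injective
  have h1 := Nat.card_le_card_of_injective _ h
  have h2 : Nat.card (Modl k) = (Nat.card (Fin 2 → Oct)) ^ k := by
    rw [Nat.card_congr Multiplicative.toAdd, Nat.card_fun, Nat.card_eq_fintype_card (α := Fin k),
      Fintype.card_fin]
  have h3 : 2 ≤ Nat.card (Fin 2 → Oct) := by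
    rw [Nat.card_eq_fintype_card]
    exact le_of_lt (by decide +kernel)
  have h4 : k < 2 ^ k := Nat.lt_two_pow_self
  have h5 : 2 ^ k ≤ (Nat.card (Fin 2 → Oct)) ^ k := Nat.pow_le_pow_left h3 k
  exact lt_of_lt_of_le h4 (h5.trans (h2 ▸ h1))

section Seven

theorem seven_periods : ∀ t : ZMod 7, ∃ n ∈ ({3, 4, 7} : Finset ℕ),
    (quadStep t)^[n] (0, 1) = (0, 1) ∨ (quadStep t)^[n] (0, 1) = (0, -1) := by
  decide +kernel

abbrev PSLSeven : Type := Matrix.ProjectiveSpecialLinearGroup (Fin 2) (ZMod 7)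

theorem psl_seven_pow (x : PSLSeven) : ∃ n ∈ ({3, 4, 7} : Finset ℕ), x ^ n = 1 := by
  obtain ⟨g, rfl⟩ := QuotientGroup.mk_surjective x
  set A : Matrix (Fin 2) (Fin 2) (ZMod 7) := (g : Matrix (Fin 2) (Fin 2) (ZMod 7))
  obtain ⟨n, hn, hc⟩ := seven_periods (A 0 0 + A 1 1)
  refine ⟨n, hn, ?_⟩
  rw [← QuotientGroup.mk_pow, QuotientGroup.eq_one_iff, Subgroup.mem_center_iff]
  have hpm : A ^ n = 1 ∨ A ^ n = -1 := by
    rcases hc with hc | hc <;> rw [pow_eq_quadStep A g.2 n, hc] <;> simp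
  intro y
  apply Subtype.ext
  show (y : Matrix (Fin 2) (Fin 2) (ZMod 7)) * A ^ n = A ^ n * (y : Matrix (Fin 2) (Fin 2) (ZMod 7))
  rcases hpm with e | e <;> rw [e] <;> simp

def t2 : Matrix.SpecialLinearGroup (Fin 2) (ZMod 7) := ⟨!![0, 1; -1, 0], by decide +kernel⟩

def t3 : Matrix.SpecialLinearGroup (Fin 2) (ZMod 7) := ⟨!![0, 1; -1, -1], by decide +kernel⟩

def t7 : Matrix.SpecialLinearGroup (Fin 2) (ZMod 7) := ⟨!![1, 1; 0, 1], by decide +kernel⟩

theorem t_facts :
    (((t2 ^ 2 : Matrix.SpecialLinearGroup (Fin 2) (ZMod 7)) : Matrix (Fin 2) (Fin 2) (ZMod 7)) = 1 ∨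
      ((t2 ^ 2 : Matrix.SpecialLinearGroup (Fin 2) (ZMod 7)) : Matrix (Fin 2) (Fin 2) (ZMod 7)) = -1) ∧
    (((t3 ^ 3 : Matrix.SpecialLinearGroup (Fin 2) (ZMod 7)) : Matrix (Fin 2) (Fin 2) (ZMod 7)) = 1 ∨
      ((t3 ^ 3 : Matrix.SpecialLinearGroup (Fin 2) (ZMod 7)) : Matrix (Fin 2) (Fin 2) (ZMod 7)) = -1) ∧
    (((t7 ^ 7 : Matrix.SpecialLinearGroup (Fin 2) (ZMod 7)) : Matrix (Fin 2) (Fin 2) (ZMod 7)) = 1 ∨
      ((t7 ^ 7 : Matrix.SpecialLinearGroup (Fin 2) (ZMod 7)) : Matrix (Fin 2) (Fin 2) (ZMod 7)) = -1) ∧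
    t7 * t2 ≠ t2 * t7 ∧ t7 * t3 ≠ t3 * t7 ∧ t2 * t7 ≠ t7 * t2 := by
  decide +kernel

theorem psl_seven_witness : ∀ p ∈ ({2, 3, 7} : Finset ℕ), ∃ g : PSLSeven, orderOf g = p := by
  haveI : Fact (Nat.Prime 7) := ⟨by norm_num⟩
  have key : ∀ (g h : Matrix.SpecialLinearGroup (Fin 2) (ZMod 7)) (p : ℕ), Nat.Prime p →
      (∀ y : Matrix.SpecialLinearGroup (Fin 2) (ZMod 7), y * g ^ p = g ^ p * y) →
      h * g ≠ g * h → ∃ x : PSLSeven, orderOf x = p := by
    intro g h p hp hc hne
    refine ⟨QuotientGroup.mk g, ?_⟩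
    haveI := Fact.mk hp
    refine orderOf_eq_prime ?_ ?_
    · rw [← QuotientGroup.mk_pow, QuotientGroup.eq_one_iff, Subgroup.mem_center_iff]
      exact hc
    · rw [ne_eq, QuotientGroup.eq_one_iff, Subgroup.mem_center_iff]
      exact fun h' => hne (h' h)
  have scal : ∀ (g : Matrix.SpecialLinearGroup (Fin 2) (ZMod 7)) (p : ℕ),
      ((g ^ p : Matrix.SpecialLinearGroup (Fin 2) (ZMod 7)) : Matrix (Fin 2) (Fin 2) (ZMod 7)) = 1 ∨
      ((g ^ p : Matrix.SpecialLinearGroup (Fin 2) (ZMod 7)) : Matrix (Fin 2) (Fin 2) (ZMod 7)) = -1 →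
      ∀ y : Matrix.SpecialLinearGroup (Fin 2) (ZMod 7), y * g ^ p = g ^ p * y := by
    intro g p hg y
    apply Subtype.ext
    show (y : Matrix (Fin 2) (Fin 2) (ZMod 7)) * _ = _ * (y : Matrix (Fin 2) (Fin 2) (ZMod 7))
    rcases hg with e | e <;> rw [e] <;> simp
  intro p hp
  simp only [Finset.mem_insert, Finset.mem_singleton] at hp
  rcases hp with rfl | rfl | rfl
  · exact key t2 t7 2 Nat.prime_two (scal _ _ t_facts.1) t_facts.2.2.2.1
  · exact key t3 t7 3 Nat.prime_three (scal _ _ t_facts.2.1) t_facts.2.2.2.2.1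
  · exact key t7 t2 7 (by norm_num) (scal _ _ t_facts.2.2.1) t_facts.2.2.2.2.2

end Seven

/-- Facts shared by both groups: prime divisors `{2, 3, 7}` and no element of mixed order. -/
theorem graph_facts {G : Type*} [Group G] [Finite G] {s : Finset ℕ}
    (hs : ∀ n ∈ s, ∀ p q : ℕ, p.Prime → q.Prime → p ∣ n → q ∣ n → p = q)
    (hs' : ∀ n ∈ s, ∀ p : ℕ, p.Prime → p ∣ n → p ∈ ({2, 3, 7} : Finset ℕ))
    (hle : ∀ g : G, ∃ n ∈ s, g ^ n = 1) (hw : ∀ p ∈ ({2, 3, 7} : Finset ℕ), ∃ g : G, orderOf g = p) :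
    (∀ p : ℕ, p.Prime → (p ∣ Nat.card G ↔ p ∈ ({2, 3, 7} : Finset ℕ))) ∧
    (∀ p q : ℕ, p.Prime → q.Prime → p ≠ q → ¬ ∃ g : G, orderOf g = p * q) := by
  refine ⟨fun p hp => ⟨fun h => ?_, fun h => ?_⟩, fun p q hp hq hne ⟨g, hg⟩ => ?_⟩
  · haveI := Fact.mk hp
    obtain ⟨g, hg⟩ := exists_prime_orderOf_dvd_card' p h
    obtain ⟨n, hn, h1⟩ := hle g
    exact hs' n hn p hp (hg ▸ orderOf_dvd_of_pow_eq_one h1)
  · obtain ⟨g, hg⟩ := hw p h
    exact hg ▸ orderOf_dvd_natCard g
  · obtain ⟨n, hn, h1⟩ := hle g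
    have hd := orderOf_dvd_of_pow_eq_one h1
    rw [hg] at hd
    exact hne (hs n hn p q hp hq (dvd_of_mul_right_dvd hd) (dvd_of_mul_left_dvd hd))

theorem prime_dvd_small {p : ℕ} (hp : p.Prime) :
    ∀ {n : ℕ}, n ∈ ({3, 4, 7, 9} : Finset ℕ) → p ∣ n →
      (n = 3 → p = 3) ∧ (n = 4 → p = 2) ∧ (n = 7 → p = 7) ∧ (n = 9 → p = 3) := by
  intro n hn hd
  refine ⟨fun h => ?_, fun h => ?_, fun h => ?_, fun h => ?_⟩ <;> subst h
  · exact (Nat.prime_dvd_prime_iff_eq hp Nat.prime_three).mp hd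
  · exact (Nat.prime_dvd_prime_iff_eq hp Nat.prime_two).mp (hp.dvd_of_dvd_pow (show p ∣ 2 ^ 2 from hd))
  · exact (Nat.prime_dvd_prime_iff_eq hp (by norm_num)).mp hd
  · exact (Nat.prime_dvd_prime_iff_eq hp Nat.prime_three).mp (hp.dvd_of_dvd_pow (show p ∣ 3 ^ 2 from hd))

theorem small_same {n : ℕ} (hn : n ∈ ({3, 4, 7, 9} : Finset ℕ)) {p q : ℕ} (hp : p.Prime) (hq : q.Prime)
    (h1 : p ∣ n) (h2 : q ∣ n) : p = q := by
  have a := prime_dvd_small hp hn h1
  have b := prime_dvd_small hq hn h2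
  simp only [Finset.mem_insert, Finset.mem_singleton] at hn
  omega

theorem small_mem {n : ℕ} (hn : n ∈ ({3, 4, 7, 9} : Finset ℕ)) {p : ℕ} (hp : p.Prime) (h1 : p ∣ n) :
    p ∈ ({2, 3, 7} : Finset ℕ) := by
  have a := prime_dvd_small hp hn h1
  simp only [Finset.mem_insert, Finset.mem_singleton] at hn ⊢
  omega

theorem exists_same_graph {F : Type*} [Field F] [Fintype F] (hF : Fintype.card F = 7) (N : ℕ) :
    ∃ (H : Type) (_ : Group H) (_ : Finite H), N < Nat.card H ∧
      ((∀ p : ℕ, p.Prime → (p ∣ Nat.card (Matrix.ProjectiveSpecialLinearGroup (Fin 2) F) ↔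
        p ∣ Nat.card H)) ∧
      (∀ p q : ℕ, p.Prime → q.Prime → p ≠ q →
        ((∃ g : (Matrix.ProjectiveSpecialLinearGroup (Fin 2) F), orderOf g = p * q) ↔
          (∃ g : H, orderOf g = p * q)))) := by
  haveI : Fact (Nat.Prime 7) := ⟨by norm_num⟩
  have hP := graph_facts (G := PSLSeven) (s := {3, 4, 7})
    (fun n hn p q hp hq => small_same (Finset.mem_of_subset (by decide) hn) hp hq)
    (fun n hn p hp => small_mem (Finset.mem_of_subset (by decide) hn) hp)
    psl_seven_pow psl_seven_witness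
  have hB := graph_facts (G := Big N) (s := {4, 7, 9})
    (fun n hn p q hp hq => small_same (Finset.mem_of_subset (by decide) hn) hp hq)
    (fun n hn p hp => small_mem (Finset.mem_of_subset (by decide) hn) hp)
    (big_pow N) (big_witness N)
  let eR : ZMod 7 ≃+* F := ZMod.ringEquivOfPrime F (by norm_num) hF
  let f : Matrix.SpecialLinearGroup (Fin 2) (ZMod 7) →* Matrix.SpecialLinearGroup (Fin 2) F :=
    Matrix.SpecialLinearGroup.map eR.toRingHom
  have hb : Function.Bijective f := by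
    refine ⟨fun A B h => ?_, fun A => ⟨Matrix.SpecialLinearGroup.map eR.symm.toRingHom A, ?_⟩⟩
    · apply Subtype.ext
      ext i j
      have := congrArg (fun C : Matrix.SpecialLinearGroup (Fin 2) F =>
        (C : Matrix (Fin 2) (Fin 2) F) i j) h
      simpa [f] using this
    · apply Subtype.ext
      ext i j
      simp [f]
  let e0 := MulEquiv.ofBijective f hb
  have hcen : (Subgroup.center (Matrix.SpecialLinearGroup (Fin 2) (ZMod 7))).map e0.toMonoidHom
      = Subgroup.center (Matrix.SpecialLinearGroup (Fin 2) F) := by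
    ext x
    rw [Subgroup.mem_map]
    constructor
    · rintro ⟨y, hy, rfl⟩
      rw [Subgroup.mem_center_iff] at hy ⊢
      intro z
      obtain ⟨w, rfl⟩ := e0.surjective z
      show e0 w * e0 y = e0 y * e0 w
      rw [← map_mul, ← map_mul, hy w]
    · intro hx
      refine ⟨e0.symm x, ?_, e0.apply_symm_apply x⟩
      rw [Subgroup.mem_center_iff] at hx ⊢
      intro w
      apply e0.injective
      rw [map_mul, map_mul, e0.apply_symm_apply, hx]
  let e : PSLSeven ≃* Matrix.ProjectiveSpecialLinearGroup (Fin 2) F := QuotientGroup.congr _ _ e0 hcen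
  refine ⟨Big N, inferInstance, inferInstance, lt_card_big N, fun p hp => ?_, fun p q hp hq hne => ?_⟩
  · rw [← Nat.card_congr e.toEquiv, hP.1 p hp, hB.1 p hp]
  · refine iff_of_false ?_ (hB.2 p q hp hq hne)
    rintro ⟨g, hg⟩
    exact hP.2 p q hp hq hne ⟨e.symm g, by rw [e.symm.orderOf_eq, hg]⟩

end Cfsg.Agent.Spectra.Eight
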