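import Mathlib
import Cfsg.Agent.Known.SLTwo.Torus
import Cfsg.Agent.Spectra.SolvableTwins

/-!
The element orders of `PGL(2,q)` for odd `q`.
-/

set_option autoImplicit false
set_option linter.unusedSectionVars false

open Matrix
open scoped MatrixGroups

namespace Cfsg.Agent.Spectra.PGL

open Cfsg.Lib.GLTwo

variable {F : Type*} [Field F]

/-- A two by two matrix in the centre of the general linear group is scalar, and conversely. -/
theorem mem_center_iff_scalar (g : GL (Fin 2) F) :
    g ∈ Subgroup.center (GL (Fin 2) F) ↔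
      ∃ c : F, (g : Matrix (Fin 2) (Fin 2) F) = c • (1 : Matrix (Fin 2) (Fin 2) F) := by
  constructor
  · intro h
    let u1 : GL (Fin 2) F := Matrix.GeneralLinearGroup.mkOfDetNeZero !![1, 1; 0, 1] (by simp [Matrix.det_fin_two])
    let u2 : GL (Fin 2) F := Matrix.GeneralLinearGroup.mkOfDetNeZero !![1, 0; 1, 1] (by simp [Matrix.det_fin_two])
    have e1 := congrArg (fun x : GL (Fin 2) F => (x : Matrix (Fin 2) (Fin 2) F)) (Subgroup.mem_center_iff.mp h u1)
    have e2 := congrArg (fun x : GL (Fin 2) F => (x : Matrix (Fin 2) (Fin 2) F)) (Subgroup.mem_center_iff.mp h u2)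
    simp only [Units.val_mul, u1, u2, Matrix.GeneralLinearGroup.mkOfDetNeZero] at e1 e2
    have a := congrFun (congrFun e1 0) 0
    have b := congrFun (congrFun e1 0) 1
    have c := congrFun (congrFun e2 0) 0
    simp [Matrix.mul_apply, Fin.sum_univ_two] at a b c
    refine ⟨(g : Matrix (Fin 2) (Fin 2) F) 0 0, ?_⟩
    have h10 : (g : Matrix (Fin 2) (Fin 2) F) 1 0 = 0 := by first | exact a | exact a.symm | linear_combination a
    have h01 : (g : Matrix (Fin 2) (Fin 2) F) 0 1 = 0 := by first | exact c | exact c.symm | linear_combination c | linear_combination -c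
    have h11 : (g : Matrix (Fin 2) (Fin 2) F) 1 1 = (g : Matrix (Fin 2) (Fin 2) F) 0 0 := by
      first | linear_combination b | linear_combination -b
    ext i j
    fin_cases i <;> fin_cases j <;> simp [h10, h01, h11]
  · rintro ⟨c, hc⟩
    rw [Subgroup.mem_center_iff]
    intro x
    apply Units.ext
    simp [hc]

theorem mk_pow_eq_one_iff (g : GL (Fin 2) F) (n : ℕ) :
    (QuotientGroup.mk g : GL (Fin 2) F ⧸ Subgroup.center (GL (Fin 2) F)) ^ n = 1 ↔
      ∃ c : F, (g : Matrix (Fin 2) (Fin 2) F) ^ n = c • (1 : Matrix (Fin 2) (Fin 2) F) := by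
  rw [← QuotientGroup.mk_pow, QuotientGroup.eq_one_iff, mem_center_iff_scalar, Units.val_pow_eq_pow_val]

variable [Fintype F]

theorem scalar_pow_smul (a : F) (M : Matrix (Fin 2) (Fin 2) F) {n : ℕ} {c : F}
    (h : M ^ n = c • (1 : Matrix (Fin 2) (Fin 2) F)) :
    (a • M) ^ n = (a ^ n * c) • (1 : Matrix (Fin 2) (Fin 2) F) := by
  rw [smul_pow, h, smul_smul]

/-- Every element of `PGL(2,q)` has order dividing `p`, `q - 1` or `q + 1`. -/
theorem pgl_pow (p : ℕ) [Fact p.Prime] [CharP F p] (h2 : (2 : F) ≠ 0)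
    (x : GL (Fin 2) F ⧸ Subgroup.center (GL (Fin 2) F)) :
    ∃ n ∈ ({p, Fintype.card F - 1, Fintype.card F + 1} : Finset ℕ), x ^ n = 1 := by
  obtain ⟨g, rfl⟩ := QuotientGroup.mk_surjective x
  set A : Matrix (Fin 2) (Fin 2) F := (g : Matrix (Fin 2) (Fin 2) F) with hA
  have hd : A.det ≠ 0 := by
    rw [← isUnit_iff_ne_zero, ← Matrix.isUnit_iff_isUnit_det]
    exact g.isUnit
  have hq := Fintype.one_lt_card (α := F)
  obtain ⟨k, hk⟩ : Odd (Fintype.card F) := by
    rcases Nat.even_or_odd (Fintype.card F) with he | ho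
    · exfalso
      haveI : CharP F 2 := ringChar.eq_iff.1 (FiniteField.even_card_iff_char_two.2 (Nat.even_iff.1 he))
      exact h2 (by exact_mod_cast CharP.cast_eq_zero F 2)
    · exact ho
  have hCH : A * A = A.trace • A - A.det • (1 : Matrix (Fin 2) (Fin 2) F) := by
    ext i j
    fin_cases i <;> fin_cases j <;>
      simp [Matrix.mul_apply, Fin.sum_univ_two, Matrix.trace_fin_two, Matrix.det_fin_two] <;> ring
  have hB : (A.det⁻¹ • (A * A)).det = 1 := by
    rw [Matrix.det_smul, Matrix.det_mul, Fintype.card_fin]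
    field_simp
  set B : SL(2, F) := ⟨A.det⁻¹ • (A * A), hB⟩ with hBdef
  have hsq : A * A = A.det • (B : Matrix (Fin 2) (Fin 2) F) := by
    rw [hBdef]
    simp [smul_smul, hd]
  have hscal : (∃ c : F, A ^ 2 = c • (1 : Matrix (Fin 2) (Fin 2) F)) →
      ∃ n ∈ ({p, Fintype.card F - 1, Fintype.card F + 1} : Finset ℕ),
        (QuotientGroup.mk g : GL (Fin 2) F ⧸ Subgroup.center (GL (Fin 2) F)) ^ n = 1 := by
    rintro ⟨c, hc⟩
    refine ⟨Fintype.card F + 1, by simp, (mk_pow_eq_one_iff g _).mpr ⟨c ^ (k + 1), ?_⟩⟩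
    rw [show Fintype.card F + 1 = 2 * (k + 1) by omega, pow_mul, ← hA, hc, smul_pow, one_pow]
  by_cases hns : NonScalar (B : Matrix (Fin 2) (Fin 2) F)
  · have hpow := pow_card_cent B
    have key : ∀ N : ℕ, B ^ (2 * N) = 1 → ∃ c : F, A ^ (2 * N) = c • (1 : Matrix (Fin 2) (Fin 2) F) := by
      intro N hN
      have h1 : B ^ N = 1 ∨ B ^ N = -1 := eq_pm_one_of_sq h2 (by rw [← pow_add, ← two_mul]; exact hN)
      have h3 : A ^ (2 * N) = A.det ^ N • ((B ^ N : SL(2, F)) : Matrix (Fin 2) (Fin 2) F) := by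
        rw [pow_mul, pow_two, hsq, smul_pow, Matrix.SpecialLinearGroup.coe_pow]
      rcases h1 with e | e
      · exact ⟨A.det ^ N, by rw [h3, e, Matrix.SpecialLinearGroup.coe_one]⟩
      · exact ⟨-A.det ^ N, by rw [h3, e, Matrix.SpecialLinearGroup.coe_neg,
          Matrix.SpecialLinearGroup.coe_one, smul_neg, neg_smul]⟩
    rcases kinds hns with ⟨-, hc⟩ | ⟨-, hc⟩ | ⟨⟨r, hr, ht⟩, -⟩
    · refine ⟨Fintype.card F + 1, by simp, (mk_pow_eq_one_iff g _).mpr ?_⟩
      rw [hc] at hpow
      rw [show Fintype.card F + 1 = 2 * (k + 1) by omega] at hpow ⊢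
      exact key _ hpow
    · refine ⟨Fintype.card F - 1, by simp, (mk_pow_eq_one_iff g _).mpr ?_⟩
      rw [hc] at hpow
      rw [show Fintype.card F - 1 = 2 * k by omega] at hpow ⊢
      exact key _ hpow
    · have ht' : A.det⁻¹ * (A.trace * A.trace - 2 * A.det) = r + r := by
        rw [← ht, hBdef]
        simp only [Matrix.trace_smul, hCH, Matrix.trace_sub, Matrix.trace_smul, Matrix.trace_one,
          Fintype.card_fin, smul_eq_mul]
        push_cast
        ring
      have hT : A.trace * A.trace = A.det * (r + r + 2) := by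
        field_simp at ht'
        linear_combination ht'
      rcases mul_self_eq_one_iff.1 hr with rfl | rfl
      · refine ⟨p, by simp, (mk_pow_eq_one_iff g _).mpr ⟨(A.trace / 2) ^ p, ?_⟩⟩
        haveI : CharP (Matrix (Fin 2) (Fin 2) F) p := Matrix.charP p
        set N := A - (A.trace / 2) • (1 : Matrix (Fin 2) (Fin 2) F) with hN
        have hN2 : N * N = 0 := by
          rw [hN]
          simp only [mul_sub, sub_mul, Matrix.mul_smul, Matrix.smul_mul, mul_one, one_mul, smul_smul, hCH]
          have : A.trace / 2 * (A.trace / 2) = A.det := by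
            field_simp
            linear_combination hT
          rw [this]
          have h' : A.trace = A.trace / 2 + A.trace / 2 := by field_simp; ring
          nth_rewrite 1 [h']
          module
        have hNp : N ^ p = 0 := by
          obtain ⟨j, hj⟩ : ∃ j, p = 2 + j := ⟨p - 2, by have := (Fact.out : p.Prime).two_le; omega⟩
          rw [hj, pow_add, pow_two, hN2, zero_mul]
        rw [← hA, show A = (A.trace / 2) • (1 : Matrix (Fin 2) (Fin 2) F) + N by rw [hN]; abel,
          add_pow_char_of_commute (p := p) ((Commute.one_left N).smul_left _), hNp, add_zero, smul_pow,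
          one_pow, ← show A = (A.trace / 2) • (1 : Matrix (Fin 2) (Fin 2) F) + N by rw [hN]; abel]
      · have ht0 : A.trace = 0 := by
          have : A.trace * A.trace = 0 := by rw [hT]; ring
          exact mul_self_eq_zero.mp this
        exact hscal ⟨-A.det, by rw [pow_two, hCH, ht0, zero_smul, zero_sub, neg_smul]⟩
  · exact hscal ⟨A.det * (B : Matrix (Fin 2) (Fin 2) F) 0 0, by
      rw [pow_two, hsq, eq_smul_one hns, smul_smul]
      simp⟩

/-- An element of order `q + 1`. -/
theorem exists_orderOf_succ (p : ℕ) [Fact p.Prime] [CharP F p] (h2 : (2 : F) ≠ 0) :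
    ∃ x : GL (Fin 2) F ⧸ Subgroup.center (GL (Fin 2) F), orderOf x = Fintype.card F + 1 := by
  haveI : CharP (Matrix (Fin 2) (Fin 2) F) p := Matrix.charP p
  have hq := Fintype.one_lt_card (α := F)
  obtain ⟨k, hk⟩ : Odd (Fintype.card F) := by
    rcases Nat.even_or_odd (Fintype.card F) with he | ho
    · exfalso
      haveI : CharP F 2 := ringChar.eq_iff.1 (FiniteField.even_card_iff_char_two.2 (Nat.even_iff.1 he))
      exact h2 (by exact_mod_cast CharP.cast_eq_zero F 2)
    · exact ho
  obtain ⟨s, hs⟩ := exists_orderOf_add_one (F := F)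
  have hm : s ^ (k + 1) = -1 := by
    have h1 : s ^ (k + 1) * s ^ (k + 1) = 1 := by
      rw [← pow_add, show k + 1 + (k + 1) = orderOf s by omega, pow_orderOf_eq_one]
    refine (eq_pm_one_of_sq h2 h1).resolve_left (fun h => ?_)
    have := Nat.le_of_dvd (by omega) (orderOf_dvd_of_pow_eq_one h)
    omega
  set S : Matrix (Fin 2) (Fin 2) F := (s : Matrix (Fin 2) (Fin 2) F) with hS
  set τ : F := S.trace with hτ
  set M : Matrix (Fin 2) (Fin 2) F := 1 + S with hM
  have hCH : S * S = τ • S - (1 : Matrix (Fin 2) (Fin 2) F) := by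
    have hd : S 0 0 * S 1 1 - S 0 1 * S 1 0 = 1 := by rw [← Matrix.det_fin_two]; exact s.2
    ext i j
    fin_cases i <;> fin_cases j <;>
      simp [hτ, Matrix.mul_apply, Fin.sum_univ_two, Matrix.trace_fin_two]
    · linear_combination -hd
    · ring
    · ring
    · linear_combination -hd
  have hdet : M.det = τ + 2 := by
    have hd : S 0 0 * S 1 1 - S 0 1 * S 1 0 = 1 := by rw [← Matrix.det_fin_two]; exact s.2
    simp only [hM, hτ, Matrix.det_fin_two, Matrix.trace_fin_two, Matrix.add_apply, Matrix.one_apply_eq,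
      Matrix.one_apply_ne (show (0 : Fin 2) ≠ 1 by decide), Matrix.one_apply_ne (show (1 : Fin 2) ≠ 0 by decide)]
    linear_combination hd
  have hne : τ + 2 ≠ 0 := by
    intro h
    have ht : S.trace = (-1 : F) + (-1) := by rw [← hτ]; linear_combination h
    have := pow_char_of_trace p (g := s) (r := -1) (by ring) ht
    have h1 : s ^ (2 * p) = 1 := by
      apply Subtype.ext
      rw [mul_comm, pow_mul, Matrix.SpecialLinearGroup.coe_pow, this, smul_pow, one_pow, ← pow_mul,
        mul_comm, pow_mul, neg_one_sq, one_pow, one_smul, Matrix.SpecialLinearGroup.coe_one]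
    have hd := orderOf_dvd_of_pow_eq_one h1
    rw [hs] at hd
    obtain ⟨j, -, hj⟩ := FiniteField.card F p
    have hc : (Fintype.card F + 1).Coprime p := by
      rw [Nat.coprime_comm, (Fact.out : p.Prime).coprime_iff_not_dvd, hj]
      exact fun h => (Fact.out : p.Prime).not_dvd_one ((Nat.dvd_add_right (dvd_pow_self p j.pos.ne')).1 h)
    have h3 : Fintype.card F + 1 ≤ 2 := Nat.le_of_dvd two_pos (hc.dvd_of_dvd_mul_right hd)
    omega
  have hM2 : M * M = (τ + 2) • S := by
    simp only [hM, add_mul, mul_add, one_mul, mul_one]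
    rw [hCH]
    module
  have hnsq : (τ + 2) ^ k = -1 := by
    obtain ⟨j, -, hj⟩ := FiniteField.card F p
    have hfrob : M ^ Fintype.card F = 1 + S ^ Fintype.card F := by
      rw [hM, hj, add_pow_char_pow_of_commute (p := p) _ (Commute.one_left S), one_pow]
    have h1 : M ^ Fintype.card F * S = M := by
      rw [hfrob, add_mul, one_mul, ← pow_succ, ← hs, hS, ← Matrix.SpecialLinearGroup.coe_pow,
        pow_orderOf_eq_one, Matrix.SpecialLinearGroup.coe_one, hM, add_comm]
    rw [hk, pow_succ, pow_mul, pow_two, hM2, smul_pow, Matrix.smul_mul, Matrix.smul_mul, mul_assoc] at h1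
    have hU : IsUnit M := (Matrix.isUnit_iff_isUnit_det M).mpr (by rw [hdet]; exact isUnit_iff_ne_zero.mpr hne)
    have hcomm : M * S = S * M := by rw [hM, add_mul, mul_add, one_mul, mul_one]
    rw [hcomm, ← mul_assoc, ← pow_succ, show S ^ (k + 1) = -1 by
      rw [hS, ← Matrix.SpecialLinearGroup.coe_pow, hm, Matrix.SpecialLinearGroup.coe_neg,
        Matrix.SpecialLinearGroup.coe_one], neg_one_mul, smul_neg] at h1
    have h2' : ((τ + 2) ^ k + 1) • M = 0 := by
      rw [add_smul, one_smul]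
      nth_rewrite 2 [← h1]
      abel
    rcases smul_eq_zero.mp h2' with h | h
    · linear_combination h
    · exact absurd h hU.ne_zero
  let g : GL (Fin 2) F := Matrix.GeneralLinearGroup.mkOfDetNeZero M (by rw [hdet]; exact hne)
  refine ⟨QuotientGroup.mk g, ?_⟩
  have hg : (g : Matrix (Fin 2) (Fin 2) F) = M := rfl
  have hpow : ∀ n : ℕ, M ^ (2 * n) = (τ + 2) ^ n • ((s ^ n : SL(2, F)) : Matrix (Fin 2) (Fin 2) F) := fun n => by
    rw [pow_mul, pow_two, hM2, smul_pow, Matrix.SpecialLinearGroup.coe_pow]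
  have h1 : (QuotientGroup.mk g : GL (Fin 2) F ⧸ Subgroup.center (GL (Fin 2) F)) ^ (Fintype.card F + 1) = 1 := by
    refine (mk_pow_eq_one_iff g _).mpr ⟨-(τ + 2) ^ (k + 1), ?_⟩
    rw [hg, show Fintype.card F + 1 = 2 * (k + 1) by omega, hpow, hm, Matrix.SpecialLinearGroup.coe_neg,
      Matrix.SpecialLinearGroup.coe_one, smul_neg, neg_smul]
  set o := orderOf (QuotientGroup.mk g : GL (Fin 2) F ⧸ Subgroup.center (GL (Fin 2) F)) with ho
  have hdvd : o ∣ Fintype.card F + 1 := orderOf_dvd_of_pow_eq_one h1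
  obtain ⟨c, hc⟩ := (mk_pow_eq_one_iff g o).mp (pow_orderOf_eq_one _)
  rw [hg] at hc
  have hge : k + 1 ∣ o := by
    have h3 : M ^ (2 * o) = (c * c) • (1 : Matrix (Fin 2) (Fin 2) F) := by
      rw [two_mul, pow_add, hc, Matrix.smul_mul, one_mul, smul_smul]
    rw [hpow] at h3
    have h4 : ((s ^ o : SL(2, F)) : Matrix (Fin 2) (Fin 2) F)
        = ((τ + 2) ^ o)⁻¹ • ((c * c) • (1 : Matrix (Fin 2) (Fin 2) F)) := by
      rw [← h3, smul_smul, inv_mul_cancel₀ (pow_ne_zero _ hne), one_smul]
    have h5 : s ^ o ∈ Subgroup.center SL(2, F) := (mem_center_iff _).mpr (by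
      rw [h4, smul_smul]; exact not_nonScalar_smul _)
    have h6 : s ^ (2 * o) = 1 := by
      rcases (mem_center_iff_pm _).mp h5 with e | e <;> rw [mul_comm, pow_mul, e] <;> simp [pow_two]
    have h7 := orderOf_dvd_of_pow_eq_one h6
    rw [hs, show Fintype.card F + 1 = 2 * (k + 1) by omega] at h7
    exact (Nat.mul_dvd_mul_iff_left two_pos).mp h7
  rw [show Fintype.card F + 1 = 2 * (k + 1) by omega] at hdvd ⊢
  obtain ⟨j, hj⟩ := hge
  rw [hj] at hdvd
  have hj2 : j ∣ 2 := (Nat.mul_dvd_mul_iff_left (Nat.succ_pos k)).mp (by rw [mul_comm (k + 1) 2]; exact hdvd)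
  rcases (Nat.dvd_prime Nat.prime_two).mp hj2 with rfl | rfl
  · exfalso
    rw [mul_one] at hj
    have h3 : M ^ (2 * (k + 1)) = (c * c) • (1 : Matrix (Fin 2) (Fin 2) F) := by
      rw [← hj, two_mul, pow_add, hc, Matrix.smul_mul, one_mul, smul_smul]
    rw [hpow, hm, pow_succ, hnsq, Matrix.SpecialLinearGroup.coe_neg, Matrix.SpecialLinearGroup.coe_one] at h3
    have h4 := congrFun (congrFun h3 0) 0
    simp at h4
    have hc0 : c ≠ 0 := fun h => hne (by rw [h, mul_zero] at h4; linear_combination h4)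
    have : (τ + 2) ^ k = 1 := by
      rw [show τ + 2 = c * c by linear_combination h4, ← pow_two, ← pow_mul,
        show 2 * k = Fintype.card F - 1 by omega, FiniteField.pow_card_sub_one_eq_one c hc0]
    rw [hnsq] at this
    exact h2 (by linear_combination -this)
  · rw [hj]; ring

/-- An element of order `q - 1`. -/
theorem exists_orderOf_pred :
    ∃ x : GL (Fin 2) F ⧸ Subgroup.center (GL (Fin 2) F), orderOf x = Fintype.card F - 1 := by
  classical
  obtain ⟨ζ, hζ⟩ := IsCyclic.exists_generator (α := Fˣ)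
  have ho : orderOf ζ = Fintype.card F - 1 := by
    rw [orderOf_eq_card_of_forall_mem_zpowers hζ, Nat.card_units, Nat.card_eq_fintype_card]
  let g : GL (Fin 2) F := Matrix.GeneralLinearGroup.mkOfDetNeZero !![(ζ : F), 0; 0, 1]
    (by simp [Matrix.det_fin_two])
  refine ⟨QuotientGroup.mk g, ?_⟩
  have hg : (g : Matrix (Fin 2) (Fin 2) F) = Matrix.diagonal ![(ζ : F), 1] := by
    ext i j
    fin_cases i <;> fin_cases j <;> simp [g, Matrix.GeneralLinearGroup.mkOfDetNeZero]
  rw [← ho]
  refine orderOf_eq_orderOf_iff.mpr fun n => ?_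
  rw [mk_pow_eq_one_iff, hg, Matrix.diagonal_pow]
  constructor
  · rintro ⟨c, hc⟩
    have h00 := congrFun (congrFun hc 0) 0
    have h11 := congrFun (congrFun hc 1) 1
    simp at h00 h11
    exact Units.ext (by rw [Units.val_pow_eq_pow_val, h00, ← h11, Units.val_one])
  · intro h
    refine ⟨1, ?_⟩
    have h' : (ζ : F) ^ n = 1 := by rw [← Units.val_pow_eq_pow_val, h, Units.val_one]
    ext i j
    fin_cases i <;> fin_cases j <;> simp [h']

/-- An element of order `p`. -/
theorem exists_orderOf_char (p : ℕ) [Fact p.Prime] [CharP F p] :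
    ∃ x : GL (Fin 2) F ⧸ Subgroup.center (GL (Fin 2) F), orderOf x = p := by
  let g : GL (Fin 2) F := Matrix.GeneralLinearGroup.mkOfDetNeZero !![(1 : F), 1; 0, 1]
    (by simp [Matrix.det_fin_two])
  have hpow : ∀ n : ℕ, (g : Matrix (Fin 2) (Fin 2) F) ^ n = !![(1 : F), (n : F); 0, 1] := by
    intro n
    induction n with
    | zero => simp [Matrix.one_fin_two]
    | succ n ih =>
      rw [pow_succ, ih]
      simp [g, Matrix.GeneralLinearGroup.mkOfDetNeZero]
      ring
  refine ⟨QuotientGroup.mk g, orderOf_eq_prime ?_ ?_⟩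
  · refine (mk_pow_eq_one_iff g p).mpr ⟨1, ?_⟩
    rw [hpow, CharP.cast_eq_zero, one_smul, Matrix.one_fin_two]
  · intro h
    obtain ⟨c, hc⟩ := (mk_pow_eq_one_iff g 1).mp (by rw [pow_one]; exact h)
    rw [hpow] at hc
    have := congrFun (congrFun hc 0) 1
    simp at this

/-- The spectrum of `PGL(2,q)` for odd `q`. -/
theorem pgl_spectrum (p : ℕ) [Fact p.Prime] [CharP F p] (h2 : (2 : F) ≠ 0) :
    Set.range (orderOf : GL (Fin 2) F ⧸ Subgroup.center (GL (Fin 2) F) → ℕ)
      = {m | ∃ n ∈ ({p, Fintype.card F - 1, Fintype.card F + 1} : Finset ℕ), m ∣ n} := by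
  haveI : Finite (GL (Fin 2) F) := inferInstance
  refine Cfsg.Agent.Spectra.range_orderOf_eq _ (pgl_pow p h2) ?_
  intro n hn
  simp only [Finset.mem_insert, Finset.mem_singleton] at hn
  rcases hn with rfl | rfl | rfl
  · exact exists_orderOf_char n
  · exact exists_orderOf_pred
  · exact exists_orderOf_succ p h2

end Cfsg.Agent.Spectra.PGL
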