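import Mathlib
import Cfsg.Agent.Known.SLTwo.Spectrum
import Cfsg.Agent.Spectra.SolvableTwins

/-!
An elementary abelian 2-group on which `PSL(2,p)` acts with elements of order `p` fixed point free and
with torus elements having non-zero norm: the image of right multiplication by the sum of a class of
elements of irreducible trace in the group algebra over the field with two elements.
-/

set_option autoImplicit false
set_option linter.unusedSectionVars false

open Matrix
open scoped MatrixGroups

namespace Cfsg.Agent.Spectra.TraceClass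

open Cfsg.Lib.GLTwo

variable {F : Type} [Field F]

/-- Two nilpotent trace zero forms: if `A` has irreducible trace, `tr(NA) ≠ 0` for nilpotent `N ≠ 0`. -/
theorem tr_mul_ne_zero (h2 : (2 : F) ≠ 0) (A N : Matrix (Fin 2) (Fin 2) F) (hd : A.det = 1)
    (hirr : Irred A.trace 1) (hn : N.trace = 0) (hn2 : N.det = 0) (hne : N ≠ 0) :
    (N * A).trace ≠ 0 := by
  intro h
  have h4ne : (4 : F) ≠ 0 := by rw [show (4 : F) = 2 * 2 by norm_num]; exact mul_ne_zero h2 h2
  set a := (A 0 0 - A 1 1) / 2 with ha
  set b := A 0 1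
  set c := A 1 0
  set x := N 0 0
  set y := N 0 1
  set z := N 1 0
  have hw : N 1 1 = -x := by
    rw [Matrix.trace_fin_two] at hn
    linear_combination hn
  have hx : x * x + y * z = 0 := by
    rw [Matrix.det_fin_two, hw] at hn2
    linear_combination -hn2
  have hab : a * a + b * c = ((A.trace) * (A.trace) - 4) / 4 := by
    rw [Matrix.det_fin_two] at hd
    rw [Matrix.trace_fin_two, ha]
    field_simp
    linear_combination -16 * hd
  have hnsq : ∀ r : F, r * r ≠ (A.trace) * (A.trace) - 4 := by
    intro r hr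
    refine hirr ((A.trace + r) / 2) ?_
    field_simp
    linear_combination hr
  have hlin : 2 * (a * x) + b * z + c * y = 0 := by
    have h' : N 0 0 * A 0 0 + N 0 1 * A 1 0 + (N 1 0 * A 0 1 + N 1 1 * A 1 1) = 0 := by
      simpa [Matrix.trace_fin_two, Matrix.mul_apply, Fin.sum_univ_two] using h
    rw [hw] at h'
    rw [ha]
    field_simp
    linear_combination h'
  have key : (b * z - c * y) * (b * z - c * y) = 4 * (a * a + b * c) * (x * x) := by
    linear_combination (b * z + c * y - 2 * (a * x)) * hlin - 4 * b * c * hx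
  have hx0 : x = 0 := by
    by_contra hx0
    refine hnsq ((b * z - c * y) / x) ?_
    rw [div_mul_div_comm, key, hab]
    field_simp
  rw [hx0] at key hlin hx
  have hbz : b * z = c * y := by
    have : (b * z - c * y) * (b * z - c * y) = 0 := by rw [key]; ring
    linear_combination mul_self_eq_zero.mp this
  have hbz0 : b * z = 0 := by
    have : (2 : F) * (b * z) = 0 := by linear_combination hlin + hbz
    exact (mul_eq_zero.mp this).resolve_left h2
  have hcy0 : c * y = 0 := hbz ▸ hbz0
  have hzy : y ≠ 0 ∨ z ≠ 0 := by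
    by_contra hh
    push Not at hh
    apply hne
    ext i j
    fin_cases i <;> fin_cases j
    · exact hx0
    · exact hh.1
    · exact hh.2
    · show N 1 1 = 0
      rw [hw, hx0, neg_zero]
  have hbc : b * c = 0 := by
    rcases hzy with hy | hz
    · rw [(mul_eq_zero.mp hcy0).resolve_right hy, mul_zero]
    · rw [(mul_eq_zero.mp hbz0).resolve_right hz, zero_mul]
  refine hnsq (2 * a) ?_
  have h4 : 4 * (a * a + b * c) = A.trace * A.trace - 4 := by rw [hab]; field_simp
  linear_combination h4 - 4 * hbc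

abbrev PSL (F : Type) [Field F] : Type := Matrix.ProjectiveSpecialLinearGroup (Fin 2) F

/-- The elements of trace `±τ`. -/
def InClass (τ : F) (g : PSL F) : Prop :=
  ∃ h : SL(2, F), prj h = g ∧ ((h : Matrix (Fin 2) (Fin 2) F).trace) ^ 2 = τ ^ 2

theorem inClass_prj (τ : F) (h : SL(2, F)) :
    InClass τ (prj h) ↔ ((h : Matrix (Fin 2) (Fin 2) F).trace) ^ 2 = τ ^ 2 := by
  refine ⟨fun ⟨k, hk, ht⟩ => ?_, fun ht => ⟨h, rfl, ht⟩⟩
  have he : prj (k⁻¹ * h) = 1 := by rw [map_mul, map_inv, hk, inv_mul_cancel]
  rcases (prj_eq_one_iff _).mp he with e | e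
  · rw [← inv_mul_eq_one.mp e]; exact ht
  · have : h = k * (-1) := by rw [← e, mul_inv_cancel_left]
    rw [this, mul_neg, mul_one, Matrix.SpecialLinearGroup.coe_neg, Matrix.trace_neg, neg_sq]
    exact ht

theorem inClass_conj (τ : F) (g x : PSL F) : InClass τ (x * g * x⁻¹) ↔ InClass τ g := by
  obtain ⟨h, rfl⟩ := QuotientGroup.mk'_surjective _ g
  obtain ⟨y, rfl⟩ := QuotientGroup.mk'_surjective _ x
  rw [← map_inv, ← map_mul, ← map_mul]
  show InClass τ (prj (y * h * y⁻¹)) ↔ InClass τ (prj h)
  rw [inClass_prj, inClass_prj]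
  have : ((y * h * y⁻¹ : SL(2, F)) : Matrix (Fin 2) (Fin 2) F).trace
      = (h : Matrix (Fin 2) (Fin 2) F).trace := by
    rw [Matrix.SpecialLinearGroup.coe_mul, Matrix.trace_mul_comm, ← Matrix.SpecialLinearGroup.coe_mul,
      ← mul_assoc, inv_mul_cancel, one_mul]
  rw [this]

open Classical in
/-- The indicator of the class, modulo two. -/
noncomputable def ind (τ : F) (g : PSL F) : ZMod 2 := if InClass τ g then 1 else 0

section Sums

variable [Fintype F] (p : ℕ) [Fact p.Prime] [CharP F p]

theorem sum_unip_coset (hq : Fintype.card F = p) (h2 : (2 : F) ≠ 0) {τ : F} (hirr : Irred τ 1) (hτ : τ ≠ 0)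
    (u a : PSL F) (hu : orderOf u = p) : ∑ i ∈ Finset.range p, ind τ (u ^ i * a) = 0 := by
  classical
  have hp := (Fact.out : p.Prime)
  have hp2 : p ≠ 2 := fun h => h2 (by
    have := CharP.cast_eq_zero F p
    rw [h] at this
    exact_mod_cast this)
  have hirr' : Irred (-τ) 1 := fun x hx => hirr (-x) (by linear_combination hx)
  obtain ⟨s0, hs0⟩ := QuotientGroup.mk'_surjective _ u
  have hs2 : orderOf (s0 ^ 2) = p := by
    have h := orderOf_prj s0
    rw [show prj s0 = u from hs0, hu] at h
    obtain ⟨k, hk⟩ := hp.odd_of_ne_two hp2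
    rwa [hq, Nat.gcd_eq_left ⟨k, by omega⟩, eq_comm] at h
  obtain ⟨k, hk⟩ := hp.odd_of_ne_two hp2
  set s : SL(2, F) := (s0 ^ 2) ^ (k + 1) with hsdef
  have hsu : prj s = u := by
    rw [hsdef, ← pow_mul, map_pow, show prj s0 = u from hs0, show 2 * (k + 1) = p + 1 by omega, pow_succ,
      ← hu, pow_orderOf_eq_one, one_mul]
  have hso : orderOf s = p := by
    haveI := Fact.mk hp
    refine orderOf_eq_prime ?_ ?_
    · rw [hsdef, ← pow_mul, mul_comm, pow_mul, ← hs2, pow_orderOf_eq_one, one_pow]
    · intro h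
      rw [h, map_one] at hsu
      rw [← hsu, orderOf_one] at hu
      exact hp.one_lt.ne hu
  obtain ⟨hns, htr⟩ := (orderOf_eq_char_iff p s).mp hso
  set S : Matrix (Fin 2) (Fin 2) F := (s : Matrix (Fin 2) (Fin 2) F) with hS
  set N : Matrix (Fin 2) (Fin 2) F := S - 1 with hN
  have hd : S 0 0 * S 1 1 - S 0 1 * S 1 0 = 1 := by rw [← Matrix.det_fin_two]; exact s.2
  rw [Matrix.trace_fin_two] at htr
  have hNtr : N.trace = 0 := by
    simp only [hN, Matrix.trace_sub, Matrix.trace_fin_two, Matrix.one_apply_eq]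
    linear_combination htr
  have hNdet : N.det = 0 := by
    simp only [hN, Matrix.det_fin_two, Matrix.sub_apply, Matrix.one_apply_eq,
      Matrix.one_apply_ne (show (0 : Fin 2) ≠ 1 by decide), Matrix.one_apply_ne (show (1 : Fin 2) ≠ 0 by decide)]
    linear_combination hd - htr
  have hN0 : N ≠ 0 := by
    intro h
    exact hns (by
      have hS1 : S = 1 := sub_eq_zero.mp h
      rw [hS1]; simp)
  have hN2 : N * N = 0 := by
    have : N * N = N.trace • N - N.det • (1 : Matrix (Fin 2) (Fin 2) F) := by
      ext i j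
      fin_cases i <;> fin_cases j <;>
        simp [Matrix.mul_apply, Fin.sum_univ_two, Matrix.trace_fin_two, Matrix.det_fin_two] <;> ring
    rw [this, hNtr, hNdet, zero_smul, zero_smul, sub_zero]
  have hpow : ∀ i : ℕ, S ^ i = 1 + (i : F) • N := by
    intro i
    induction i with
    | zero => simp
    | succ i ih =>
      rw [pow_succ, ih, show S = 1 + N by rw [hN]; abel]
      simp only [add_mul, mul_add, one_mul, mul_one, Matrix.smul_mul, hN2, smul_zero, Nat.cast_succ,
        add_smul, one_smul]
      abel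
  obtain ⟨t, rfl⟩ := QuotientGroup.mk'_surjective _ a
  set A : Matrix (Fin 2) (Fin 2) F := (t : Matrix (Fin 2) (Fin 2) F) with hA
  have hterm : ∀ i : ℕ, ind τ (u ^ i * prj t)
      = if A.trace + (i : F) * (N * A).trace = τ ∨ A.trace + (i : F) * (N * A).trace = -τ then 1 else 0 := by
    intro i
    rw [← hsu, ← map_pow, ← map_mul, ind]
    have : ((s ^ i * t : SL(2, F)) : Matrix (Fin 2) (Fin 2) F).trace = A.trace + (i : F) * (N * A).trace := by
      rw [Matrix.SpecialLinearGroup.coe_mul, Matrix.SpecialLinearGroup.coe_pow, ← hS, hpow, add_mul, one_mul,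
        Matrix.smul_mul, Matrix.trace_add, Matrix.trace_smul, smul_eq_mul]
    refine if_congr ?_ rfl rfl
    rw [inClass_prj, this, sq_eq_sq_iff_eq_or_eq_neg]
  show ∑ i ∈ Finset.range p, ind τ (u ^ i * prj t) = 0
  simp only [hterm]
  by_cases hc : (N * A).trace = 0
  · simp only [hc, mul_zero, add_zero]
    by_cases ht : A.trace = τ ∨ A.trace = -τ
    · exfalso
      refine tr_mul_ne_zero h2 A N t.2 ?_ hNtr hNdet hN0 hc
      rcases ht with e | e <;> rw [e]
      · exact hirr
      · exact hirr'
    · simp [if_neg ht]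
  · haveI : NeZero p := ⟨hp.ne_zero⟩
    have hsurj : ∀ r : F, ∃! i : ℕ, i < p ∧ A.trace + (i : F) * (N * A).trace = r := by
      intro r
      have hb : Function.Bijective (fun i : ZMod p => (ZMod.castHom (dvd_refl p) F) i) :=
        (Fintype.bijective_iff_injective_and_card _).mpr
          ⟨(ZMod.castHom (dvd_refl p) F).injective, by rw [ZMod.card, hq]⟩
      obtain ⟨i, hi⟩ := hb.2 ((r - A.trace) / (N * A).trace)
      refine ⟨i.val, ⟨i.val_lt, ?_⟩, ?_⟩
      · have : ((i.val : ℕ) : F) = (r - A.trace) / (N * A).trace := by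
          rw [← hi]
          show _ = ZMod.castHom (dvd_refl p) F i
          conv_rhs => rw [← ZMod.natCast_zmod_val i, map_natCast]
        rw [this, div_mul_cancel₀ _ hc]
        ring
      · rintro j ⟨hj, hje⟩
        have : ((j : ℕ) : ZMod p) = i := by
          apply hb.1
          show ZMod.castHom (dvd_refl p) F (j : ZMod p) = ZMod.castHom (dvd_refl p) F i
          rw [map_natCast, show ZMod.castHom (dvd_refl p) F i = (r - A.trace) / (N * A).trace from hi,
            eq_div_iff hc]
          linear_combination hje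
        rw [← this, ZMod.val_cast_of_lt hj]
    obtain ⟨i1, ⟨hi1, hi1e⟩, hu1⟩ := hsurj τ
    obtain ⟨i2, ⟨hi2, hi2e⟩, hu2⟩ := hsurj (-τ)
    have hne : i1 ≠ i2 := by
      intro e
      rw [e, hi2e] at hi1e
      have : (2 : F) * τ = 0 := by linear_combination -hi1e
      exact hτ ((mul_eq_zero.mp this).resolve_left h2)
    rw [Finset.sum_ite, Finset.sum_const_zero, add_zero, Finset.sum_const,
      show (Finset.range p).filter (fun i : ℕ => A.trace + (i : F) * (N * A).trace = τ
        ∨ A.trace + (i : F) * (N * A).trace = -τ) = {i1, i2} from by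
        ext i
        simp only [Finset.mem_filter, Finset.mem_range, Finset.mem_insert, Finset.mem_singleton]
        constructor
        · rintro ⟨hi, h | h⟩
          · exact Or.inl (hu1 i ⟨hi, h⟩)
          · exact Or.inr (hu2 i ⟨hi, h⟩)
        · rintro (rfl | rfl)
          · exact ⟨hi1, Or.inl hi1e⟩
          · exact ⟨hi2, Or.inr hi2e⟩,
      Finset.card_pair hne]
    decide

end Sums

section Module

variable (τ : F) (k : ℕ)

/-- The regular module, `k + 1` times. -/
abbrev Big (F : Type) [Field F] (k : ℕ) : Type := Fin (k + 1) → PSL F → ZMod 2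

variable [Fintype F]

noncomputable instance : Fintype (PSL F) := Fintype.ofFinite _

open Classical in
/-- Right multiplication by the class sum. -/
noncomputable def classMul : Multiplicative (Big F k) →* Multiplicative (Big F k) where
  toFun f := Multiplicative.ofAdd fun j x => ∑ y : PSL F, ind τ (x⁻¹ * y) * f.toAdd j y
  map_one' := by
    apply Multiplicative.toAdd.injective
    funext j x
    simp
  map_mul' f g := by
    apply Multiplicative.toAdd.injective
    funext j x
    simp [mul_add, Finset.sum_add_distrib]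

/-- The module. -/
noncomputable def mod : Subgroup (Multiplicative (Big F k)) := (classMul τ k).range

/-- Left translation. -/
def translate (g : PSL F) : MulAut (Multiplicative (Big F k)) where
  toFun f := Multiplicative.ofAdd fun j x => f.toAdd j (g⁻¹ * x)
  invFun f := Multiplicative.ofAdd fun j x => f.toAdd j (g * x)
  left_inv f := by
    apply Multiplicative.toAdd.injective
    funext j x
    simp
  right_inv f := by
    apply Multiplicative.toAdd.injective
    funext j x
    simp
  map_mul' f f' := rfl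

theorem translate_classMul (g : PSL F) (f : Multiplicative (Big F k)) :
    translate k g (classMul τ k f) = classMul τ k (translate k g f) := by
  apply Multiplicative.toAdd.injective
  funext j x
  show ∑ y : PSL F, ind τ ((g⁻¹ * x)⁻¹ * y) * f.toAdd j y = ∑ y : PSL F, ind τ (x⁻¹ * y) * f.toAdd j (g⁻¹ * y)
  rw [← Equiv.sum_comp (Equiv.mulLeft g) (fun y => ind τ (x⁻¹ * y) * f.toAdd j (g⁻¹ * y))]
  refine Finset.sum_congr rfl fun y _ => ?_
  simp [mul_assoc]

theorem translate_mem (g : PSL F) {f : Multiplicative (Big F k)} (hf : f ∈ mod τ k) :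
    translate k g f ∈ mod τ k := by
  obtain ⟨f', rfl⟩ := hf
  exact ⟨translate k g f', (translate_classMul τ k g f').symm⟩

/-- The action on the module. -/
noncomputable def act : PSL F →* MulAut ↥(mod τ k) where
  toFun g :=
    { toFun := fun v => ⟨translate k g v.1, translate_mem τ k g v.2⟩
      invFun := fun v => ⟨translate k g⁻¹ v.1, translate_mem τ k g⁻¹ v.2⟩
      left_inv := fun v => by
        apply Subtype.ext
        apply Multiplicative.toAdd.injective
        funext j x
        simp [translate]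
      right_inv := fun v => by
        apply Subtype.ext
        apply Multiplicative.toAdd.injective
        funext j x
        simp [translate]
      map_mul' := fun v w => Subtype.ext (map_mul (translate k g) v.1 w.1) }
  map_one' := by
    apply MulEquiv.ext
    intro v
    apply Subtype.ext
    apply Multiplicative.toAdd.injective
    funext j x
    simp [translate]
  map_mul' g h := by
    apply MulEquiv.ext
    intro v
    apply Subtype.ext
    apply Multiplicative.toAdd.injective
    funext j x
    simp [translate, mul_assoc]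

/-- The extension. -/
abbrev Ext : Type := ↥(mod τ k) ⋊[act τ k] PSL F

instance : Finite (Ext τ k) := Finite.of_equiv _ SemidirectProduct.equivProd.symm

theorem ext_pow (x : Ext τ k) (n : ℕ) :
    (x ^ n).right = x.right ^ n ∧ ∀ (j : Fin (k + 1)) (y : PSL F),
      ((x ^ n).left : Multiplicative (Big F k)).toAdd j y
        = ∑ i ∈ Finset.range n, (x.left : Multiplicative (Big F k)).toAdd j ((x.right ^ i)⁻¹ * y) := by
  induction n with
  | zero => exact ⟨by simp, fun j y => by simp⟩
  | succ n ih =>
    refine ⟨by rw [pow_succ, SemidirectProduct.mul_right, ih.1, pow_succ], fun j y => ?_⟩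
    rw [pow_succ, SemidirectProduct.mul_left, Finset.sum_range_succ, ← ih.2 j y, ih.1]
    rfl

theorem mod_sq (v : ↥(mod τ k)) : v ^ 2 = 1 := by
  apply Subtype.ext
  apply Multiplicative.toAdd.injective
  funext j y
  simp only [pow_two, Subgroup.coe_mul, OneMemClass.coe_one, toAdd_mul, toAdd_one, Pi.add_apply,
    Pi.zero_apply]
  exact (show ∀ c : ZMod 2, c + c = 0 by decide) _

variable (p : ℕ) [Fact p.Prime] [CharP F p]

/-- Elements mapping to elements of order `p` have order `p`. -/
theorem pow_char_eq_one (hq : Fintype.card F = p) (h2 : (2 : F) ≠ 0) (hirr : Irred τ 1) (hτ : τ ≠ 0)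
    (x : Ext τ k) (hx : orderOf x.right = p) : x ^ p = 1 := by
  apply SemidirectProduct.ext
  swap
  · rw [(ext_pow τ k x p).1, ← hx, pow_orderOf_eq_one]; rfl
  apply Subtype.ext
  apply Multiplicative.toAdd.injective
  funext j y
  rw [(ext_pow τ k x p).2 j y]
  show _ = (0 : ZMod 2)
  obtain ⟨f, hf⟩ := x.left.2
  rw [← hf]
  show ∑ i ∈ Finset.range p, ∑ z : PSL F, ind τ (((x.right ^ i)⁻¹ * y)⁻¹ * z) * f.toAdd j z = 0
  rw [Finset.sum_comm]
  refine Finset.sum_eq_zero fun z _ => ?_
  rw [← Finset.sum_mul]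
  have hu : orderOf (y⁻¹ * x.right * y) = p := by
    rw [← hx]
    exact (MulAut.conj y⁻¹).orderOf_eq x.right |>.symm ▸ by simp [MulAut.conj_apply]
  have hrw : ∀ i : ℕ, ((x.right ^ i)⁻¹ * y)⁻¹ * z = (y⁻¹ * x.right * y) ^ i * (y⁻¹ * z) := by
    intro i
    have : (y⁻¹ * x.right * y) ^ i = y⁻¹ * x.right ^ i * y := by
      have h := conj_pow (a := y⁻¹) (b := x.right) (i := i)
      rwa [inv_inv] at h
    rw [this, _root_.mul_inv_rev, inv_inv]
    group
  simp only [hrw]
  rw [sum_unip_coset p hq h2 hirr hτ _ _ hu, zero_mul]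

theorem all_orders (hq : Fintype.card F = p) (h2 : (2 : F) ≠ 0) (hirr : Irred τ 1) (hτ : τ ≠ 0)
    (x : Ext τ k) : ∃ n ∈ ({p, p - 1, p + 1} : Finset ℕ), x ^ n = 1 := by
  have hp := (Fact.out : p.Prime)
  obtain ⟨r, hr⟩ := hp.odd_of_ne_two (fun h => h2 (by
    have := CharP.cast_eq_zero F p
    rw [h] at this
    exact_mod_cast this))
  have hd : Nat.gcd 2 (p - 1) = 2 := Nat.gcd_eq_left ⟨r, by omega⟩
  have hdouble : ∀ m : ℕ, orderOf x.right ∣ m → x ^ (2 * m) = 1 := by
    intro m hm
    have h1 : (x ^ m).right = 1 := by rw [(ext_pow τ k x m).1, orderOf_dvd_iff_pow_eq_one.mp hm]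
    have h3 : x ^ m = SemidirectProduct.inl (x ^ m).left :=
      SemidirectProduct.ext (by simp) (by rw [SemidirectProduct.right_inl, h1])
    rw [mul_comm, pow_mul, h3, ← map_pow, mod_sq, map_one]
  have hm := (psl_spectrum (F := F) p (orderOf x.right)).mp ⟨x.right, rfl⟩
  rw [hq, hd] at hm
  rcases hm with h | h | h
  · rcases (Nat.dvd_prime hp).mp h with h1 | h1
    · refine ⟨p + 1, by simp, ?_⟩
      rw [show p + 1 = 2 * (r + 1) by omega]
      exact hdouble _ (by rw [h1]; exact one_dvd _)
    · exact ⟨p, by simp, pow_char_eq_one τ k p hq h2 hirr hτ x h1⟩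
  · refine ⟨p - 1, by simp, ?_⟩
    rw [show p - 1 = 2 * ((p - 1) / 2) by omega]
    exact hdouble _ h
  · refine ⟨p + 1, by simp, ?_⟩
    rw [show p + 1 = 2 * ((p + 1) / 2) by omega]
    exact hdouble _ h

open Classical in
/-- A witness: a torus element whose norm does not vanish on the module. -/
theorem exists_order_double (t : PSL F) (m : ℕ) (hm : orderOf t = m) (a : PSL F)
    (hcount : ∀ i, i < m → (InClass τ (t ^ i * a) ↔ i = 0)) :
    ∃ x : Ext τ k, orderOf x = 2 * m := by
  have hm0 : 0 < m := hm ▸ orderOf_pos t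
  let f : Multiplicative (Big F k) := Multiplicative.ofAdd fun _ y => if y = a then 1 else 0
  let x : Ext τ k := ⟨⟨classMul τ k f, f, rfl⟩, t⟩
  refine ⟨x, ?_⟩
  have hne : x ^ m ≠ 1 := by
    intro h
    have h1 := (ext_pow τ k x m).2 0 1
    rw [h] at h1
    have hsum : ∀ i ∈ Finset.range m, (x.left : Multiplicative (Big F k)).toAdd 0 ((x.right ^ i)⁻¹ * 1)
        = if i = 0 then 1 else 0 := by
      intro i hi
      show ∑ z : PSL F, ind τ (((t ^ i)⁻¹ * 1)⁻¹ * z) * (if z = a then (1 : ZMod 2) else 0) = _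
      simp only [mul_one, inv_inv, mul_ite, mul_zero]
      rw [Finset.sum_ite_eq' Finset.univ a, if_pos (Finset.mem_univ a), ind]
      exact if_congr (hcount i (Finset.mem_range.mp hi)) rfl rfl
    rw [Finset.sum_congr rfl hsum, Finset.sum_ite_eq' (Finset.range m) 0,
      if_pos (Finset.mem_range.mpr hm0)] at h1
    exact zero_ne_one (α := ZMod 2) h1
  have h1 : m ∣ orderOf x := by
    rw [← hm]
    exact orderOf_map_dvd (SemidirectProduct.rightHom : Ext τ k →* PSL F) x
  have h2 : orderOf x ∣ 2 * m := by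
    apply orderOf_dvd_of_pow_eq_one
    have hr : (x ^ m).right = 1 := by
      rw [(ext_pow τ k x m).1]
      show t ^ m = 1
      rw [← hm, pow_orderOf_eq_one]
    have h3 : x ^ m = SemidirectProduct.inl (x ^ m).left :=
      SemidirectProduct.ext (by simp) (by rw [SemidirectProduct.right_inl, hr])
    rw [mul_comm, pow_mul, h3, ← map_pow, mod_sq, map_one]
  obtain ⟨j, hj⟩ := h1
  rw [hj] at h2
  have hj2 : j ∣ 2 := (Nat.mul_dvd_mul_iff_left hm0).mp (by rw [mul_comm m 2]; exact h2)
  rcases (Nat.dvd_prime Nat.prime_two).mp hj2 with rfl | rfl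
  · exfalso
    apply hne
    rw [← orderOf_dvd_iff_pow_eq_one, hj, mul_one]
  · rw [hj, mul_comm]

open Classical in
theorem card_mod (a : PSL F) (ha : InClass τ a) : 2 ^ (k + 1) ≤ Nat.card (Ext τ k) := by
  let ι : (Fin (k + 1) → ZMod 2) → ↥(mod τ k) := fun w =>
    ⟨classMul τ k (Multiplicative.ofAdd fun j y => if y = a then w j else 0), _, rfl⟩
  have hι : Function.Injective ι := by
    intro w w' h
    funext j
    have h1 := congrArg (fun v : ↥(mod τ k) => (v : Multiplicative (Big F k)).toAdd j 1) h
    have hev : ∀ w : Fin (k + 1) → ZMod 2,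
        (ι w : Multiplicative (Big F k)).toAdd j 1 = w j := by
      intro w
      show ∑ z : PSL F, ind τ (1⁻¹ * z) * (if z = a then w j else 0) = w j
      simp only [mul_ite, mul_zero, inv_one, one_mul]
      rw [Finset.sum_ite_eq' Finset.univ a, if_pos (Finset.mem_univ a), ind, if_pos ha, one_mul]
    rw [← hev w, ← hev w']
    exact h1
  have h1 := Nat.card_le_card_of_injective _
    ((SemidirectProduct.inl_injective (φ := act τ k)).comp hι)
  rwa [Nat.card_fun, Nat.card_eq_fintype_card (α := Fin (k + 1)), Fintype.card_fin, Nat.card_zmod] at h1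

end Module

/-- For a prime field of order at least five: the twin. -/
theorem exists_twin [Fintype F] (p : ℕ) [Fact p.Prime] [CharP F p] (hq : Fintype.card F = p) (h5 : 5 ≤ p) (k : ℕ) :
    ∃ (H : Type) (_ : Group H) (_ : Finite H), 2 ^ (k + 1) ≤ Nat.card H ∧
      Set.range (orderOf : H → ℕ) = {m | ∃ n ∈ ({p, p - 1, p + 1} : Finset ℕ), m ∣ n} := by
  have hp := (Fact.out : p.Prime)
  have h2 : (2 : F) ≠ 0 := by
    intro h
    have hd : p ∣ 2 := (CharP.cast_eq_zero_iff F p 2).mp (by exact_mod_cast h)
    have := Nat.le_of_dvd two_pos hd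
    omega
  have h4ne : (4 : F) ≠ 0 := by rw [show (4 : F) = 2 * 2 by norm_num]; exact mul_ne_zero h2 h2
  obtain ⟨r, hr⟩ := hp.odd_of_ne_two (by omega)
  obtain ⟨s, hs⟩ := exists_orderOf_add_one (F := F)
  rw [hq] at hs
  have hd2 : Nat.gcd 2 (p - 1) = 2 := Nat.gcd_eq_left ⟨r, by omega⟩
  have hnot : ∀ i, 0 < i → i < p + 1 → s ^ i ≠ 1 := fun i h0 hlt h => by
    have := Nat.le_of_dvd h0 (orderOf_dvd_of_pow_eq_one h)
    omega
  set S : Matrix (Fin 2) (Fin 2) F := (s : Matrix (Fin 2) (Fin 2) F) with hS
  set τ : F := S.trace with hτdef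
  have hns : NonScalar S := by
    intro h
    rcases (mem_center_iff_pm s).mp ((mem_center_iff s).mpr (by rw [← hS]; exact not_not.mpr h)) with e | e
    · exact hnot 1 one_pos (by omega) (by rw [pow_one]; exact e)
    · exact hnot 2 two_pos (by omega) (by rw [e]; simp [pow_two])
  have hirr : Irred τ 1 := by
    have hpow := pow_card_cent s
    rcases kinds (g := s) hns with ⟨h, -⟩ | ⟨-, hc⟩ | ⟨⟨w, hw, ht⟩, -⟩
    · exact h
    · exfalso
      rw [hc, hq] at hpow
      exact hnot (p - 1) (by omega) (by omega) hpow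
    · exfalso
      have h1 := pow_char_of_trace p hw ht
      have h3 : s ^ (2 * p) = 1 := by
        apply Subtype.ext
        rw [mul_comm, pow_mul, Matrix.SpecialLinearGroup.coe_pow, h1, smul_pow, one_pow, ← pow_mul,
          mul_comm, pow_mul, sq, hw, one_pow, one_smul, Matrix.SpecialLinearGroup.coe_one]
      have hd := orderOf_dvd_of_pow_eq_one h3
      rw [hs] at hd
      have hc : (p + 1).Coprime p := by simp
      have := Nat.le_of_dvd two_pos (hc.dvd_of_dvd_mul_right hd)
      omega
  have hdS : S 0 0 * S 1 1 - S 0 1 * S 1 0 = 1 := by rw [← Matrix.det_fin_two]; exact s.2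
  have hτ : τ ≠ 0 := by
    intro h
    have h4 : s ^ 4 = 1 := by
      apply Subtype.ext
      rw [Matrix.SpecialLinearGroup.coe_pow, Matrix.SpecialLinearGroup.coe_one, ← hS]
      have hsq : S * S = -1 := by
        rw [hτdef, Matrix.trace_fin_two] at h
        ext i j
        fin_cases i <;> fin_cases j <;> simp [Matrix.mul_apply, Fin.sum_univ_two]
        · linear_combination (S 0 0) * h - hdS
        · linear_combination (S 0 1) * h
        · linear_combination (S 1 0) * h
        · linear_combination (S 1 1) * h - hdS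
      rw [pow_succ, pow_succ, pow_two, hsq, neg_one_mul, neg_mul, hsq, neg_neg]
    exact hnot 4 (by omega) (by omega) h4
  have ho : orderOf (prj s) = r + 1 := by
    rw [orderOf_prj, hq, hd2, orderOf_pow, hs, Nat.gcd_eq_right ⟨r + 1, by omega⟩]
    omega
  have hsplit : ∀ i : ℕ, ∃ c d : F, S ^ i = c • (1 : Matrix (Fin 2) (Fin 2) F) + d • S := by
    intro i
    induction i with
    | zero => exact ⟨1, 0, by simp⟩
    | succ i ih =>
      obtain ⟨c, d, h⟩ := ih
      refine ⟨-d, c + d * τ, ?_⟩
      have hSS : S * S = τ • S - (1 : Matrix (Fin 2) (Fin 2) F) := by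
        ext a b
        fin_cases a <;> fin_cases b <;> simp [hτdef, Matrix.mul_apply, Fin.sum_univ_two, Matrix.trace_fin_two]
        · linear_combination -hdS
        · ring
        · ring
        · linear_combination -hdS
      rw [pow_succ, h, add_mul, Matrix.smul_mul, Matrix.smul_mul, one_mul, hSS]
      module
  have h10 : S 1 0 ≠ 0 := by
    intro h
    refine hirr (S 0 0) ?_
    rw [hτdef, Matrix.trace_fin_two]
    rw [h, mul_zero, sub_zero] at hdS
    linear_combination -hdS
  -- an anticommuting element of prescribed determinant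
  have hJ : ∃ J : Matrix (Fin 2) (Fin 2) F, J.trace = 0 ∧ (S * J).trace = 0 ∧ J.det = 1 - τ * τ / 4 := by
    set K : F := (τ * τ - 4) / (4 * (S 1 0 * S 1 0)) with hK
    have hK0 : K ≠ 0 := by
      rw [hK, div_ne_zero_iff]
      refine ⟨fun h => hirr (τ / 2) ?_, mul_ne_zero ?_ (mul_ne_zero h10 h10)⟩
      · field_simp
        linear_combination -h
      · rw [show (4 : F) = 2 * 2 by norm_num]
        exact mul_ne_zero h2 h2
    obtain ⟨w, z, hwz⟩ := FiniteField.exists_root_sum_quadratic
      (f := Polynomial.C (-1 : F) * Polynomial.X ^ 2 - Polynomial.C (1 - τ * τ / 4))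
      (g := Polynomial.C K * Polynomial.X ^ 2)
      (by
        rw [Polynomial.degree_sub_eq_left_of_degree_lt]
        · rw [Polynomial.degree_C_mul (by norm_num), Polynomial.degree_X_pow]; rfl
        · rw [Polynomial.degree_C_mul (by norm_num), Polynomial.degree_X_pow]
          exact lt_of_le_of_lt Polynomial.degree_C_le (by norm_num))
      (by rw [Polynomial.degree_C_mul hK0, Polynomial.degree_X_pow]; rfl)
      (by rw [hq]; omega)
    simp only [Polynomial.eval_sub, Polynomial.eval_mul, Polynomial.eval_C, Polynomial.eval_pow,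
      Polynomial.eval_X] at hwz
    set x : F := w + (S 0 0 - S 1 1) * z / (2 * S 1 0) with hx
    set y : F := -((S 0 0 - S 1 1) * x + S 0 1 * z) / S 1 0 with hy
    refine ⟨!![x, y; z, -x], by simp [Matrix.trace_fin_two], ?_, ?_⟩
    · simp [Matrix.trace_fin_two, Matrix.mul_apply, Fin.sum_univ_two, hy]
      field_simp
      ring
    · simp only [Matrix.det_fin_two_of, hy, hx]
      rw [hK, hτdef, Matrix.trace_fin_two] at hwz
      rw [hτdef, Matrix.trace_fin_two]
      field_simp at hwz ⊢
      linear_combination 4 * hwz - 16 * (z * z) * hdS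
  obtain ⟨J, hJt, hJS, hJd⟩ := hJ
  have hA : ((τ / 2) • (1 : Matrix (Fin 2) (Fin 2) F) + J).det = 1 := by
    rw [Matrix.det_fin_two] at hJd
    rw [Matrix.trace_fin_two] at hJt
    simp only [Matrix.det_fin_two, Matrix.add_apply, Matrix.smul_apply, Matrix.one_apply_eq,
      Matrix.one_apply_ne (show (0 : Fin 2) ≠ 1 by decide), Matrix.one_apply_ne (show (1 : Fin 2) ≠ 0 by decide),
      smul_eq_mul, mul_one, mul_zero, zero_add]
    field_simp at hJd ⊢
    linear_combination hJd + 2 * τ * hJt
  set A : SL(2, F) := ⟨_, hA⟩ with hAdef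
  have htrA : ∀ i : ℕ, ((s ^ i * A : SL(2, F)) : Matrix (Fin 2) (Fin 2) F).trace
      = τ / 2 * (S ^ i).trace := by
    intro i
    obtain ⟨c, d, h⟩ := hsplit i
    rw [Matrix.SpecialLinearGroup.coe_mul, Matrix.SpecialLinearGroup.coe_pow, ← hS, hAdef]
    show (S ^ i * ((τ / 2) • 1 + J)).trace = _
    rw [mul_add, Matrix.mul_smul, mul_one, Matrix.trace_add, Matrix.trace_smul, smul_eq_mul, h,
      add_mul, Matrix.smul_mul, Matrix.smul_mul, one_mul]
    simp only [Matrix.trace_add, Matrix.trace_smul, hJt, hJS, smul_zero, add_zero]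
  have hcountN : ∀ i, i < r + 1 → (InClass τ (prj s ^ i * prj A) ↔ i = 0) := by
    intro i hi
    rw [← map_pow, ← map_mul, inClass_prj, htrA]
    constructor
    · intro h
      by_contra hi0
      have hsq : (S ^ i).trace ^ 2 = 4 := by
        have h4 : τ ^ 2 * ((S ^ i).trace ^ 2 - 4) = 0 := by
          field_simp at h
          linear_combination τ ^ 2 * h
        exact sub_eq_zero.mp ((mul_eq_zero.mp h4).resolve_left (pow_ne_zero 2 hτ))
      have h42 : (S ^ i).trace = (1 : F) + 1 ∨ (S ^ i).trace = (-1 : F) + (-1) := by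
        rcases sq_eq_sq_iff_eq_or_eq_neg.mp (hsq.trans (show (4 : F) = 2 ^ 2 by norm_num)) with e | e
        · left; rw [e]; norm_num
        · right; rw [e]; norm_num
      have hw : ∃ w : F, w * w = 1 ∧ ((s ^ i : SL(2, F)) : Matrix (Fin 2) (Fin 2) F).trace = w + w := by
        rw [Matrix.SpecialLinearGroup.coe_pow, ← hS]
        rcases h42 with e | e
        · exact ⟨1, one_mul 1, e⟩
        · exact ⟨-1, by ring, e⟩
      obtain ⟨w, hw1, hw2⟩ := hw
      have h1 := pow_char_of_trace p hw1 hw2
      have h3 : s ^ (i * (2 * p)) = 1 := by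
        apply Subtype.ext
        rw [pow_mul, mul_comm 2 p, pow_mul, Matrix.SpecialLinearGroup.coe_pow, h1, smul_pow, one_pow,
          ← pow_mul, mul_comm, pow_mul, sq, hw1, one_pow, one_smul, Matrix.SpecialLinearGroup.coe_one]
      have hd := orderOf_dvd_of_pow_eq_one h3
      rw [hs] at hd
      have hc : (p + 1).Coprime p := by simp
      rw [← mul_assoc] at hd
      have := Nat.le_of_dvd (by omega) (hc.dvd_of_dvd_mul_right hd)
      omega
    · rintro rfl
      rw [pow_zero, Matrix.trace_one, Fintype.card_fin]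
      push_cast
      field_simp
  have hts : ∃ (t a : PSL F), orderOf t = r ∧ ∀ i, i < r → (InClass τ (t ^ i * a) ↔ i = 0) := by
    obtain ⟨ζ, hζ⟩ := IsCyclic.exists_generator (α := Fˣ)
    have hζo : orderOf ζ = p - 1 := by
      rw [orderOf_eq_card_of_forall_mem_zpowers hζ, Nat.card_units, Nat.card_eq_fintype_card, hq]
    let B : SL(2, F) := ⟨!![τ, -1; 1, 0], by simp [Matrix.det_fin_two]⟩
    refine ⟨prj (torus ζ), prj B, ?_, fun i hi => ?_⟩
    · rw [orderOf_prj, hq, hd2, orderOf_pow, orderOf_injective _ torus_injective, hζo,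
        Nat.gcd_eq_right ⟨r, by omega⟩]
      omega
    · rw [← map_pow, ← map_mul, ← map_pow, inClass_prj]
      have htr : ((torus (ζ ^ i) * B : SL(2, F)) : Matrix (Fin 2) (Fin 2) F).trace = (ζ : F) ^ i * τ := by
        rw [Matrix.SpecialLinearGroup.coe_mul]
        show ((!![((ζ ^ i : Fˣ) : F), 0; 0, (((ζ ^ i)⁻¹ : Fˣ) : F)] : Matrix (Fin 2) (Fin 2) F)
          * !![τ, -1; 1, 0]).trace = _
        simp [Matrix.trace_fin_two, Matrix.mul_apply, Fin.sum_univ_two]
      rw [htr]
      constructor
      · intro h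
        by_contra hi0
        have h1 : ((ζ : F) ^ i) ^ 2 = 1 := by
          rw [mul_pow] at h
          exact mul_right_cancel₀ (pow_ne_zero 2 hτ) (h.trans (one_mul _).symm)
        have h3 : ζ ^ (2 * i) = 1 := Units.ext (by
          rw [Units.val_pow_eq_pow_val, mul_comm, pow_mul, h1, Units.val_one])
        have := Nat.le_of_dvd (by omega) (orderOf_dvd_of_pow_eq_one h3)
        omega
      · rintro rfl
        rw [pow_zero, one_mul]
  obtain ⟨t, a, hto, hcountS⟩ := hts
  have ha : InClass τ a := by
    have h := (hcountS 0 (by omega)).mpr rfl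
    rwa [pow_zero, one_mul] at h
  refine ⟨Ext τ k, inferInstance, inferInstance, card_mod τ k a ha, ?_⟩
  apply Cfsg.Agent.Spectra.range_orderOf_eq
  · exact all_orders τ k p hq h2 hirr hτ
  · intro n hn
    simp only [Finset.mem_insert, Finset.mem_singleton] at hn
    rcases hn with hn | hn | hn <;> subst n
    · obtain ⟨u, hu⟩ := (psl_spectrum (F := F) p p).mpr (Or.inl dvd_rfl)
      exact ⟨SemidirectProduct.inr u, by rw [orderOf_injective _ SemidirectProduct.inr_injective, hu]⟩
    · obtain ⟨x, hx⟩ := exists_order_double τ k t r hto a hcountS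
      exact ⟨x, by omega⟩
    · obtain ⟨x, hx⟩ := exists_order_double τ k (prj s) (r + 1) ho (prj A) hcountN
      exact ⟨x, by omega⟩

end Cfsg.Agent.Spectra.TraceClass
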