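import Mathlib
import Cfsg.Agent.Spectra.TraceClassModule
import Cfsg.Agent.Spectra.PGLTwo
import Cfsg.Agent.Spectra.EightModule
import Cfsg.Agent.Spectra.CubeTwist

/-!
Arbitrarily large groups with the element orders of `PGL(2,q)`, `q` prime or nine.
-/

set_option autoImplicit false

namespace Cfsg.Agent.Spectra.PGLTwins

/-- The `n`-th power in a semidirect product with commutative kernel, on the left. -/
theorem left_pow {N G : Type*} [CommGroup N] [Group G] (φ : G →* MulAut N) (x : N ⋊[φ] G) (n : ℕ) :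
    (x ^ n).right = x.right ^ n ∧ (x ^ n).left = ∏ i ∈ Finset.range n, φ (x.right ^ i) x.left := by
  induction n with
  | zero => exact ⟨by simp, by simp⟩
  | succ n ih =>
    refine ⟨by rw [pow_succ, SemidirectProduct.mul_right, ih.1, pow_succ], ?_⟩
    rw [pow_succ, SemidirectProduct.mul_left, ih.1, ih.2, Finset.prod_range_succ]

theorem pow_two_mul_eq_one {N G : Type*} [CommGroup N] [Group G] (φ : G →* MulAut N) {e : ℕ}
    (hN : ∀ v : N, v ^ e = 1) (x : N ⋊[φ] G) {m : ℕ} (hm : x.right ^ m = 1) : x ^ (m * e) = 1 := by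
  have h3 : x ^ m = SemidirectProduct.inl (x ^ m).left :=
    SemidirectProduct.ext (by simp) (by rw [SemidirectProduct.right_inl, (left_pow φ x m).1, hm])
  rw [pow_mul, h3, ← map_pow, hN, map_one]

theorem pow_eq_one_of_norm {N G : Type*} [CommGroup N] [Group G] (φ : G →* MulAut N) (x : N ⋊[φ] G)
    {m : ℕ} (hm : x.right ^ m = 1) (hn : ∏ i ∈ Finset.range m, φ (x.right ^ i) x.left = 1) :
    x ^ m = 1 :=
  SemidirectProduct.ext (by rw [(left_pow φ x m).2, hn]; rfl) (by rw [(left_pow φ x m).1, hm]; rfl)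

/-! ### `q = 2` -/

section Two

/-- Inversion. -/
def negAct (k : ℕ) : Multiplicative (ZMod 2) →* MulAut (Multiplicative (Fin (k + 1) → ZMod 3)) where
  toFun a := if a = 1 then 1 else MulEquiv.inv _
  map_one' := by simp
  map_mul' a b := by
    have h : ∀ a : Multiplicative (ZMod 2), a = 1 ∨ a = Multiplicative.ofAdd 1 := by decide
    rcases h a with rfl | rfl <;> rcases h b with rfl | rfl
    · simp
    · simp
    · simp
    · rw [show (Multiplicative.ofAdd (1 : ZMod 2)) * Multiplicative.ofAdd 1 = 1 from rfl, if_pos rfl,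
        if_neg (by decide)]
      apply MulEquiv.ext
      intro v
      simp

theorem two_twin (k : ℕ) : ∃ (H : Type) (_ : Group H) (_ : Finite H), 3 ^ (k + 1) ≤ Nat.card H ∧
    Set.range (orderOf : H → ℕ) = {m | ∃ n ∈ ({2, 3} : Finset ℕ), m ∣ n} := by
  let H := Multiplicative (Fin (k + 1) → ZMod 3) ⋊[negAct k] Multiplicative (ZMod 2)
  have hfin : Finite H := Finite.of_equiv _ SemidirectProduct.equivProd.symm
  have h3 : ∀ v : Multiplicative (Fin (k + 1) → ZMod 3), v ^ 3 = 1 := by
    intro v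
    apply Multiplicative.toAdd.injective
    funext i
    simp only [toAdd_pow, Pi.smul_apply, toAdd_one, Pi.zero_apply, nsmul_eq_mul]
    rw [ZMod.natCast_self, zero_mul]
  refine ⟨H, inferInstance, hfin, ?_, ?_⟩
  · have h := Nat.card_le_card_of_injective _ (SemidirectProduct.inl_injective (φ := negAct k))
    rwa [Nat.card_congr Multiplicative.toAdd, Nat.card_fun, Nat.card_zmod, Nat.card_eq_fintype_card,
      Fintype.card_fin] at h
  · haveI := hfin
    apply Cfsg.Agent.Spectra.range_orderOf_eq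
    · intro x
      rcases (show ∀ a : Multiplicative (ZMod 2), a = 1 ∨ a = Multiplicative.ofAdd 1 by decide) x.right with h | h
      · exact ⟨3, by simp, by simpa using pow_two_mul_eq_one _ h3 x (m := 1) (by rw [h, pow_one])⟩
      · refine ⟨2, by simp, pow_eq_one_of_norm _ x (by rw [h]; rfl) ?_⟩
        rw [Finset.prod_range_succ, Finset.prod_range_one, pow_zero, pow_one, map_one, h]
        simp [negAct]
    · intro n hn
      simp only [Finset.mem_insert, Finset.mem_singleton] at hn
      rcases hn with rfl | rfl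
      · refine ⟨SemidirectProduct.inr (Multiplicative.ofAdd 1), ?_⟩
        rw [orderOf_injective _ SemidirectProduct.inr_injective]
        haveI : Fact (Nat.Prime 2) := ⟨Nat.prime_two⟩
        exact orderOf_eq_prime rfl (by decide)
      · refine ⟨SemidirectProduct.inl (Multiplicative.ofAdd fun _ => 1), ?_⟩
        rw [orderOf_injective _ SemidirectProduct.inl_injective]
        haveI : Fact (Nat.Prime 3) := ⟨Nat.prime_three⟩
        refine orderOf_eq_prime (h3 _) ?_
        intro h
        exact one_ne_zero (α := ZMod 3) (congrFun h 0)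

theorem gl_two_two_facts :
    (∀ a b c d : ZMod 2, a * d - b * c = 1 →
      (!![a, b; c, d] : Matrix (Fin 2) (Fin 2) (ZMod 2)) ^ 2 = 1 ∨
      (!![a, b; c, d] : Matrix (Fin 2) (Fin 2) (ZMod 2)) ^ 3 = 1) ∧
    (∀ c : ZMod 2, c ≠ 0 → c = 1) ∧
    (!![0, 1; 1, 1] : Matrix (Fin 2) (Fin 2) (ZMod 2)).det ≠ 0 ∧
    (!![0, 1; 1, 1] : Matrix (Fin 2) (Fin 2) (ZMod 2)) ^ 3 = 1 := by decide +kernel

theorem pgl_two_zmod : Set.range (orderOf : Matrix.GeneralLinearGroup (Fin 2) (ZMod 2) ⧸
    Subgroup.center (Matrix.GeneralLinearGroup (Fin 2) (ZMod 2)) → ℕ)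
      = {m | ∃ n ∈ ({2, 3} : Finset ℕ), m ∣ n} := by
  haveI : Fact (Nat.Prime 2) := ⟨Nat.prime_two⟩
  haveI : Fact (Nat.Prime 3) := ⟨Nat.prime_three⟩
  have hall : ∀ a b c d : ZMod 2, a * d - b * c = 1 →
      (!![a, b; c, d] : Matrix (Fin 2) (Fin 2) (ZMod 2)) ^ 2 = 1 ∨
      (!![a, b; c, d] : Matrix (Fin 2) (Fin 2) (ZMod 2)) ^ 3 = 1 := gl_two_two_facts.1
  apply Cfsg.Agent.Spectra.range_orderOf_eq
  · intro x
    obtain ⟨g, rfl⟩ := QuotientGroup.mk_surjective x
    have hd : (g : Matrix (Fin 2) (Fin 2) (ZMod 2)).det = 1 := by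
      have h : IsUnit ((g : Matrix (Fin 2) (Fin 2) (ZMod 2)).det) :=
        (Matrix.isUnit_iff_isUnit_det _).mp g.isUnit
      exact gl_two_two_facts.2.1 _ h.ne_zero
    rw [Matrix.det_fin_two] at hd
    rcases hall _ _ _ _ hd with h | h <;> rw [← Matrix.eta_fin_two (g : Matrix (Fin 2) (Fin 2) (ZMod 2))] at h
    · exact ⟨2, by simp, (PGL.mk_pow_eq_one_iff g 2).mpr ⟨1, by rw [h, one_smul]⟩⟩
    · exact ⟨3, by simp, (PGL.mk_pow_eq_one_iff g 3).mpr ⟨1, by rw [h, one_smul]⟩⟩
  · intro n hn
    simp only [Finset.mem_insert, Finset.mem_singleton] at hn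
    rcases hn with rfl | rfl
    · haveI : CharP (ZMod 2) 2 := ZMod.charP 2
      exact PGL.exists_orderOf_char 2
    · let g : Matrix.GeneralLinearGroup (Fin 2) (ZMod 2) :=
        Matrix.GeneralLinearGroup.mkOfDetNeZero !![0, 1; 1, 1] gl_two_two_facts.2.2.1
      refine ⟨QuotientGroup.mk g, orderOf_eq_prime ((PGL.mk_pow_eq_one_iff g 3).mpr ⟨1, ?_⟩) ?_⟩
      · rw [one_smul]
        exact gl_two_two_facts.2.2.2
      · intro h
        obtain ⟨c, hc⟩ := (PGL.mk_pow_eq_one_iff g 1).mp (by rw [pow_one]; exact h)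
        have := congrFun (congrFun hc 0) 1
        simp [g, Matrix.GeneralLinearGroup.mkOfDetNeZero] at this

end Two

/-! ### `q = 3` -/

section Three

abbrev SLTwoTwo : Type := Matrix.SpecialLinearGroup (Fin 2) (ZMod 2)

/-- The natural action, diagonally. -/
def natAct (k : ℕ) : SLTwoTwo →* MulAut (Multiplicative (Fin (k + 1) → Fin 2 → ZMod 2)) where
  toFun g :=
    { toFun := fun v => Multiplicative.ofAdd fun i => (g : Matrix (Fin 2) (Fin 2) (ZMod 2)).mulVec (v.toAdd i)
      invFun := fun v => Multiplicative.ofAdd fun i =>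
        ((g⁻¹ : SLTwoTwo) : Matrix (Fin 2) (Fin 2) (ZMod 2)).mulVec (v.toAdd i)
      left_inv := fun v => by
        apply Multiplicative.toAdd.injective
        funext i
        simp only [toAdd_ofAdd]
        rw [Matrix.mulVec_mulVec, ← Matrix.SpecialLinearGroup.coe_mul, inv_mul_cancel,
          Matrix.SpecialLinearGroup.coe_one, Matrix.one_mulVec]
      right_inv := fun v => by
        apply Multiplicative.toAdd.injective
        funext i
        simp only [toAdd_ofAdd]
        rw [Matrix.mulVec_mulVec, ← Matrix.SpecialLinearGroup.coe_mul, mul_inv_cancel,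
          Matrix.SpecialLinearGroup.coe_one, Matrix.one_mulVec]
      map_mul' := fun v w => by
        apply Multiplicative.toAdd.injective
        funext i
        simp [Matrix.mulVec_add] }
  map_one' := by
    apply MulEquiv.ext
    intro v
    apply Multiplicative.toAdd.injective
    funext i
    simp only [MulEquiv.coe_mk, Equiv.coe_fn_mk, toAdd_ofAdd, MulAut.one_apply,
      Matrix.SpecialLinearGroup.coe_one, Matrix.one_mulVec]
  map_mul' a b := by
    apply MulEquiv.ext
    intro v
    apply Multiplicative.toAdd.injective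
    funext i
    simp only [MulEquiv.coe_mk, Equiv.coe_fn_mk, toAdd_ofAdd, MulAut.mul_apply,
      Matrix.SpecialLinearGroup.coe_mul, Matrix.mulVec_mulVec]

theorem sl_two_two : ∀ a b c d : ZMod 2, a * d - b * c = 1 →
    (!![a, b; c, d] : Matrix (Fin 2) (Fin 2) (ZMod 2)) ^ 2 = 1 ∨
      ((!![a, b; c, d] : Matrix (Fin 2) (Fin 2) (ZMod 2)) ^ 3 = 1 ∧
        ∀ v w : ZMod 2, ![v, w] + (!![a, b; c, d]).mulVec ![v, w]
          + ((!![a, b; c, d] : Matrix (Fin 2) (Fin 2) (ZMod 2)) ^ 2).mulVec ![v, w] = 0) := by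
  decide +kernel

def transv : SLTwoTwo := ⟨!![1, 1; 0, 1], by decide +kernel⟩

def rot : SLTwoTwo := ⟨!![0, 1; 1, 1], by decide +kernel⟩

theorem transv_val : (![0, 1] : Fin 2 → ZMod 2) 0
    + ((transv : Matrix (Fin 2) (Fin 2) (ZMod 2)).mulVec ![0, 1]) 0 ≠ 0 := by decide +kernel

theorem three_twin (k : ℕ) : ∃ (H : Type) (_ : Group H) (_ : Finite H), 4 ^ (k + 1) ≤ Nat.card H ∧
    Set.range (orderOf : H → ℕ) = {m | ∃ n ∈ ({3, 4} : Finset ℕ), m ∣ n} := by
  let H := Multiplicative (Fin (k + 1) → Fin 2 → ZMod 2) ⋊[natAct k] SLTwoTwo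
  have hfin : Finite H := Finite.of_equiv _ SemidirectProduct.equivProd.symm
  have h2 : ∀ v : Multiplicative (Fin (k + 1) → Fin 2 → ZMod 2), v ^ 2 = 1 := by
    intro v
    apply Multiplicative.toAdd.injective
    funext i j
    simp only [toAdd_pow, Pi.smul_apply, toAdd_one, Pi.zero_apply, nsmul_eq_mul]
    rw [ZMod.natCast_self, zero_mul]
  refine ⟨H, inferInstance, hfin, ?_, ?_⟩
  · have h := Nat.card_le_card_of_injective _ (SemidirectProduct.inl_injective (φ := natAct k))
    rwa [Nat.card_congr Multiplicative.toAdd, Nat.card_fun, Nat.card_fun, Nat.card_zmod,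
      Nat.card_eq_fintype_card, Nat.card_eq_fintype_card, Fintype.card_fin, Fintype.card_fin] at h
  · haveI := hfin
    apply Cfsg.Agent.Spectra.range_orderOf_eq
    · intro x
      have hd : (x.right : Matrix (Fin 2) (Fin 2) (ZMod 2)) 0 0 * (x.right : Matrix (Fin 2) (Fin 2) (ZMod 2)) 1 1
          - (x.right : Matrix (Fin 2) (Fin 2) (ZMod 2)) 0 1 * (x.right : Matrix (Fin 2) (Fin 2) (ZMod 2)) 1 0 = 1 := by
        rw [← Matrix.det_fin_two]
        exact x.right.2
      have hcases := sl_two_two _ _ _ _ hd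
      rw [← Matrix.eta_fin_two (x.right : Matrix (Fin 2) (Fin 2) (ZMod 2))] at hcases
      rcases hcases with h | ⟨h, hn⟩
      · exact ⟨4, by simp, pow_two_mul_eq_one _ h2 x (m := 2) (Subtype.ext h)⟩
      · refine ⟨3, by simp, pow_eq_one_of_norm _ x (Subtype.ext h) ?_⟩
        rw [Finset.prod_range_succ, Finset.prod_range_succ, Finset.prod_range_one, pow_zero, pow_one, map_one]
        apply Multiplicative.toAdd.injective
        funext i
        have hv : x.left.toAdd i = ![x.left.toAdd i 0, x.left.toAdd i 1] := by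
          funext j
          fin_cases j <;> rfl
        have h' := hn (x.left.toAdd i 0) (x.left.toAdd i 1)
        rw [← hv] at h'
        exact h'
    · intro n hn
      simp only [Finset.mem_insert, Finset.mem_singleton] at hn
      rcases hn with rfl | rfl
      · refine ⟨SemidirectProduct.inr rot, ?_⟩
        rw [orderOf_injective _ SemidirectProduct.inr_injective]
        haveI : Fact (Nat.Prime 3) := ⟨Nat.prime_three⟩
        exact orderOf_eq_prime (by decide +kernel) (by decide +kernel)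
      · let x : H := ⟨Multiplicative.ofAdd fun _ => ![0, 1], transv⟩
        refine ⟨x, ?_⟩
        haveI : Fact (Nat.Prime 2) := ⟨Nat.prime_two⟩
        refine orderOf_eq_prime_pow (p := 2) (n := 1) ?_
          (pow_two_mul_eq_one _ h2 x (m := 2) (show transv ^ 2 = 1 by decide +kernel))
        intro h
        rw [pow_one] at h
        have h1 := congrArg SemidirectProduct.left h
        rw [(left_pow _ x 2).2, Finset.prod_range_succ, Finset.prod_range_one, pow_zero, pow_one,
          map_one] at h1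
        have h3 := congrFun (congrFun (congrArg Multiplicative.toAdd h1) 0) 0
        exact transv_val h3

end Three

/-! ### `q = 9` -/

section Nine

variable {R : Type} [CommRing R]

/-- The module for `q = 9`. -/
abbrev Mon (R : Type) (k : ℕ) : Type := Multiplicative (Fin (k + 1) → Fin 4 → R)

/-- Signed cyclic shift. -/
def sgn (i : Fin 4) : R := if i = 3 then -1 else 1

theorem sgn_sq (i : Fin 4) : (sgn i : R) * sgn i = 1 := by
  unfold sgn
  split <;> ring

/-- Signed shift as an automorphism. -/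
def sshift (k : ℕ) : MulAut (Mon R k) where
  toFun v := Multiplicative.ofAdd fun j i => sgn i * v.toAdd j (i + 1)
  invFun v := Multiplicative.ofAdd fun j i => sgn (i + 3) * v.toAdd j (i + 3)
  left_inv v := by
    apply Multiplicative.toAdd.injective
    funext j i
    simp [add_assoc, show (3 : Fin 4) + 1 = 0 from rfl, ← mul_assoc, sgn_sq]
  right_inv v := by
    apply Multiplicative.toAdd.injective
    funext j i
    simp [add_assoc, show (1 : Fin 4) + 3 = 0 from rfl, ← mul_assoc, sgn_sq]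
  map_mul' v w := by
    apply Multiplicative.toAdd.injective
    funext j i
    simp [mul_add]

variable {e : R}

/-- Scaling by weights as an automorphism. -/
def wscale (he : e ^ 5 = 1) (k : ℕ) : MulAut (Mon R k) where
  toFun v := Multiplicative.ofAdd fun j i => e ^ Twist.wt i * v.toAdd j i
  invFun v := Multiplicative.ofAdd fun j i => e ^ (4 * Twist.wt i) * v.toAdd j i
  left_inv v := by
    apply Multiplicative.toAdd.injective
    funext j i
    simp only [toAdd_ofAdd]
    rw [← mul_assoc, ← pow_add, show 4 * Twist.wt i + Twist.wt i = 5 * Twist.wt i by ring, pow_mul, he,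
      one_pow, one_mul]
  right_inv v := by
    apply Multiplicative.toAdd.injective
    funext j i
    simp only [toAdd_ofAdd]
    rw [← mul_assoc, ← pow_add, show Twist.wt i + 4 * Twist.wt i = 5 * Twist.wt i by ring, pow_mul, he,
      one_pow, one_mul]
  map_mul' v w := by
    apply Multiplicative.toAdd.injective
    funext j i
    simp [mul_add]

variable (he : e ^ 5 = 1) (k : ℕ)

theorem wscale_pow (n : ℕ) (v : Mon R k) :
    (wscale he k ^ n) v = Multiplicative.ofAdd (fun j i => e ^ (n * Twist.wt i) * v.toAdd j i) := by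
  induction n generalizing v with
  | zero => simp
  | succ n ih =>
    rw [pow_succ, MulAut.mul_apply, ih]
    apply Multiplicative.toAdd.injective
    funext j i
    simp [wscale, ← mul_assoc, ← pow_add, Nat.succ_mul]

theorem wscale_five : wscale he k ^ 5 = 1 := by
  apply MulEquiv.ext
  intro v
  rw [wscale_pow]
  apply Multiplicative.toAdd.injective
  funext j i
  simp [pow_mul, he]

theorem sshift_four (v : Mon R k) : (sshift k ^ 4) v = v⁻¹ := by
  rw [pow_succ, pow_succ, pow_two, MulAut.mul_apply, MulAut.mul_apply, MulAut.mul_apply]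
  apply Multiplicative.toAdd.injective
  funext j i
  fin_cases i <;> simp [sshift, sgn]

theorem sshift_eight : (sshift k : MulAut (Mon R k)) ^ 8 = 1 := by
  apply MulEquiv.ext
  intro v
  rw [show 8 = 4 + 4 from rfl, pow_add, MulAut.mul_apply, sshift_four, sshift_four, inv_inv]
  rfl

theorem sshift_wscale : sshift k * wscale he k = wscale he k ^ 2 * sshift k := by
  apply MulEquiv.ext
  intro v
  rw [MulAut.mul_apply, MulAut.mul_apply, wscale_pow]
  apply Multiplicative.toAdd.injective
  funext j i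
  simp only [sshift, wscale, MulEquiv.coe_mk, Equiv.coe_fn_mk, toAdd_ofAdd]
  rw [pow_eq_pow_mod (2 * Twist.wt i) he, Twist.wt_table]
  ring

theorem sshift_wscale_pow (j n : ℕ) :
    sshift k ^ j * wscale he k ^ n = wscale he k ^ (2 ^ j * n) * sshift k ^ j := by
  have h1 : ∀ n : ℕ, sshift k * wscale he k ^ n = wscale he k ^ (2 * n) * sshift k := by
    intro n
    induction n with
    | zero => simp
    | succ n ih => rw [pow_succ, ← mul_assoc, ih, mul_assoc, sshift_wscale, ← mul_assoc, ← pow_add, Nat.mul_succ]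
  induction j with
  | zero => simp
  | succ j ih => rw [pow_succ', mul_assoc, ih, ← mul_assoc, h1, mul_assoc, pow_succ' 2 j, Nat.mul_assoc 2]

/-- The complement of order 40. -/
def comp40 : Subgroup (MulAut (Mon R k)) where
  carrier := {f | ∃ (i : Fin 5) (j : Fin 8), f = wscale he k ^ (i : ℕ) * sshift k ^ (j : ℕ)}
  mul_mem' := by
    rintro _ _ ⟨i, j, rfl⟩ ⟨i', j', rfl⟩
    refine ⟨⟨(i + 2 ^ (j : ℕ) * i') % 5, Nat.mod_lt _ (by norm_num)⟩,
      ⟨(j + j') % 8, Nat.mod_lt _ (by norm_num)⟩, ?_⟩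
    rw [← pow_eq_pow_mod _ (wscale_five he k), ← pow_eq_pow_mod _ (sshift_eight k), pow_add, pow_add,
      ← mul_assoc, mul_assoc (wscale he k ^ (i : ℕ)), sshift_wscale_pow]
    simp only [mul_assoc]
  one_mem' := ⟨0, 0, by simp⟩
  inv_mem' := by
    rintro _ ⟨i, j, rfl⟩
    refine ⟨⟨(2 ^ (8 - (j : ℕ)) * (5 - (i : ℕ))) % 5, Nat.mod_lt _ (by norm_num)⟩,
      ⟨(8 - (j : ℕ)) % 8, Nat.mod_lt _ (by norm_num)⟩, ?_⟩
    rw [← pow_eq_pow_mod _ (wscale_five he k), ← pow_eq_pow_mod _ (sshift_eight k), ← sshift_wscale_pow]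
    apply inv_eq_of_mul_eq_one_right
    rw [mul_assoc, ← mul_assoc (sshift k ^ (j : ℕ)), ← pow_add,
      show (j : ℕ) + (8 - (j : ℕ)) = 8 by omega, sshift_eight, one_mul, ← pow_add,
      show (i : ℕ) + (5 - (i : ℕ)) = 5 by omega, wscale_five]

theorem comp40_cases (f : MulAut (Mon R k)) (hf : f ∈ comp40 he k) :
    f = 1 ∨ (∃ n : ℕ, ¬ 5 ∣ n ∧ f = wscale he k ^ n ∧ f ^ 5 = 1) ∨
      (f ^ 5 = sshift k ^ 4) ∨ (f ^ 4 = sshift k ^ 4) ∨ (f ^ 2 = sshift k ^ 4) := by
  obtain ⟨i, j, rfl⟩ := hf
  set x := wscale he k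
  set c := (sshift k : MulAut (Mon R k))
  have hc4 : ∀ n, c ^ 4 * x ^ n = x ^ n * c ^ 4 := by
    intro n
    rw [sshift_wscale_pow, pow_eq_pow_mod _ (wscale_five he k), pow_eq_pow_mod n (wscale_five he k)]
    congr 2
    rw [Nat.mul_mod]
    norm_num
  have hsq : (x ^ (i : ℕ) * c ^ (j : ℕ)) ^ 2 = x ^ ((i : ℕ) + 2 ^ (j : ℕ) * i) * c ^ (2 * (j : ℕ)) := by
    rw [pow_two, mul_assoc, ← mul_assoc (c ^ (j : ℕ)), sshift_wscale_pow, mul_assoc, ← pow_add,
      ← mul_assoc, ← pow_add, two_mul]
  have hfour : (x ^ (i : ℕ) * c ^ (j : ℕ)) ^ 4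
      = x ^ (((i : ℕ) + 2 ^ (j : ℕ) * i) + 2 ^ (2 * (j : ℕ)) * ((i : ℕ) + 2 ^ (j : ℕ) * i)) * c ^ (4 * (j : ℕ)) := by
    rw [(by rw [← pow_mul] : (x ^ (i : ℕ) * c ^ (j : ℕ)) ^ 4 = ((x ^ (i : ℕ) * c ^ (j : ℕ)) ^ 2) ^ 2),
      hsq, pow_two, mul_assoc, ← mul_assoc (c ^ (2 * (j : ℕ))), sshift_wscale_pow, mul_assoc, ← pow_add,
      ← mul_assoc, ← pow_add]
    congr 2
    ring
  have harith : ∀ (i : Fin 5) (j : Fin 8), (j : ℕ) % 2 = 1 →
      (((i : ℕ) + 2 ^ (j : ℕ) * i) + 2 ^ (2 * (j : ℕ)) * ((i : ℕ) + 2 ^ (j : ℕ) * i)) % 5 = 0 := by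
    decide
  have harith2 : ∀ (i : Fin 5) (j : Fin 8), (j : ℕ) % 4 = 2 → ((i : ℕ) + 2 ^ (j : ℕ) * i) % 5 = 0 := by
    decide
  by_cases hodd : (j : ℕ) % 2 = 1
  · right; right; right; left
    rw [hfour, pow_eq_pow_mod _ (wscale_five he k), harith i j hodd, pow_zero, one_mul,
      pow_eq_pow_mod _ (sshift_eight k), show 4 * (j : ℕ) % 8 = 4 by omega]
  by_cases hj2 : (j : ℕ) % 4 = 2
  · right; right; right; right
    rw [hsq, pow_eq_pow_mod _ (wscale_five he k), harith2 i j hj2, pow_zero, one_mul,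
      pow_eq_pow_mod _ (sshift_eight k), show 2 * (j : ℕ) % 8 = 4 by omega]
  have hj : (j : ℕ) = 0 ∨ (j : ℕ) = 4 := by omega
  rcases hj with hj | hj
  · rw [hj, pow_zero, mul_one]
    by_cases hi : (i : ℕ) = 0
    · left; rw [hi, pow_zero]
    · right; left
      exact ⟨i, by omega, rfl, by rw [← pow_mul, mul_comm, pow_mul, wscale_five, one_pow]⟩
  · right; right; left
    rw [hj, (show Commute (x ^ (i : ℕ)) (c ^ 4) from (hc4 _).symm).mul_pow, ← pow_mul, mul_comm, pow_mul,
      wscale_five, one_pow, one_mul, ← pow_mul, pow_eq_pow_mod _ (sshift_eight k)]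

theorem comp40_fixed [CharP R 3] (hne : ∀ n : ℕ, ¬ 5 ∣ n → IsUnit (e ^ n - 1))
    (f : MulAut (Mon R k)) (hf : f ∈ comp40 he k) (hne1 : f ≠ 1) (v : Mon R k) (hv : f v = v) : v = 1 := by
  have hpow : ∀ n : ℕ, (f ^ n) v = v := by
    intro n
    induction n with
    | zero => rfl
    | succ n ih => rw [pow_succ, MulAut.mul_apply, hv, ih]
  have hinv : ∀ n : ℕ, f ^ n = sshift k ^ 4 → v = 1 := by
    intro n hn
    have h := hpow n
    rw [hn, sshift_four] at h
    have h2 : v ^ 2 = 1 := by rw [pow_two]; nth_rewrite 1 [← h]; rw [inv_mul_cancel]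
    have h3 : v ^ 3 = 1 := by
      apply Multiplicative.toAdd.injective
      funext j i
      simp only [toAdd_pow, Pi.smul_apply, toAdd_one, Pi.zero_apply, nsmul_eq_mul]
      rw [CharP.cast_eq_zero R 3, zero_mul]
    rw [pow_succ, h2, one_mul] at h3
    exact h3
  rcases comp40_cases he k f hf with h | ⟨n, hn, h, -⟩ | h | h | h
  · exact absurd h hne1
  · apply Multiplicative.toAdd.injective
    funext j i
    rw [h, wscale_pow] at hv
    have h' := congrFun (congrFun (congrArg Multiplicative.toAdd hv) j) i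
    simp only [toAdd_ofAdd] at h'
    have h5 : ¬ 5 ∣ n * Twist.wt i := fun h5 =>
      ((Nat.Prime.dvd_mul (by norm_num)).mp h5).elim hn (Twist.wt_not_dvd i)
    exact (hne _ h5).mul_right_eq_zero.mp (by rw [sub_mul, h', one_mul, sub_self])
  · exact hinv _ h
  · exact hinv _ h
  · exact hinv _ h

theorem nine_twin (k : ℕ) : ∃ (H : Type) (_ : Group H) (_ : Finite H), 2 ^ (k + 1) ≤ Nat.card H ∧
    Set.range (orderOf : H → ℕ) = {m | ∃ n ∈ ({3, 8, 10} : Finset ℕ), m ∣ n} := by
  haveI : Fact (Nat.Prime 3) := ⟨Nat.prime_three⟩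
  haveI : Fact (Nat.Prime 5) := ⟨by norm_num⟩
  let K := GaloisField 3 4
  haveI : Fintype K := Fintype.ofFinite K
  have hcard : Nat.card Kˣ = 80 := by
    rw [Nat.card_units, GaloisField.card 3 4 (by norm_num)]
    norm_num
  obtain ⟨e, he⟩ := exists_prime_orderOf_dvd_card' (G := Kˣ) 5 (by rw [hcard]; norm_num)
  have he5 : (e : K) ^ 5 = 1 := by
    have := pow_orderOf_eq_one e
    rw [he] at this
    rw [← Units.val_pow_eq_pow_val, this, Units.val_one]
  have hne : ∀ n : ℕ, ¬ 5 ∣ n → IsUnit ((e : K) ^ n - 1) := by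
    intro n hn
    rw [isUnit_iff_ne_zero, sub_ne_zero]
    intro h
    refine hn (he ▸ orderOf_dvd_of_pow_eq_one (Units.ext ?_))
    rw [Units.val_pow_eq_pow_val, h, Units.val_one]
  let G := ↥(comp40 he5 k)
  let H := Mon K k ⋊[(comp40 he5 k).subtype] G
  haveI hGfin : Finite G := by
    refine Finite.of_surjective (fun q : Fin 5 × Fin 8 => (⟨wscale he5 k ^ (q.1 : ℕ) * sshift k ^ (q.2 : ℕ),
      q.1, q.2, rfl⟩ : G)) ?_
    rintro ⟨f, i, j, rfl⟩
    exact ⟨(i, j), rfl⟩
  have hfin : Finite H := Finite.of_equiv _ SemidirectProduct.equivProd.symm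
  have h3 : ∀ v : Mon K k, v ^ 3 = 1 := by
    intro v
    apply Multiplicative.toAdd.injective
    funext j i
    simp only [toAdd_pow, Pi.smul_apply, toAdd_one, Pi.zero_apply, nsmul_eq_mul]
    rw [CharP.cast_eq_zero K 3, zero_mul]
  have h2K : 2 ≤ Nat.card (Fin 4 → K) := Finite.one_lt_card
  refine ⟨H, inferInstance, hfin, ?_, ?_⟩
  · have h := Nat.card_le_card_of_injective _
      (SemidirectProduct.inl_injective (φ := (comp40 he5 k).subtype))
    rw [Nat.card_congr Multiplicative.toAdd, Nat.card_fun, Nat.card_eq_fintype_card (α := Fin (k + 1)),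
      Fintype.card_fin] at h
    exact le_trans (Nat.pow_le_pow_left h2K _) h
  · haveI := hfin
    have hfpf : ∀ (x : H) (m : ℕ), x.right ≠ 1 → x.right ^ m = 1 → x ^ m = 1 := by
      intro x m hx hm
      refine pow_eq_one_of_norm _ x hm ?_
      apply comp40_fixed he5 k hne _ x.right.2 (fun h => hx (Subtype.ext h))
      show ((comp40 he5 k).subtype x.right) (∏ i ∈ Finset.range m, (comp40 he5 k).subtype (x.right ^ i) x.left) = _
      rw [map_prod]
      simp only [← MulAut.mul_apply, ← map_mul, ← pow_succ']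
      have h1 := Finset.prod_range_succ (fun i => (comp40 he5 k).subtype (x.right ^ i) x.left) m
      rw [Finset.prod_range_succ', pow_zero, hm] at h1
      exact mul_right_cancel h1
    have hmem1 : wscale he5 k ∈ comp40 he5 k := ⟨1, 0, by simp⟩
    have hmem2 : (sshift k : MulAut (Mon K k)) ∈ comp40 he5 k := ⟨0, 1, by simp⟩
    let v0 : Mon K k := Multiplicative.ofAdd fun _ _ => 1
    have hv0 : v0 ≠ 1 := fun h =>
      one_ne_zero (congrFun (congrFun (congrArg Multiplicative.toAdd h) 0) 0)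
    have hv0' : v0⁻¹ ≠ v0 := by
      intro h
      have h2 : v0 ^ 2 = 1 := by rw [pow_two]; nth_rewrite 1 [← h]; rw [inv_mul_cancel]
      have h3' := h3 v0
      rw [pow_succ, h2, one_mul] at h3'
      exact hv0 h3'
    have hc4ne : (sshift k : MulAut (Mon K k)) ^ 4 ≠ 1 := by
      intro h
      apply hv0'
      rw [← sshift_four, h]
      rfl
    apply Cfsg.Agent.Spectra.range_orderOf_eq
    · intro x
      by_cases hx : x.right = 1
      · exact ⟨3, by simp, by simpa using pow_two_mul_eq_one _ h3 x (m := 1) (by rw [hx, pow_one])⟩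
      · have lift : ∀ m : ℕ, (x.right : MulAut (Mon K k)) ^ m = 1 → x ^ m = 1 := fun m h =>
          hfpf x m hx (Subtype.ext (by rw [SubmonoidClass.coe_pow, h]; rfl))
        rcases comp40_cases he5 k _ x.right.2 with h | ⟨n, -, -, h⟩ | h | h | h
        · exact absurd (Subtype.ext h) hx
        · exact ⟨10, by simp, lift 10 (by rw [show 10 = 5 * 2 from rfl, pow_mul, h, one_pow])⟩
        · exact ⟨10, by simp, lift 10 (by
            rw [show 10 = 5 * 2 from rfl, pow_mul, h, ← pow_mul, sshift_eight])⟩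
        · exact ⟨8, by simp, lift 8 (by
            rw [show 8 = 4 * 2 from rfl, pow_mul, h, ← pow_mul, sshift_eight])⟩
        · exact ⟨8, by simp, lift 8 (by
            rw [show 8 = 2 * 4 from rfl, pow_mul, h, ← pow_mul, show 4 * 4 = 8 * 2 from rfl, pow_mul,
              sshift_eight, one_pow])⟩
    · intro n hn
      simp only [Finset.mem_insert, Finset.mem_singleton] at hn
      haveI : Fact (Nat.Prime 2) := ⟨Nat.prime_two⟩
      rcases hn with rfl | rfl | rfl
      · refine ⟨SemidirectProduct.inl v0, ?_⟩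
        rw [orderOf_injective _ SemidirectProduct.inl_injective]
        exact orderOf_eq_prime (h3 v0) hv0
      · refine ⟨SemidirectProduct.inr ⟨_, hmem2⟩, ?_⟩
        rw [orderOf_injective _ SemidirectProduct.inr_injective, ← Subgroup.orderOf_coe]
        exact orderOf_eq_prime_pow (p := 2) (n := 2) hc4ne (sshift_eight k)
      · refine ⟨SemidirectProduct.inr (⟨_, hmem1⟩ * ⟨_, hmem2⟩ ^ 4), ?_⟩
        rw [orderOf_injective _ SemidirectProduct.inr_injective, ← Subgroup.orderOf_coe]
        have hw5 : orderOf (wscale he5 k) = 5 := by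
          refine orderOf_eq_prime (wscale_five he5 k) ?_
          intro h
          have h1 := congrFun (congrFun (congrArg Multiplicative.toAdd
            (show (wscale he5 k) v0 = v0 by rw [h]; rfl)) 0) 0
          have hu := hne 1 (by norm_num)
          simp only [wscale, MulEquiv.coe_mk, Equiv.coe_fn_mk, toAdd_ofAdd, v0, mul_one] at h1
          rw [show Twist.wt 0 = 1 from rfl] at h1
          rw [h1, sub_self] at hu
          exact not_isUnit_zero hu
        have hc2 : orderOf ((sshift k : MulAut (Mon K k)) ^ 4) = 2 :=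
          orderOf_eq_prime (by rw [← pow_mul]; exact sshift_eight k) hc4ne
        have hcomm : Commute (wscale he5 k) ((sshift k : MulAut (Mon K k)) ^ 4) := by
          have h := sshift_wscale_pow he5 k 4 1
          rw [pow_one, pow_eq_pow_mod (2 ^ 4 * 1) (wscale_five he5 k), show 2 ^ 4 * 1 % 5 = 1 from rfl,
            pow_one] at h
          exact h.symm
        show orderOf (wscale he5 k * sshift k ^ 4) = 10
        rw [hcomm.orderOf_mul_eq_mul_orderOf_of_coprime (by rw [hw5, hc2]; norm_num), hw5, hc2]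

end Nine

end Cfsg.Agent.Spectra.PGLTwins
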