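import Mathlib
import Cfsg.Agent.Known.SLTwo.Spectrum
import Cfsg.Agent.Spectra.PGLTwins

/-!
The semidirect product of copies of the twisted tensor square of the natural module by
`C₂ × PSL(2,q)`, `q` an odd power of three: its maximal element orders are `6, 9, q-1, (q+1)/2`.
-/

set_option autoImplicit false
set_option linter.unusedSectionVars false

open Matrix
open scoped MatrixGroups

namespace Cfsg.Agent.Spectra.TwistedTensor

open Cfsg.Lib.GLTwo

variable {K : Type} [Field K] [Fintype K] [CharP K 3]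

abbrev PSL (K : Type) [Field K] : Type := Matrix.ProjectiveSpecialLinearGroup (Fin 2) K

/-- The Frobenius twist of a matrix. -/
def tw (g : Matrix (Fin 2) (Fin 2) K) : Matrix (Fin 2) (Fin 2) K := g.map (fun a => a * (a * a))

theorem cube_add (a b : K) : (a + b) * ((a + b) * (a + b)) = a * (a * a) + b * (b * b) := by
  have h3 : (3 : K) = 0 := by exact_mod_cast CharP.cast_eq_zero K 3
  linear_combination (a * a * b + a * b * b) * h3

theorem tw_mul (g h : Matrix (Fin 2) (Fin 2) K) : tw (g * h) = tw g * tw h := by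
  ext i j
  fin_cases i <;> fin_cases j <;>
    simp [tw, Matrix.mul_apply, Fin.sum_univ_two, cube_add] <;> ring

theorem tw_one : tw (1 : Matrix (Fin 2) (Fin 2) K) = 1 := by
  ext i j
  fin_cases i <;> fin_cases j <;> simp [tw]

theorem tw_neg (g : Matrix (Fin 2) (Fin 2) K) : tw (-g) = -tw g := by
  ext i j
  simp [tw]

theorem trace_tw (g : Matrix (Fin 2) (Fin 2) K) : (tw g).trace = g.trace * (g.trace * g.trace) := by
  simp only [tw, Matrix.trace_fin_two, Matrix.map_apply, cube_add]

theorem cayley_two (A : Matrix (Fin 2) (Fin 2) K) (hA : A.det = 1) :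
    A * A = A.trace • A - (1 : Matrix (Fin 2) (Fin 2) K) := by
  have hd : A 0 0 * A 1 1 - A 0 1 * A 1 0 = 1 := by rw [← Matrix.det_fin_two]; exact hA
  ext i j
  fin_cases i <;> fin_cases j <;> simp [Matrix.mul_apply, Fin.sum_univ_two, Matrix.trace_fin_two]
  · linear_combination -hd
  · ring
  · ring
  · linear_combination -hd

/-- The key computation: `g X (g^(3))ᵀ = ± X` forces `X = 0` unless the trace is special. -/
theorem tensor_fixed_eq_zero (g : SL(2, K)) (s : K) (hs : s * s = 1) (X : Matrix (Fin 2) (Fin 2) K)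
    (hX : s • ((g : Matrix (Fin 2) (Fin 2) K) * X * (tw (g : Matrix (Fin 2) (Fin 2) K))ᵀ) = X)
    (ht : (g : Matrix (Fin 2) (Fin 2) K).trace * ((g : Matrix (Fin 2) (Fin 2) K).trace *
      (g : Matrix (Fin 2) (Fin 2) K).trace) * s ≠ (g : Matrix (Fin 2) (Fin 2) K).trace) : X = 0 := by
  set A := (g : Matrix (Fin 2) (Fin 2) K)
  set τ := A.trace
  set h : Matrix (Fin 2) (Fin 2) K := (tw ((g⁻¹ : SL(2, K)) : Matrix (Fin 2) (Fin 2) K))ᵀ with hh
  have hhinv : (tw A)ᵀ * h = 1 := by
    rw [hh, ← Matrix.transpose_mul, ← tw_mul, ← Matrix.SpecialLinearGroup.coe_mul, inv_mul_cancel,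
      Matrix.SpecialLinearGroup.coe_one, tw_one, Matrix.transpose_one]
  have hinvA : ((g⁻¹ : SL(2, K)) : Matrix (Fin 2) (Fin 2) K).trace = τ := by
    rw [Matrix.SpecialLinearGroup.coe_inv, Matrix.adjugate_fin_two]
    simp [τ, A, Matrix.trace_fin_two]
    ring
  have htrh : h.trace = τ * (τ * τ) := by rw [hh, Matrix.trace_transpose, trace_tw, hinvA]
  have hdeth : h.det = 1 := by
    have h1 : (tw ((g⁻¹ : SL(2, K)) : Matrix (Fin 2) (Fin 2) K)).det
        = ((g⁻¹ : SL(2, K)) : Matrix (Fin 2) (Fin 2) K).det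
          * (((g⁻¹ : SL(2, K)) : Matrix (Fin 2) (Fin 2) K).det
            * ((g⁻¹ : SL(2, K)) : Matrix (Fin 2) (Fin 2) K).det) := by
      have h3 : (3 : K) = 0 := by exact_mod_cast CharP.cast_eq_zero K 3
      simp only [tw, Matrix.det_fin_two, Matrix.map_apply]
      set a := ((g⁻¹ : SL(2, K)) : Matrix (Fin 2) (Fin 2) K) 0 0
      set b := ((g⁻¹ : SL(2, K)) : Matrix (Fin 2) (Fin 2) K) 0 1
      set c := ((g⁻¹ : SL(2, K)) : Matrix (Fin 2) (Fin 2) K) 1 0
      set d := ((g⁻¹ : SL(2, K)) : Matrix (Fin 2) (Fin 2) K) 1 1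
      linear_combination (a * d * (b * c) * (a * d - b * c)) * h3
    rw [hh, Matrix.det_transpose, h1, (g⁻¹).2]
    ring
  have h1 : s • (A * X) = X * h := by
    conv_rhs => rw [← hX]
    rw [Matrix.smul_mul, mul_assoc, mul_assoc, hhinv, mul_one]
  have h2 : A * X = s • (X * h) := by rw [← h1, smul_smul, hs, one_smul]
  have h3' : A * A * X = X * (h * h) := by
    rw [mul_assoc, h2, Matrix.mul_smul, ← mul_assoc, h2, Matrix.smul_mul, smul_smul, hs, one_smul, mul_assoc]
  rw [cayley_two A g.2, cayley_two h hdeth, htrh, sub_mul, mul_sub, Matrix.smul_mul, Matrix.mul_smul,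
    h2, smul_smul, one_mul, mul_one] at h3'
  have h4 : (τ * s - τ * (τ * τ)) • (X * h) = 0 := by
    rw [sub_smul]
    exact sub_eq_zero.mpr (sub_left_injective h3')
  rcases smul_eq_zero.mp h4 with h5 | h5
  · exfalso
    apply ht
    have : τ * s = τ * (τ * τ) := sub_eq_zero.mp h5
    rw [← this, mul_assoc, hs, mul_one]
  · have := congrArg (fun M => M * (tw A)ᵀ) h5
    simp only [zero_mul] at this
    rwa [mul_assoc, mul_eq_one_comm.mp hhinv, mul_one] at this

abbrev Two : Type := Multiplicative (ZMod 2)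

/-- The sign of an element of the group of order two. -/
def sign (e : Two) : K := if e = 1 then 1 else -1

theorem two_cases : ∀ e : Two, e = 1 ∨ e = Multiplicative.ofAdd 1 := by decide

theorem sign_mul (e f : Two) : (sign (e * f) : K) = sign e * sign f := by
  rcases two_cases e with rfl | rfl <;> rcases two_cases f with rfl | rfl <;>
    simp [sign, show (Multiplicative.ofAdd (1 : ZMod 2)) * Multiplicative.ofAdd 1 = 1 from rfl]

theorem sign_sq (e : Two) : (sign e : K) * sign e = 1 := by
  unfold sign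
  split <;> ring

theorem two_sq : ∀ a : Two, a ^ 2 = 1 := by decide

theorem two_order : orderOf (Multiplicative.ofAdd (1 : ZMod 2) : Two) = 2 :=
  haveI : Fact (Nat.Prime 2) := ⟨Nat.prime_two⟩
  orderOf_eq_prime ((show ∀ a : Two, a ^ 2 = 1 from two_sq) _)
    (fun h => one_ne_zero (α := ZMod 2) (Multiplicative.ofAdd.injective h))

abbrev Mod (K : Type) [Field K] (k : ℕ) : Type :=
  Multiplicative (Fin (k + 1) → Matrix (Fin 2) (Fin 2) K)

/-- The map on the module given by a sign and a matrix. -/
def mapSL (k : ℕ) (e : Two) (g : SL(2, K)) (v : Mod K k) : Mod K k :=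
  Multiplicative.ofAdd fun j =>
    (sign e : K) • ((g : Matrix (Fin 2) (Fin 2) K) * v.toAdd j * (tw (g : Matrix (Fin 2) (Fin 2) K))ᵀ)

theorem mapSL_comp (k : ℕ) (e f : Two) (g h : SL(2, K)) (v : Mod K k) :
    mapSL k e g (mapSL k f h v) = mapSL k (e * f) (g * h) v := by
  apply Multiplicative.toAdd.injective
  funext j
  simp only [mapSL, toAdd_ofAdd, Matrix.SpecialLinearGroup.coe_mul, tw_mul, Matrix.transpose_mul,
    Matrix.mul_smul, Matrix.smul_mul, smul_smul, sign_mul, mul_assoc]

theorem mapSL_one (k : ℕ) (v : Mod K k) : mapSL k 1 (1 : SL(2, K)) v = v := by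
  apply Multiplicative.toAdd.injective
  funext j
  simp [mapSL, sign, tw_one]

theorem mapSL_congr (k : ℕ) (e : Two) {g h : SL(2, K)} (hgh : prj g = prj h) (v : Mod K k) :
    mapSL k e g v = mapSL k e h v := by
  have h1 : prj (g⁻¹ * h) = 1 := by rw [map_mul, map_inv, hgh, inv_mul_cancel]
  rcases (prj_eq_one_iff _).mp h1 with e1 | e1
  · rw [inv_mul_eq_one.mp e1]
  · have : h = -g := by
      have h2 : h = g * (-1) := by rw [← e1, mul_inv_cancel_left]
      rw [h2, mul_neg, mul_one]
    subst this
    apply Multiplicative.toAdd.injective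
    funext j
    simp [mapSL, tw_neg]

/-- Choice of a preimage. -/
noncomputable def lift (g : PSL K) : SL(2, K) := Classical.choose (QuotientGroup.mk'_surjective _ g)

theorem prj_lift (g : PSL K) : prj (lift g) = g :=
  Classical.choose_spec (QuotientGroup.mk'_surjective _ g)

/-- The action of `C₂ × PSL(2,q)`. -/
noncomputable def act (k : ℕ) : Two × PSL K →* MulAut (Mod K k) where
  toFun x :=
    { toFun := mapSL k x.1 (lift x.2)
      invFun := mapSL k x.1⁻¹ (lift x.2)⁻¹
      left_inv := fun v => by rw [mapSL_comp, inv_mul_cancel, inv_mul_cancel, mapSL_one]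
      right_inv := fun v => by rw [mapSL_comp, mul_inv_cancel, mul_inv_cancel, mapSL_one]
      map_mul' := fun v w => by
        apply Multiplicative.toAdd.injective
        funext j
        simp [mapSL, mul_add, add_mul] }
  map_one' := by
    apply MulEquiv.ext
    intro v
    show mapSL k 1 (lift 1) v = v
    rw [mapSL_congr k 1 (g := lift 1) (h := 1) (by rw [prj_lift, map_one]) v, mapSL_one]
  map_mul' x y := by
    apply MulEquiv.ext
    intro v
    show mapSL k (x.1 * y.1) (lift (x.2 * y.2)) v = mapSL k x.1 (lift x.2) (mapSL k y.1 (lift y.2) v)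
    rw [mapSL_comp]
    exact mapSL_congr k _ (by rw [map_mul, prj_lift, prj_lift, prj_lift]) v

theorem act_prj (k : ℕ) (e : Two) (g : SL(2, K)) (v : Mod K k) :
    act k (e, prj g) v = mapSL k e g v :=
  mapSL_congr k e (prj_lift _) v

abbrev Ext (K : Type) [Field K] [Fintype K] [CharP K 3] (k : ℕ) : Type :=
  Mod K k ⋊[act (K := K) k] (Two × PSL K)

theorem mod_cube (k : ℕ) (v : Mod K k) : v ^ 3 = 1 := by
  apply Multiplicative.toAdd.injective
  funext j
  ext a b
  simp only [toAdd_pow, Pi.smul_apply, toAdd_one, Pi.zero_apply, nsmul_eq_mul, Matrix.smul_apply,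
    Matrix.zero_apply]
  rw [CharP.cast_eq_zero K 3, zero_mul]

/-- An element acting without fixed points has the order of its image. -/
theorem pow_of_fixed (k : ℕ) (x : Ext K k) (m : ℕ) (hm : x.right ^ m = 1)
    (hfix : ∀ v : Mod K k, act k x.right v = v → v = 1) : x ^ m = 1 := by
  refine PGLTwins.pow_eq_one_of_norm _ x hm (hfix _ ?_)
  rw [map_prod]
  simp only [← MulAut.mul_apply, ← map_mul, ← pow_succ']
  have h1 := Finset.prod_range_succ (fun i => act k (x.right ^ i) x.left) m
  rw [Finset.prod_range_succ', pow_zero, hm] at h1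
  exact mul_right_cancel h1

theorem ext_orders {α : ℕ} (hα : Odd α) (hK : Fintype.card K = 3 ^ α) (k : ℕ) (x : Ext K k) :
    ∃ n ∈ ({6, 9, Fintype.card K - 1, (Fintype.card K + 1) / 2} : Finset ℕ), x ^ n = 1 := by
  haveI : Fact (Nat.Prime 3) := ⟨Nat.prime_three⟩
  have h3 : (3 : K) = 0 := by exact_mod_cast CharP.cast_eq_zero K 3
  have h2 : (2 : K) ≠ 0 := fun h => one_ne_zero (α := K) (by linear_combination h3 - h)
  have hq4 : Fintype.card K % 4 = 3 := by
    obtain ⟨r, hr⟩ := hα
    rw [hK, hr, pow_succ, pow_mul, Nat.mul_mod, Nat.pow_mod]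
    norm_num
  have hneg : ∀ r : K, r * r ≠ -1 := fun r hr =>
    FiniteField.isSquare_neg_one_iff.mp ⟨r, hr.symm⟩ hq4
  set e := x.right.1 with he
  set g := lift x.right.2 with hg
  have hxr : x.right = (e, prj g) := by rw [he, hg, prj_lift]
  set τ := (g : Matrix (Fin 2) (Fin 2) K).trace with hτ
  have he2 : ∀ n : ℕ, Even n → e ^ n = 1 := by
    rintro n ⟨r, rfl⟩
    rw [← two_mul, pow_mul, show e ^ 2 = 1 from (show ∀ e : Two, e ^ 2 = 1 by decide) e, one_pow]
  have hCH := cayley_two (g : Matrix (Fin 2) (Fin 2) K) g.2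
  by_cases hτ0 : τ = 0
  · refine ⟨6, by simp, ?_⟩
    have hgg : prj g ^ 2 = 1 := by
      rw [← map_pow, prj_eq_one_iff]
      right
      apply Subtype.ext
      rw [pow_two, Matrix.SpecialLinearGroup.coe_mul, hCH, ← hτ, hτ0, zero_smul, zero_sub,
        Matrix.SpecialLinearGroup.coe_neg, Matrix.SpecialLinearGroup.coe_one]
    exact PGLTwins.pow_two_mul_eq_one _ (mod_cube k) x (m := 2)
      (by rw [hxr, Prod.pow_mk, hgg, he2 2 (by decide)]; rfl)
  by_cases hτ1 : τ = 1 ∨ τ = -1
  · have hg3 : prj g ^ 3 = 1 := by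
      obtain ⟨r, hr, hτr⟩ : ∃ r : K, r * r = 1 ∧ τ = r + r := by
        rcases hτ1 with h | h
        · exact ⟨-1, by ring, by rw [h]; linear_combination h3⟩
        · exact ⟨1, one_mul 1, by rw [h]; linear_combination -h3⟩
      have h6 := pow_char_of_trace 3 (g := g) hr hτr
      rw [← map_pow, prj_eq_one_iff]
      rcases mul_self_eq_one_iff.1 hr with rfl | rfl
      · left; apply Subtype.ext
        rw [h6, one_pow, one_smul, Matrix.SpecialLinearGroup.coe_one]
      · right; apply Subtype.ext
        rw [h6, Matrix.SpecialLinearGroup.coe_neg, Matrix.SpecialLinearGroup.coe_one]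
        rw [show ((-1 : K) ^ 3) = -1 by ring, neg_smul, one_smul]
    rcases two_cases e with h | h
    · refine ⟨9, by simp, ?_⟩
      exact PGLTwins.pow_two_mul_eq_one _ (mod_cube k) x (m := 3)
        (by rw [hxr, h, Prod.pow_mk, hg3, one_pow]; rfl)
    · refine ⟨6, by simp, pow_of_fixed k x 6
        (by rw [hxr, Prod.pow_mk, show 6 = 3 * 2 from rfl, pow_mul (prj g), hg3, one_pow, he2 _ (by decide)]; rfl)
        (fun v hv => ?_)⟩
      rw [hxr, act_prj] at hv
      have hiter : ∀ n : ℕ, mapSL k (e ^ n) (g ^ n) v = v := by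
        intro n
        induction n with
        | zero => exact mapSL_one k v
        | succ n ih => rw [pow_succ, pow_succ, ← mapSL_comp, hv, ih]
      have h33 := hiter 3
      have he3 : e ^ 3 = Multiplicative.ofAdd 1 := by rw [h]; decide
      rw [he3, mapSL_congr k _ (g := g ^ 3) (h := 1) (by rw [map_pow, hg3, map_one]) v] at h33
      apply Multiplicative.toAdd.injective
      funext j
      have h4 := congrFun (congrArg Multiplicative.toAdd h33) j
      simp only [mapSL, toAdd_ofAdd, Matrix.SpecialLinearGroup.coe_one, one_mul, tw_one,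
        Matrix.transpose_one, mul_one] at h4
      rw [show (sign (Multiplicative.ofAdd (1 : ZMod 2)) : K) = -1 from if_neg (by decide)] at h4
      have h5 : ((2 : K)) • v.toAdd j = 0 := by
        rw [two_smul]
        nth_rewrite 1 [← h4]
        rw [neg_smul, one_smul, neg_add_cancel]
      exact (smul_eq_zero.mp h5).resolve_left h2
  push Not at hτ1
  have hfix : ∀ v : Mod K k, act k x.right v = v → v = 1 := by
    intro v hv
    rw [hxr, act_prj] at hv
    apply Multiplicative.toAdd.injective
    funext j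
    refine tensor_fixed_eq_zero g (sign e) (sign_sq e) _ (congrFun (congrArg Multiplicative.toAdd hv) j) ?_
    rw [← hτ]
    intro hh
    have h1 : τ * τ * sign e = 1 := by
      apply mul_left_cancel₀ hτ0
      rw [mul_one]
      linear_combination hh
    rcases two_cases e with h | h
    · rw [h] at h1
      simp [sign] at h1
      rcases mul_self_eq_one_iff.mp h1 with h' | h'
      · exact hτ1.1 h'
      · exact hτ1.2 h'
    · rw [h] at h1
      simp [sign] at h1
      exact hneg τ (by linear_combination -h1)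
  have hns : NonScalar (g : Matrix (Fin 2) (Fin 2) K) := by
    intro h
    rcases (mem_center_iff_pm g).mp ((mem_center_iff g).mpr (not_not.mpr h)) with h' | h'
    · apply hτ1.2
      rw [hτ, h']
      simp [Matrix.trace_fin_two]
      linear_combination h3
    · apply hτ1.1
      rw [hτ, h']
      simp [Matrix.trace_fin_two]
      linear_combination -h3
  have hpow := pow_card_cent g
  have hhalf : ∀ N : ℕ, g ^ (2 * N) = 1 → prj g ^ N = 1 := by
    intro N hN
    rw [← map_pow, prj_eq_one_iff]
    exact eq_pm_one_of_sq h2 (by rw [← pow_add, ← two_mul]; exact hN)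
  rcases kinds hns with ⟨-, hc⟩ | ⟨-, hc⟩ | ⟨⟨r, hr, ht⟩, -⟩
  · refine ⟨(Fintype.card K + 1) / 2, by simp, pow_of_fixed k x _ ?_ hfix⟩
    rw [hc, show Fintype.card K + 1 = 2 * ((Fintype.card K + 1) / 2) by omega] at hpow
    rw [hxr, Prod.pow_mk, hhalf _ hpow, he2 _ (Nat.even_iff.mpr (by omega))]
    rfl
  · refine ⟨Fintype.card K - 1, by simp, pow_of_fixed k x _ ?_ hfix⟩
    rw [hc, show Fintype.card K - 1 = 2 * ((Fintype.card K - 1) / 2) by omega] at hpow
    have hmul : prj g ^ (Fintype.card K - 1) = 1 := by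
      rw [show Fintype.card K - 1 = ((Fintype.card K - 1) / 2) * 2 by omega, pow_mul, hhalf _ hpow, one_pow]
    rw [hxr, Prod.pow_mk, hmul, he2 _ (Nat.even_iff.mpr (by omega))]
    rfl
  · exfalso
    rcases mul_self_eq_one_iff.1 hr with rfl | rfl
    · apply hτ1.2
      rw [hτ, ht]
      linear_combination h3
    · apply hτ1.1
      rw [hτ, ht]
      linear_combination -h3

theorem exists_example {α : ℕ} (hα3 : 3 ≤ α) (hα : Odd α) (hK : Fintype.card K = 3 ^ α) :
    ∃ (H : Type) (_ : Group H) (_ : Fintype H), (∃ P : Subgroup H, P.Normal ∧ P ≠ ⊥ ∧ IsPGroup 3 ↥P) ∧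
      {n : ℕ | n ∈ Set.range (orderOf : H → ℕ) ∧ ∀ m ∈ Set.range (orderOf : H → ℕ), n ∣ m → m = n}
        = ({6, 9, 3 ^ α - 1, (3 ^ α + 1) / 2} : Set ℕ) := by
  haveI : Fact (Nat.Prime 3) := ⟨Nat.prime_three⟩
  haveI : Fact (Nat.Prime 2) := ⟨Nat.prime_two⟩
  set q := 3 ^ α with hq
  have hqge : 27 ≤ q := le_trans (by norm_num) (Nat.pow_le_pow_right (n := 3) (by norm_num) hα3)
  have hq3 : q % 3 = 0 := by
    obtain ⟨r, hr⟩ : ∃ r, α = r + 1 := ⟨α - 1, by omega⟩
    rw [hq, hr, pow_succ, Nat.mul_mod_left]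
  have hq4 : q % 4 = 3 := by
    obtain ⟨r, hr⟩ := hα
    rw [hq, hr, pow_succ, pow_mul, Nat.mul_mod, Nat.pow_mod]
    norm_num
  have hd2 : Nat.gcd 2 (q - 1) = 2 := Nat.gcd_eq_left (by omega)
  let k := 0
  haveI : Finite (Ext K k) := Finite.of_equiv _ SemidirectProduct.equivProd.symm
  let two : Two := Multiplicative.ofAdd 1
  have htwo : orderOf two = 2 := two_order
  have hspec : Set.range (orderOf : Ext K k → ℕ)
      = {m | ∃ n ∈ ({6, 9, q - 1, (q + 1) / 2} : Finset ℕ), m ∣ n} := by
    apply Cfsg.Agent.Spectra.range_orderOf_eq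
    · intro x
      have h := ext_orders hα hK k x
      rw [hK] at h
      exact h
    · have hpsl : ∀ m, (m ∣ 3 ∨ m ∣ (q - 1) / 2 ∨ m ∣ (q + 1) / 2) → ∃ g : PSL K, orderOf g = m := by
        intro m hm
        refine (psl_spectrum (F := K) 3 m).mpr ?_
        rw [hK, hd2]
        exact hm
      have hinr : ∀ y : Two × PSL K, ∃ g : Ext K k, orderOf g = orderOf y := fun y =>
        ⟨SemidirectProduct.inr y, orderOf_injective _ SemidirectProduct.inr_injective y⟩
      intro n hn
      simp only [Finset.mem_insert, Finset.mem_singleton] at hn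
      rcases hn with rfl | rfl | rfl | rfl
      · obtain ⟨u, hu⟩ := hpsl 3 (Or.inl dvd_rfl)
        obtain ⟨g, hg⟩ := hinr (two, u)
        exact ⟨g, by rw [hg, Prod.orderOf_mk, htwo, hu]; rfl⟩
      · let u : SL(2, K) := ⟨!![(1 : K), 1; 0, 1], by simp [Matrix.det_fin_two]⟩
        let x : Ext K k := ⟨Multiplicative.ofAdd fun _ => !![(0 : K), 0; 0, 1], ((1 : Two), prj u)⟩
        have hu3 : prj u ^ 3 = 1 := by
          rw [← map_pow, prj_eq_one_iff]
          left
          apply Subtype.ext
          rw [pow_char_of_trace 3 (r := 1) (one_mul 1) (by simp [u, Matrix.trace_fin_two]), one_pow, one_smul,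
            Matrix.SpecialLinearGroup.coe_one]
        refine ⟨x, orderOf_eq_prime_pow (p := 3) (n := 1) ?_
          (PGLTwins.pow_two_mul_eq_one _ (mod_cube k) x (m := 3) (by
            show (((1 : Two), prj u)) ^ 3 = 1
            rw [Prod.pow_mk, one_pow, hu3]; rfl))⟩
        intro h
        rw [pow_one] at h
        have h1 := congrArg SemidirectProduct.left h
        rw [(PGLTwins.left_pow _ x 3).2, Finset.prod_range_succ, Finset.prod_range_succ,
          Finset.prod_range_one] at h1
        have hact : ∀ i : ℕ, act k (x.right ^ i) x.left = mapSL k 1 (u ^ i) x.left := by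
          intro i
          show act k (((1 : Two), prj u) ^ i) x.left = _
          rw [Prod.pow_mk, one_pow, ← map_pow, act_prj]
        rw [hact, hact, hact] at h1
        have h2 := congrFun (congrFun (congrFun (congrArg Multiplicative.toAdd h1) 0) 0) 0
        have hu : ∀ i : ℕ, ((u ^ i : SL(2, K)) : Matrix (Fin 2) (Fin 2) K) = !![1, (i : K); 0, 1] := by
          intro i
          induction i with
          | zero => simp [Matrix.one_fin_two]
          | succ i ih =>
            rw [pow_succ, Matrix.SpecialLinearGroup.coe_mul, ih]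
            simp [u]
            ring
        simp only [mapSL, toAdd_mul, toAdd_ofAdd, Pi.add_apply, Matrix.add_apply, hu, Nat.cast_zero,
          Nat.cast_one, Nat.cast_ofNat] at h2
        simp [sign, x, tw, Matrix.mul_apply, Fin.sum_univ_two, Matrix.vecMul, dotProduct, Matrix.transpose_apply, Matrix.map_apply] at h2
        have h3' : (3 : K) = 0 := by exact_mod_cast CharP.cast_eq_zero K 3
        apply one_ne_zero (α := K)
        linear_combination -h2 + 6 * h3'
      · obtain ⟨t, ht⟩ := hpsl ((q - 1) / 2) (Or.inr (Or.inl dvd_rfl))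
        obtain ⟨g, hg⟩ := hinr (two, t)
        refine ⟨g, ?_⟩
        rw [hg, Prod.orderOf_mk, htwo, ht,
          Nat.Coprime.lcm_eq_mul ((Nat.coprime_two_left (n := (q - 1) / 2)).mpr (Nat.odd_iff.mpr (by omega)))]
        omega
      · obtain ⟨t, ht⟩ := hpsl ((q + 1) / 2) (Or.inr (Or.inr dvd_rfl))
        obtain ⟨g, hg⟩ := hinr ((1 : Two), t)
        exact ⟨g, by rw [hg, Prod.orderOf_mk, orderOf_one, ht, Nat.lcm_one_left]⟩
  refine ⟨Ext K k, inferInstance, Fintype.ofFinite _,
    ⟨(SemidirectProduct.inl : Mod K k →* Ext K k).range, ?_, ?_, ?_⟩, ?_⟩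
  · rw [SemidirectProduct.range_inl_eq_ker_rightHom]
    infer_instance
  · intro h
    rw [MonoidHom.range_eq_bot_iff] at h
    have h1 := DFunLike.congr_fun h (Multiplicative.ofAdd fun _ => (1 : Matrix (Fin 2) (Fin 2) K))
    rw [MonoidHom.one_apply, ← map_one (SemidirectProduct.inl : Mod K k →* Ext K k)] at h1
    have h2 := congrFun (congrFun (congrFun (congrArg Multiplicative.toAdd
      (SemidirectProduct.inl_injective h1)) 0) 0) 0
    exact one_ne_zero (α := K) (by simpa using h2)
  · rintro ⟨y, v, rfl⟩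
    exact ⟨1, Subtype.ext (by
      rw [SubmonoidClass.coe_pow, pow_one, OneMemClass.coe_one, ← map_pow, mod_cube, map_one])⟩
  · rw [hspec]
    have incomparable : ∀ a ∈ ({6, 9, q - 1, (q + 1) / 2} : Finset ℕ),
        ∀ b ∈ ({6, 9, q - 1, (q + 1) / 2} : Finset ℕ), a ∣ b → a = b := by
      intro a ha b hb hab
      simp only [Finset.mem_insert, Finset.mem_singleton] at ha hb
      by_contra hne
      rcases ha with rfl | rfl | rfl | rfl <;> rcases hb with rfl | rfl | rfl | rfl <;>
        first
          | exact hne rfl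
          | (exact absurd hab (by decide))
          | (have h3 := Nat.dvd_trans (show 3 ∣ 6 by norm_num) hab; omega)
          | (have h3 := Nat.dvd_trans (show 3 ∣ 9 by norm_num) hab; omega)
          | (have := Nat.le_of_dvd (by omega) hab; omega)
          | (have h1 : (q + 1) / 2 ∣ q + 1 := Nat.div_dvd_of_dvd (by omega)
             have h2 := Nat.dvd_sub h1 hab
             rw [show q + 1 - (q - 1) = 2 by omega] at h2
             have := Nat.le_of_dvd two_pos h2
             omega)
    ext n
    simp only [Set.mem_ofPred_eq, Set.mem_insert_iff, Set.mem_singleton_iff]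
    constructor
    · rintro ⟨⟨b, hb, hnb⟩, hmax⟩
      have := hmax b ⟨b, hb, dvd_rfl⟩ hnb
      subst this
      simpa using hb
    · intro hn
      have hn' : n ∈ ({6, 9, q - 1, (q + 1) / 2} : Finset ℕ) := by simpa using hn
      refine ⟨⟨n, hn', dvd_rfl⟩, fun m ⟨b, hb, hmb⟩ hnm => ?_⟩
      have hnb := incomparable n hn' b hb (hnm.trans hmb)
      subst hnb
      exact Nat.dvd_antisymm hmb hnm

end Cfsg.Agent.Spectra.TwistedTensor
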