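import Mathlib
import Cfsg.Agent.Spectra.SolvableTwins

/-!
A solvable group with element orders `{1, 2, 3, 4, 6, 7, 8, 12}`.
-/

set_option autoImplicit false

namespace Cfsg.Agent.Spectra.Seven

/-- Matrices of size 4 over `ZMod 7`, coded as lists of naturals. -/
def toM (a : List ℕ) : Matrix (Fin 4) (Fin 4) (ZMod 7) :=
  Matrix.of fun i j => ((a.getD (4 * (i : ℕ) + (j : ℕ)) 0 : ℕ) : ZMod 7)

/-- Coded multiplication. -/
def mulL (a b : List ℕ) : List ℕ :=
  (List.range 16).map fun r => (a.getD (4 * (r / 4)) 0 * b.getD (r % 4) 0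
    + a.getD (4 * (r / 4) + 1) 0 * b.getD (4 + r % 4) 0
    + a.getD (4 * (r / 4) + 2) 0 * b.getD (8 + r % 4) 0
    + a.getD (4 * (r / 4) + 3) 0 * b.getD (12 + r % 4) 0) % 7

theorem toM_mulL (a b : List ℕ) : toM (mulL a b) = toM a * toM b := by
  ext i j
  simp only [toM, mulL, Matrix.of_apply, Matrix.mul_apply, Fin.sum_univ_four]
  have hi := i.isLt
  have hj := j.isLt
  have h4 : (4 * (i : ℕ) + (j : ℕ)) / 4 = i := by omega
  have h5 : (4 * (i : ℕ) + (j : ℕ)) % 4 = j := by omega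
  rw [List.getD_eq_getElem _ _ (by simp; omega)]
  simp [h4, h5, ZMod.natCast_mod]

def oneL : List ℕ := [1, 0, 0, 0, 0, 1, 0, 0, 0, 0, 1, 0, 0, 0, 0, 1]

def negL : List ℕ := [6, 0, 0, 0, 0, 6, 0, 0, 0, 0, 6, 0, 0, 0, 0, 6]

def xL : List ℕ := [2, 0, 0, 0, 0, 2, 0, 0, 0, 0, 4, 0, 0, 0, 0, 4]

def cL : List ℕ := [0, 0, 0, 6, 0, 0, 1, 0, 1, 0, 0, 0, 0, 1, 0, 0]

def wL : List ℕ := [0, 5, 0, 0, 2, 0, 0, 0, 0, 0, 0, 3, 0, 0, 4, 0]

/-- The 24 elements of `C₃ ⋊ C₈` inside `GL(4,7)`, coded. -/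
def codes : List (List ℕ) :=
  [[1, 0, 0, 0, 0, 1, 0, 0, 0, 0, 1, 0, 0, 0, 0, 1],
    [2, 0, 0, 0, 0, 2, 0, 0, 0, 0, 4, 0, 0, 0, 0, 4],
    [0, 0, 0, 6, 0, 0, 1, 0, 1, 0, 0, 0, 0, 1, 0, 0],
    [4, 0, 0, 0, 0, 4, 0, 0, 0, 0, 2, 0, 0, 0, 0, 2],
    [0, 0, 0, 3, 0, 0, 4, 0, 2, 0, 0, 0, 0, 2, 0, 0],
    [0, 0, 0, 5, 0, 0, 2, 0, 4, 0, 0, 0, 0, 4, 0, 0],
    [0, 6, 0, 0, 1, 0, 0, 0, 0, 0, 0, 6, 0, 0, 1, 0],
    [0, 5, 0, 0, 2, 0, 0, 0, 0, 0, 0, 3, 0, 0, 4, 0],
    [0, 3, 0, 0, 4, 0, 0, 0, 0, 0, 0, 5, 0, 0, 2, 0],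
    [0, 0, 6, 0, 0, 0, 0, 6, 0, 6, 0, 0, 1, 0, 0, 0],
    [0, 0, 3, 0, 0, 0, 0, 3, 0, 5, 0, 0, 2, 0, 0, 0],
    [0, 0, 5, 0, 0, 0, 0, 5, 0, 3, 0, 0, 4, 0, 0, 0],
    [6, 0, 0, 0, 0, 6, 0, 0, 0, 0, 6, 0, 0, 0, 0, 6],
    [5, 0, 0, 0, 0, 5, 0, 0, 0, 0, 3, 0, 0, 0, 0, 3],
    [3, 0, 0, 0, 0, 3, 0, 0, 0, 0, 5, 0, 0, 0, 0, 5],
    [0, 0, 0, 1, 0, 0, 6, 0, 6, 0, 0, 0, 0, 6, 0, 0],
    [0, 0, 0, 4, 0, 0, 3, 0, 5, 0, 0, 0, 0, 5, 0, 0],
    [0, 0, 0, 2, 0, 0, 5, 0, 3, 0, 0, 0, 0, 3, 0, 0],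
    [0, 1, 0, 0, 6, 0, 0, 0, 0, 0, 0, 1, 0, 0, 6, 0],
    [0, 2, 0, 0, 5, 0, 0, 0, 0, 0, 0, 4, 0, 0, 3, 0],
    [0, 4, 0, 0, 3, 0, 0, 0, 0, 0, 0, 2, 0, 0, 5, 0],
    [0, 0, 1, 0, 0, 0, 0, 1, 0, 1, 0, 0, 6, 0, 0, 0],
    [0, 0, 4, 0, 0, 0, 0, 4, 0, 2, 0, 0, 5, 0, 0, 0],
    [0, 0, 2, 0, 0, 0, 0, 2, 0, 4, 0, 0, 3, 0, 0, 0]]

theorem toM_oneL : toM oneL = 1 := by decide +kernel

theorem toM_negL : toM negL = -1 := by decide +kernel

def MX : Matrix (Fin 4) (Fin 4) (ZMod 7) := toM xL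

def MC : Matrix (Fin 4) (Fin 4) (ZMod 7) := toM cL

theorem codes_mul : ∀ x ∈ codes, mulL xL x ∈ codes ∧ mulL cL x ∈ codes := by
  decide +kernel

theorem codes_one : oneL ∈ codes := by decide +kernel

theorem codes_length : codes.length = 24 := by decide +kernel

theorem codes_cases : ∀ x ∈ codes, x = oneL ∨
      ((List.range 16).all fun r => ((mulL x x).getD r 0 + x.getD r 0 + oneL.getD r 0) % 7 == 0) = true
    ∨ x = negL ∨ mulL x x = negL ∨ mulL x (mulL x x) = negL ∨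
    mulL (mulL x x) (mulL x x) = negL ∨ mulL (mulL x (mulL x x)) (mulL x (mulL x x)) = negL := by
  decide +kernel

/-- The list of the 24 elements. -/
def elems : List (Matrix (Fin 4) (Fin 4) (ZMod 7)) := codes.map toM

theorem elems_mul : ∀ x ∈ elems, MX * x ∈ elems ∧ MC * x ∈ elems := by
  intro x hx
  obtain ⟨c, hc, rfl⟩ := List.mem_map.mp hx
  exact ⟨List.mem_map.mpr ⟨_, (codes_mul c hc).1, toM_mulL _ _⟩,
    List.mem_map.mpr ⟨_, (codes_mul c hc).2, toM_mulL _ _⟩⟩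

/-- Every element is `1`, satisfies `x² + x + 1 = 0`, or has some power in `{1,2,3,4,6}` equal to `-1`. -/
theorem elems_cases : ∀ x ∈ elems, x = 1 ∨ x ^ 2 + x + 1 = 0 ∨
    ∃ n ∈ ({1, 2, 3, 4, 6} : Finset ℕ), x ^ n = -1 := by
  intro x hx
  obtain ⟨c, hc, rfl⟩ := List.mem_map.mp hx
  rcases codes_cases c hc with h | h | h | h | h | h | h
  · exact Or.inl (by rw [h, toM_oneL])
  · refine Or.inr (Or.inl ?_)
    rw [pow_two, ← toM_mulL, ← toM_oneL]
    ext i j
    simp only [toM, Matrix.add_apply, Matrix.of_apply, Matrix.zero_apply, ← Nat.cast_add]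
    rw [ZMod.natCast_eq_zero_iff, Nat.dvd_iff_mod_eq_zero]
    have hlt : 4 * (i : ℕ) + (j : ℕ) < 16 := by have := i.isLt; have := j.isLt; omega
    exact beq_iff_eq.mp (List.all_eq_true.mp h _ (List.mem_range.mpr hlt))
  · exact Or.inr (Or.inr ⟨1, by decide, by rw [pow_one, h, toM_negL]⟩)
  · exact Or.inr (Or.inr ⟨2, by decide, by rw [pow_two, ← toM_mulL, h, toM_negL]⟩)
  · exact Or.inr (Or.inr ⟨3, by decide, by rw [pow_succ', pow_two, ← toM_mulL, ← toM_mulL, h, toM_negL]⟩)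
  · refine Or.inr (Or.inr ⟨4, by decide, ?_⟩)
    rw [(by rw [← pow_add] : toM c ^ 4 = toM c ^ 2 * toM c ^ 2), pow_two, ← toM_mulL, ← toM_mulL, h, toM_negL]
  · refine Or.inr (Or.inr ⟨6, by decide, ?_⟩)
    rw [(by rw [← pow_add] : toM c ^ 6 = toM c ^ 3 * toM c ^ 3), pow_succ', pow_two, ← toM_mulL, ← toM_mulL,
      ← toM_mulL, h, toM_negL]

theorem MX_pow : MX ^ 3 = 1 := by
  have h : mulL xL (mulL xL xL) = oneL := by decide +kernel
  rw [MX, pow_succ', pow_two, ← toM_mulL, ← toM_mulL, h, toM_oneL]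

theorem MC_pow : MC ^ 4 = -1 := by
  have h : mulL (mulL cL cL) (mulL cL cL) = negL := by decide +kernel
  rw [MC, (by rw [← pow_add] : toM cL ^ 4 = toM cL ^ 2 * toM cL ^ 2), pow_two, ← toM_mulL, ← toM_mulL,
    h, toM_negL]

theorem MC_pow_eight : MC ^ 8 = 1 := by
  rw [(by rw [← pow_mul] : MC ^ 8 = (MC ^ 4) ^ 2), MC_pow, Even.neg_one_pow (by decide)]

def uX : (Matrix (Fin 4) (Fin 4) (ZMod 7))ˣ :=
  ⟨MX, MX ^ 2, by rw [← pow_succ']; exact MX_pow, by rw [← pow_succ]; exact MX_pow⟩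

def uC : (Matrix (Fin 4) (Fin 4) (ZMod 7))ˣ :=
  ⟨MC, MC ^ 7, by rw [← pow_succ']; exact MC_pow_eight, by rw [← pow_succ]; exact MC_pow_eight⟩

/-- `C₃ ⋊ C₈` in `GL(4,7)`. -/
def grp : Subgroup (Matrix (Fin 4) (Fin 4) (ZMod 7))ˣ := Subgroup.closure {uX, uC}

theorem mem_elems {k : (Matrix (Fin 4) (Fin 4) (ZMod 7))ˣ} (hk : k ∈ grp) :
    (k : Matrix (Fin 4) (Fin 4) (ZMod 7)) ∈ elems := by
  rw [grp, ← Subgroup.mem_toSubmonoid, Subgroup.closure_toSubmonoid_of_finite] at hk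
  induction hk using Submonoid.closure_induction_left with
  | one => exact List.mem_map.mpr ⟨_, codes_one, toM_oneL⟩
  | mul_left x hx y _ ih =>
    rcases Set.mem_insert_iff.mp hx with rfl | hx
    · exact (elems_mul _ ih).1
    · rw [Set.mem_singleton_iff.mp hx]; exact (elems_mul _ ih).2

theorem grp_fpf : ∀ k ∈ grp, k ≠ 1 → ∀ v : Fin 4 → ZMod 7,
    Matrix.mulVec ((k : (Matrix (Fin 4) (Fin 4) (ZMod 7))ˣ) :
      Matrix (Fin 4) (Fin 4) (ZMod 7)) v = v → v = 0 := by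
  intro k hk hne v hv
  have h2 : ∀ n : ℕ, ((k : Matrix (Fin 4) (Fin 4) (ZMod 7)) ^ n).mulVec v = v := by
    intro n
    induction n with
    | zero => simp
    | succ n ih => rw [pow_succ, ← Matrix.mulVec_mulVec, hv, ih]
  rcases elems_cases _ (mem_elems hk) with h | h | ⟨n, -, h⟩
  · exact absurd (Units.ext h) hne
  · have := congrArg (fun M : Matrix (Fin 4) (Fin 4) (ZMod 7) => M.mulVec v) h
    simp only [Matrix.add_mulVec, h2 2, hv, Matrix.one_mulVec, Matrix.zero_mulVec] at this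
    funext i
    exact (show ∀ a : ZMod 7, a + a + a = 0 → a = 0 by decide) _ (congrFun this i)
  · have := h2 n
    rw [h, Matrix.neg_mulVec, Matrix.one_mulVec] at this
    funext i
    exact (show ∀ a : ZMod 7, -a = a → a = 0 by decide) _ (congrFun this i)

theorem card_grp_le : Nat.card ↥grp < 60 := by
  classical
  have hinj : Function.Injective (fun k : ↥grp =>
      (⟨((k : (Matrix (Fin 4) (Fin 4) (ZMod 7))ˣ) : Matrix (Fin 4) (Fin 4) (ZMod 7)),
        List.mem_toFinset.mpr (mem_elems k.2)⟩ : ↥elems.toFinset)) := by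
    intro a b h
    exact Subtype.ext (Units.ext (congrArg Subtype.val h))
  have h := Nat.card_le_card_of_injective _ hinj
  rw [Nat.card_eq_fintype_card (α := ↥elems.toFinset), Fintype.card_coe] at h
  have h' : elems.length = 24 := by rw [elems, List.length_map, codes_length]
  have := elems.toFinset_card_le
  omega

/-- The solvable twin of `PSU(3,3)`. -/
abbrev Twin : Type := Multiplicative (Fin 4 → ZMod 7) ⋊[vecAut grp] ↥grp

instance : Finite Twin := Finite.of_equiv _ SemidirectProduct.equivProd.symm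

theorem twin_solvable : Group.IsSolvable Twin := by
  have hK : Group.IsSolvable ↥grp :=
    Cfsg.Lib.Presentations.isSolvable_of_card_lt_sixty _ _ rfl card_grp_le
  exact Group.isSolvable_of_ker_le_range (SemidirectProduct.inl :
    Multiplicative (Fin 4 → ZMod 7) →* Twin) (SemidirectProduct.rightHom : Twin →* ↥grp)
    (le_of_eq SemidirectProduct.range_inl_eq_ker_rightHom.symm)

theorem twin_spectrum :
    Set.range (orderOf : Twin → ℕ) = {m | ∃ n ∈ ({7, 8, 12} : Finset ℕ), m ∣ n} := by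
  apply range_orderOf_eq
  · intro x
    by_cases hx : x.right = 1
    · refine ⟨7, by decide, ?_⟩
      have hx' : x = SemidirectProduct.inl x.left := SemidirectProduct.ext (by simp) (by simp [hx])
      rw [hx', ← map_pow]
      have : x.left ^ 7 = 1 := by
        apply Multiplicative.toAdd.injective
        funext i
        simp only [toAdd_pow, Pi.smul_apply, toAdd_one, Pi.zero_apply, nsmul_eq_mul]
        rw [ZMod.natCast_self, zero_mul]
      rw [this, map_one]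
    · have ho := orderOf_semidirect grp grp_fpf x hx
      have hne : (x.right : (Matrix (Fin 4) (Fin 4) (ZMod 7))ˣ) ≠ 1 := fun e => hx (Subtype.ext e)
      have key : ∀ n : ℕ, ((x.right : (Matrix (Fin 4) (Fin 4) (ZMod 7))ˣ) :
          Matrix (Fin 4) (Fin 4) (ZMod 7)) ^ n = 1 → x ^ n = 1 := by
        intro n hn
        rw [← orderOf_dvd_iff_pow_eq_one, ho, ← Subgroup.orderOf_coe, orderOf_dvd_iff_pow_eq_one]
        exact Units.ext (by simpa using hn)
      rcases elems_cases _ (mem_elems x.right.2) with h | h | ⟨n, hn, h⟩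
      · exact absurd (Units.ext h) hne
      · refine ⟨12, by decide, key 12 ?_⟩
        generalize ((x.right : (Matrix (Fin 4) (Fin 4) (ZMod 7))ˣ) :
          Matrix (Fin 4) (Fin 4) (ZMod 7)) = M at h ⊢
        have h3 : M ^ 3 = 1 := by
          have : M ^ 3 - 1 = (M - 1) * (M ^ 2 + M + 1) := by noncomm_ring
          rw [h, mul_zero, sub_eq_zero] at this
          exact this
        rw [(by rw [← pow_mul] : M ^ 12 = (M ^ 3) ^ 4), h3, one_pow]
      · generalize hM : ((x.right : (Matrix (Fin 4) (Fin 4) (ZMod 7))ˣ) :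
          Matrix (Fin 4) (Fin 4) (ZMod 7)) = M at h key
        simp only [Finset.mem_insert, Finset.mem_singleton] at hn
        rcases hn with rfl | rfl | rfl | rfl | rfl
        · refine ⟨12, by decide, key 12 ?_⟩
          rw [pow_one] at h; rw [h, Even.neg_one_pow (by decide)]
        · refine ⟨12, by decide, key 12 ?_⟩
          rw [(by rw [← pow_mul] : M ^ 12 = (M ^ 2) ^ 6), h, Even.neg_one_pow (by decide)]
        · refine ⟨12, by decide, key 12 ?_⟩
          rw [(by rw [← pow_mul] : M ^ 12 = (M ^ 3) ^ 4), h, Even.neg_one_pow (by decide)]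
        · refine ⟨8, by decide, key 8 ?_⟩
          rw [(by rw [← pow_mul] : M ^ 8 = (M ^ 4) ^ 2), h, Even.neg_one_pow (by decide)]
        · refine ⟨12, by decide, key 12 ?_⟩
          rw [(by rw [← pow_mul] : M ^ 12 = (M ^ 6) ^ 2), h, Even.neg_one_pow (by decide)]
  · have hX : uX ∈ grp := Subgroup.subset_closure (Set.mem_insert _ _)
    have hC : uC ∈ grp := Subgroup.subset_closure (Set.mem_insert_of_mem _ rfl)
    intro n hn
    simp only [Finset.mem_insert, Finset.mem_singleton] at hn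
    rcases hn with rfl | rfl | rfl
    · refine ⟨SemidirectProduct.inl (Multiplicative.ofAdd (fun _ => 1)), ?_⟩
      rw [orderOf_injective _ SemidirectProduct.inl_injective, orderOf_ofAdd_eq_addOrderOf]
      haveI : Fact (Nat.Prime 7) := ⟨by norm_num⟩
      apply addOrderOf_eq_prime
      · funext i
        simp [ZMod.natCast_self]
        rfl
      · intro h
        exact one_ne_zero (congrFun h 0)
    · refine ⟨SemidirectProduct.inr ⟨uC, hC⟩, ?_⟩
      rw [orderOf_injective _ SemidirectProduct.inr_injective, ← Subgroup.orderOf_coe, ← orderOf_units]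
      haveI : Fact (Nat.Prime 2) := ⟨Nat.prime_two⟩
      refine orderOf_eq_prime_pow (p := 2) (n := 2) ?_ MC_pow_eight
      show ¬ MC ^ 4 = 1
      rw [MC_pow]
      intro h
      exact absurd (congrFun (congrFun h 0) 0) (by decide)
    · refine ⟨SemidirectProduct.inr (⟨uX, hX⟩ * ⟨uC, hC⟩ ^ 2), ?_⟩
      rw [orderOf_injective _ SemidirectProduct.inr_injective, ← Subgroup.orderOf_coe, ← orderOf_units]
      have hcode : ((((⟨uX, hX⟩ * ⟨uC, hC⟩ ^ 2 : ↥grp) : (Matrix (Fin 4) (Fin 4) (ZMod 7))ˣ)) :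
          Matrix (Fin 4) (Fin 4) (ZMod 7)) = toM (mulL xL (mulL cL cL)) := by
        rw [toM_mulL, toM_mulL]
        simp [uX, uC, MX, MC, pow_two]
      rw [hcode]
      have h6 : toM (mulL xL (mulL cL cL)) ^ 6 = -1 := by
        generalize hw : mulL xL (mulL cL cL) = w
        have h : mulL (mulL w (mulL w w)) (mulL w (mulL w w)) = negL := by
          subst hw
          decide +kernel
        rw [(by rw [← pow_add] : toM w ^ 6 = toM w ^ 3 * toM w ^ 3), pow_succ', pow_two, ← toM_mulL,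
          ← toM_mulL, ← toM_mulL, h, toM_negL]
      have h4 : toM (mulL xL (mulL cL cL)) ^ 4 ≠ 1 := by
        generalize hw : mulL xL (mulL cL cL) = w
        rw [(by rw [← pow_add] : toM w ^ 4 = toM w ^ 2 * toM w ^ 2), pow_two, ← toM_mulL, ← toM_mulL]
        subst hw
        intro h
        exact absurd (congrFun (congrFun h 0) 0) (by decide +kernel)
      generalize toM (mulL xL (mulL cL cL)) = w at h6 h4
      have h12 : w ^ 12 = 1 := by
        rw [(by rw [← pow_mul] : w ^ 12 = (w ^ 6) ^ 2), h6, Even.neg_one_pow (by decide)]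
      have h61 : w ^ 6 ≠ 1 := by
        rw [h6]
        intro h
        exact absurd (congrFun (congrFun h 0) 0) (by decide)
      have hd := orderOf_dvd_of_pow_eq_one h12
      have h4' : ¬ orderOf w ∣ 4 := fun h => h4 (orderOf_dvd_iff_pow_eq_one.mp h)
      have h6' : ¬ orderOf w ∣ 6 := fun h => h61 (orderOf_dvd_iff_pow_eq_one.mp h)
      have hle : orderOf w ≤ 12 := Nat.le_of_dvd (by norm_num) hd
      interval_cases (orderOf w) <;> first | rfl | omega

end Cfsg.Agent.Spectra.Seven
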