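import Mathlib
import Cfsg.Prelude.Def_Classical
import Cfsg.Agent.Spectra.SolvableTwins

/-!
The element orders of `PSp(4,3)`.
-/

set_option autoImplicit false

namespace Cfsg.Agent.Spectra

open Polynomial in
/-- The characteristic polynomial of a symplectic matrix of size four is palindromic. -/
theorem symplectic_four_relation {R : Type*} [CommRing R] [Nontrivial R]
    {A : Matrix (Fin 2 ⊕ Fin 2) (Fin 2 ⊕ Fin 2) R} (hA : A ∈ Matrix.symplecticGroup (Fin 2) R) :
    ∃ a b : R, A ^ 4 + a • A ^ 3 + b • A ^ 2 + a • A + 1 = 0 := by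
  have hdet : A.det = 1 := SymplecticGroup.det_eq_one hA
  have hU : IsUnit A := (Matrix.isUnit_iff_isUnit_det A).mpr (by rw [hdet]; exact isUnit_one)
  have hinv : A⁻¹ = -Matrix.J (Fin 2) R * A.transpose * Matrix.J (Fin 2) R :=
    (SymplecticGroup.coe_inv' (⟨A, hA⟩ : Matrix.symplecticGroup (Fin 2) R)).symm.trans
      (SymplecticGroup.coe_inv _)
  have hp : A⁻¹.charpoly = A.charpoly := by
    rw [hinv, Matrix.charpoly_mul_comm, ← mul_assoc, mul_neg, Matrix.J_squared, neg_neg, one_mul,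
      Matrix.charpoly_transpose]
  have hcard : Fintype.card (Fin 2 ⊕ Fin 2) = 4 := by simp
  have hrev : A.charpoly.reverse = A.charpoly := by
    have h := Matrix.charpoly_inv A hU
    rw [hp, hcard, hdet, Ring.inverse_one, map_one, mul_one, Even.neg_one_pow (by decide), one_mul,
      ← Matrix.reverse_charpoly] at h
    exact h.symm
  have hdeg : A.charpoly.natDegree = 4 := (Matrix.charpoly_natDegree_eq_dim A).trans hcard
  have hc : ∀ i, A.charpoly.coeff i = A.charpoly.coeff (revAt 4 i) := by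
    intro i
    conv_lhs => rw [← hrev]
    rw [coeff_reverse, hdeg]
  have h4 : A.charpoly.coeff 4 = 1 := by
    have := (Matrix.charpoly_monic A).coeff_natDegree
    rwa [hdeg] at this
  have h0 : A.charpoly.coeff 0 = 1 := by
    rw [hc 0, revAt_le (by norm_num)]
    exact h4
  have h1 : A.charpoly.coeff 1 = A.charpoly.coeff 3 := by
    rw [hc 1, revAt_le (by norm_num)]
  refine ⟨A.charpoly.coeff 3, A.charpoly.coeff 2, ?_⟩
  have hCH := Matrix.aeval_self_charpoly A
  rw [Polynomial.aeval_eq_sum_range, hdeg] at hCH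
  simp only [Finset.sum_range_succ, Finset.sum_range_zero, zero_add, h0, h1, h4, one_smul,
    pow_zero, pow_one] at hCH
  rw [← hCH]
  abel

/-- One step of the linear recursion for the powers of a root of a palindromic quartic. -/
def quarticStep {R : Type*} [CommRing R] (a b : R) (c : R × R × R × R) : R × R × R × R :=
  (c.2.1 - c.1 * a, c.2.2.1 - c.1 * b, c.2.2.2 - c.1 * a, -c.1)

theorem pow_eq_quarticStep {R S : Type*} [CommRing R] [Ring S] [Algebra R S] (M : S) (a b : R)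
    (h : M ^ 4 + a • M ^ 3 + b • M ^ 2 + a • M + 1 = 0) (n : ℕ) :
    M ^ n = ((quarticStep a b)^[n] (0, 0, 0, 1)).1 • M ^ 3
      + ((quarticStep a b)^[n] (0, 0, 0, 1)).2.1 • M ^ 2
      + ((quarticStep a b)^[n] (0, 0, 0, 1)).2.2.1 • M
      + ((quarticStep a b)^[n] (0, 0, 0, 1)).2.2.2 • (1 : S) := by
  induction n with
  | zero => simp
  | succ n ih =>
    rw [pow_succ', ih, Function.iterate_succ_apply']
    generalize (quarticStep a b)^[n] (0, 0, 0, 1) = c
    have h4 : M ^ 4 = -(a • M ^ 3 + b • M ^ 2 + a • M + 1) := by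
      rw [eq_neg_iff_add_eq_zero, ← h]; abel
    simp only [quarticStep, mul_add, mul_smul_comm, mul_one, ← pow_succ',
      show 3 + 1 = 4 from rfl, show 2 + 1 = 3 from rfl, h4, ← pow_two]
    module

theorem quartic_periods : ∀ a b : ZMod 3, ∃ n ∈ ({5, 9, 12} : Finset ℕ),
    (quarticStep a b)^[n] (0, 0, 0, 1) = (0, 0, 0, 1) ∨
    (quarticStep a b)^[n] (0, 0, 0, 1) = (0, 0, 0, -1) := by
  decide +kernel

abbrev MatSp : Type := Matrix (Fin 2 ⊕ Fin 2) (Fin 2 ⊕ Fin 2) (ZMod 3)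

abbrev SpFour : Type := Matrix.symplecticGroup (Fin 2) (ZMod 3)

/-- A matrix of size four from its four blocks' entries, row by row. -/
def mat4 (l : List ℕ) : MatSp :=
  Matrix.of fun i j => ((l.getD (4 * (Sum.elim (fun x : Fin 2 => (x : ℕ)) (fun x => 2 + (x : ℕ)) i)
    + Sum.elim (fun x : Fin 2 => (x : ℕ)) (fun x => 2 + (x : ℕ)) j) 0 : ℕ) : ZMod 3)

def p5 : SpFour := ⟨mat4 [0, 0, 0, 1, 2, 0, 0, 1, 0, 2, 1, 1, 0, 0, 2, 0],
  SymplecticGroup.mem_iff.mpr (by decide +kernel)⟩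

def p9 : SpFour := ⟨mat4 [0, 2, 2, 0, 0, 0, 1, 0, 0, 0, 0, 2, 2, 0, 0, 2],
  SymplecticGroup.mem_iff.mpr (by decide +kernel)⟩

def p12 : SpFour := ⟨mat4 [1, 0, 0, 0, 0, 0, 0, 2, 2, 0, 1, 0, 0, 1, 0, 0],
  SymplecticGroup.mem_iff.mpr (by decide +kernel)⟩

def pNeg : SpFour := ⟨-1, SymplecticGroup.neg_mem (Matrix.symplecticGroup (Fin 2) (ZMod 3)).one_mem⟩

theorem p_central_powers : (p5 : MatSp) ^ 5 = 1 ∨ (p5 : MatSp) ^ 5 = -1 := by decide +kernel

theorem p9_central_powers : (p9 : MatSp) ^ 9 = 1 ∨ (p9 : MatSp) ^ 9 = -1 := by decide +kernel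

theorem p12_central_powers : (p12 : MatSp) ^ 12 = 1 ∨ (p12 : MatSp) ^ 12 = -1 := by decide +kernel

theorem p5_noncentral : (p5 : MatSp) * Matrix.J (Fin 2) (ZMod 3) ≠ Matrix.J (Fin 2) (ZMod 3) * (p5 : MatSp) :=
  fun h => absurd (congrFun (congrFun h (Sum.inl 0)) (Sum.inr 0)) (by decide +kernel)

theorem p9_noncentral : (p9 : MatSp) ^ 3 * Matrix.J (Fin 2) (ZMod 3)
    ≠ Matrix.J (Fin 2) (ZMod 3) * (p9 : MatSp) ^ 3 :=
  fun h => absurd (congrFun (congrFun h (Sum.inl 0)) (Sum.inl 0)) (by decide +kernel)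

theorem p12_noncentral4 : (p12 : MatSp) ^ 4 * Matrix.J (Fin 2) (ZMod 3)
    ≠ Matrix.J (Fin 2) (ZMod 3) * (p12 : MatSp) ^ 4 :=
  fun h => absurd (congrFun (congrFun h (Sum.inl 0)) (Sum.inl 0)) (by decide +kernel)

theorem p12_noncentral6 : (p12 : MatSp) ^ 6 * (p5 : MatSp) ≠ (p5 : MatSp) * (p12 : MatSp) ^ 6 :=
  fun h => absurd (congrFun (congrFun h (Sum.inl 0)) (Sum.inr 1)) (by decide +kernel)

theorem psp_pow (x : Cfsg.PSp 2 (ZMod 3)) : ∃ n ∈ ({5, 9, 12} : Finset ℕ), x ^ n = 1 := by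
  haveI : Fact (Nat.Prime 3) := ⟨Nat.prime_three⟩
  obtain ⟨g, rfl⟩ := QuotientGroup.mk_surjective x
  obtain ⟨a, b, h⟩ := symplectic_four_relation g.2
  obtain ⟨n, hn, hc⟩ := quartic_periods a b
  refine ⟨n, hn, ?_⟩
  rw [← QuotientGroup.mk_pow, QuotientGroup.eq_one_iff, Subgroup.mem_center_iff]
  have hpm : (g : MatSp) ^ n = 1 ∨ (g : MatSp) ^ n = -1 := by
    rcases hc with hc | hc
    · exact Or.inl (by rw [pow_eq_quarticStep (g : MatSp) a b h n, hc]; simp)
    · exact Or.inr (by rw [pow_eq_quarticStep (g : MatSp) a b h n, hc]; simp)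
  intro y
  apply Subtype.ext
  show (y : MatSp) * ((g ^ n : SpFour) : MatSp) = ((g ^ n : SpFour) : MatSp) * (y : MatSp)
  rw [show ((g ^ n : SpFour) : MatSp) = (g : MatSp) ^ n from SubmonoidClass.coe_pow g n]
  rcases hpm with e | e <;> rw [e] <;> simp

theorem orderOf_mk_eq (g : SpFour) (n : ℕ) (hn : (g : MatSp) ^ n = 1 ∨ (g : MatSp) ^ n = -1)
    (hnot : ∀ m, 0 < m → m < n → m ∣ n →
      ∃ h : SpFour, (g : MatSp) ^ m * (h : MatSp) ≠ (h : MatSp) * (g : MatSp) ^ m)
    (hpos : 0 < n) :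
    orderOf (QuotientGroup.mk g : Cfsg.PSp 2 (ZMod 3)) = n := by
  haveI : Fact (Nat.Prime 3) := ⟨Nat.prime_three⟩
  have h1 : (QuotientGroup.mk g : Cfsg.PSp 2 (ZMod 3)) ^ n = 1 := by
    rw [← QuotientGroup.mk_pow, QuotientGroup.eq_one_iff, Subgroup.mem_center_iff]
    intro y
    apply Subtype.ext
    show (y : MatSp) * ((g ^ n : SpFour) : MatSp) = ((g ^ n : SpFour) : MatSp) * (y : MatSp)
    rw [show ((g ^ n : SpFour) : MatSp) = (g : MatSp) ^ n from SubmonoidClass.coe_pow g n]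
    rcases hn with e | e <;> rw [e] <;> simp
  have hd := orderOf_dvd_of_pow_eq_one h1
  rcases eq_or_lt_of_le (Nat.le_of_dvd hpos hd) with h | h
  · exact h
  · exfalso
    obtain ⟨y, hy⟩ := hnot _ (orderOf_pos _) h hd
    have h2 := pow_orderOf_eq_one (QuotientGroup.mk g : Cfsg.PSp 2 (ZMod 3))
    rw [← QuotientGroup.mk_pow, QuotientGroup.eq_one_iff, Subgroup.mem_center_iff] at h2
    have h3 := congrArg Subtype.val (h2 y)
    rw [MulMemClass.coe_mul, MulMemClass.coe_mul, SubmonoidClass.coe_pow] at h3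
    exact hy h3.symm

theorem psp_four_three_spectrum_zmod :
    Set.range (orderOf : Cfsg.PSp 2 (ZMod 3) → ℕ) = {m | ∃ n ∈ ({5, 9, 12} : Finset ℕ), m ∣ n} := by
  haveI : Fact (Nat.Prime 3) := ⟨Nat.prime_three⟩
  apply range_orderOf_eq
  · exact psp_pow
  · let sj : SpFour := SymplecticGroup.symJ (Fin 2) (ZMod 3)
    have hlift : ∀ (g : SpFour) (m k : ℕ),
        (∃ h : SpFour, (g : MatSp) ^ (m * k) * (h : MatSp) ≠ (h : MatSp) * (g : MatSp) ^ (m * k)) →
        ∃ h : SpFour, (g : MatSp) ^ m * (h : MatSp) ≠ (h : MatSp) * (g : MatSp) ^ m := by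
      intro g m k hex
      obtain ⟨h, hne⟩ := hex
      refine ⟨h, fun e => hne ?_⟩
      rw [pow_mul]
      exact Commute.pow_left e k
    have k5 : ∃ h : SpFour, (p5 : MatSp) ^ 1 * (h : MatSp) ≠ (h : MatSp) * (p5 : MatSp) ^ 1 :=
      ⟨sj, by rw [pow_one]; exact p5_noncentral⟩
    have k93 : ∃ h : SpFour, (p9 : MatSp) ^ 3 * (h : MatSp) ≠ (h : MatSp) * (p9 : MatSp) ^ 3 :=
      ⟨sj, p9_noncentral⟩
    have k124 : ∃ h : SpFour, (p12 : MatSp) ^ 4 * (h : MatSp) ≠ (h : MatSp) * (p12 : MatSp) ^ 4 :=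
      ⟨sj, p12_noncentral4⟩
    have k126 : ∃ h : SpFour, (p12 : MatSp) ^ 6 * (h : MatSp) ≠ (h : MatSp) * (p12 : MatSp) ^ 6 :=
      ⟨p5, p12_noncentral6⟩
    intro n hn
    simp only [Finset.mem_insert, Finset.mem_singleton] at hn
    rcases hn with rfl | rfl | rfl
    · refine ⟨_, orderOf_mk_eq p5 5 p_central_powers (fun m h0 hlt hd => ?_) (by norm_num)⟩
      have hm : m = 1 := by interval_cases m <;> omega
      subst hm
      exact k5
    · refine ⟨_, orderOf_mk_eq p9 9 p9_central_powers (fun m h0 hlt hd => ?_) (by norm_num)⟩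
      have hm : m = 1 ∨ m = 3 := by interval_cases m <;> omega
      rcases hm with rfl | rfl
      · exact hlift p9 1 3 k93
      · exact k93
    · refine ⟨_, orderOf_mk_eq p12 12 p12_central_powers (fun m h0 hlt hd => ?_) (by norm_num)⟩
      have hm : m = 1 ∨ m = 2 ∨ m = 3 ∨ m = 4 ∨ m = 6 := by interval_cases m <;> omega
      rcases hm with rfl | rfl | rfl | rfl | rfl
      · exact hlift p12 1 4 k124
      · exact hlift p12 2 2 k124
      · exact hlift p12 3 2 k126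
      · exact k124
      · exact k126

theorem psp_four_three_spectrum {F : Type*} [Field F] [Fintype F] (hF : Fintype.card F = 3) :
    Set.range (orderOf : Cfsg.PSp 2 F → ℕ) = {m | ∃ n ∈ ({5, 9, 12} : Finset ℕ), m ∣ n} := by
  haveI : Fact (Nat.Prime 3) := ⟨Nat.prime_three⟩
  let eR : ZMod 3 ≃+* F := ZMod.ringEquivOfPrime F Nat.prime_three hF
  let toF : SpFour →* Matrix.symplecticGroup (Fin 2) F :=
    { toFun := fun A => ⟨eR.toRingHom.mapMatrix (A : MatSp), SymplecticGroup.map_mem A.2 eR.toRingHom⟩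
      map_one' := Subtype.ext (map_one eR.toRingHom.mapMatrix)
      map_mul' := fun A B => Subtype.ext (map_mul eR.toRingHom.mapMatrix _ _) }
  have hb : Function.Bijective toF := by
    refine ⟨fun A B h => Subtype.ext (Matrix.map_injective eR.injective (congrArg Subtype.val h)),
      fun B => ⟨⟨(B : Matrix (Fin 2 ⊕ Fin 2) (Fin 2 ⊕ Fin 2) F).map eR.symm.toRingHom,
        SymplecticGroup.map_mem B.2 eR.symm.toRingHom⟩, ?_⟩⟩
    apply Subtype.ext
    ext i j
    simp [toF]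
  let e0 : SpFour ≃* Matrix.symplecticGroup (Fin 2) F := MulEquiv.ofBijective toF hb
  have hcen : (Subgroup.center SpFour).map e0.toMonoidHom
      = Subgroup.center (Matrix.symplecticGroup (Fin 2) F) := by
    ext x
    rw [Subgroup.mem_map]
    constructor
    · rintro ⟨y, hy, rfl⟩
      rw [Subgroup.mem_center_iff] at hy ⊢
      intro z
      obtain ⟨w, rfl⟩ := e0.surjective z
      show e0 w * e0 y = e0 y * e0 w
      rw [← map_mul, ← map_mul, hy w]
    · intro hx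
      refine ⟨e0.symm x, ?_, e0.apply_symm_apply x⟩
      rw [Subgroup.mem_center_iff] at hx ⊢
      intro w
      apply e0.injective
      rw [map_mul, map_mul, e0.apply_symm_apply, hx]
  let e : Cfsg.PSp 2 (ZMod 3) ≃* Cfsg.PSp 2 F := QuotientGroup.congr _ _ e0 hcen
  rw [← psp_four_three_spectrum_zmod]
  ext m
  constructor
  · rintro ⟨x, rfl⟩
    exact ⟨e.symm x, e.symm.orderOf_eq x⟩
  · rintro ⟨x, rfl⟩
    exact ⟨e x, e.orderOf_eq x⟩

end Cfsg.Agent.Spectra
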