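import Mathlib
import Cfsg.Agent.Janko.Orders

/-!
# Groups isospectral to the fourth power of the first Janko group
-/

set_option autoImplicit false

namespace Cfsg.Agent.Spectra.JankoFourth

open Cfsg.Lib.Janko

instance factElevenPrime : Fact (Nat.Prime 11) := ⟨by norm_num⟩

noncomputable instance : Fintype (GaloisField 11 3) := Fintype.ofFinite _

theorem exists_root : ∃ ζ : (GaloisField 11 3)ˣ, orderOf ζ = 7 := by
  haveI : Fact (Nat.Prime 7) := ⟨by norm_num⟩
  refine exists_prime_orderOf_dvd_card' 7 ?_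
  rw [Nat.card_units, GaloisField.card 11 3 (by norm_num)]
  norm_num

/-- The units of order dividing seven. -/
noncomputable def seven : Subgroup (GaloisField 11 3)ˣ := Subgroup.zpowers exists_root.choose

/-- Scalar action. -/
noncomputable def scalarAct (k : ℕ) : seven →* MulAut (Multiplicative (Fin k → GaloisField 11 3)) :=
  ((MulAutMultiplicative _).symm.toMonoidHom.comp
    (DistribMulAction.toAddAut (GaloisField 11 3)ˣ (Fin k → GaloisField 11 3))).comp seven.subtype

abbrev Frob (k : ℕ) : Type := Multiplicative (Fin k → GaloisField 11 3) ⋊[scalarAct k] seven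

theorem seven_pow (c : seven) : c ^ 7 = 1 := by
  have h : orderOf c ∣ 7 := by
    have := orderOf_dvd_natCard c
    have hcard : Nat.card seven = 7 := (Nat.card_zpowers _).trans exists_root.choose_spec
    rwa [hcard] at this
  exact orderOf_dvd_iff_pow_eq_one.mp h

theorem frob_pow {k : ℕ} (x : Frob k) : x ^ 7 = 1 ∨ x ^ 11 = 1 := by
  by_cases hc : x.right = 1
  · right
    have hx : x = SemidirectProduct.inl x.left := SemidirectProduct.ext rfl (by simpa using hc)
    rw [hx, ← map_pow, ← ofAdd_toAdd x.left, ← ofAdd_nsmul]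
    have : (11 : ℕ) • Multiplicative.toAdd x.left = 0 := by
      funext i
      show (11 : ℕ) • Multiplicative.toAdd x.left i = 0
      rw [nsmul_eq_mul, CharP.cast_eq_zero, zero_mul]
    rw [this, ofAdd_zero, map_one]
  · left
    set c : GaloisField 11 3 := ((x.right : (GaloisField 11 3)ˣ) : GaloisField 11 3) with hcdef
    have hc1 : (1 : GaloisField 11 3) - c ≠ 0 := by
      intro h
      exact hc (Subtype.ext (Units.ext (sub_eq_zero.mp h).symm))
    set w : Multiplicative (Fin k → GaloisField 11 3) :=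
      Multiplicative.ofAdd ((1 - c)⁻¹ • Multiplicative.toAdd x.left)
    have hx : x = SemidirectProduct.inl w * SemidirectProduct.inr x.right * (SemidirectProduct.inl w)⁻¹ := by
      refine SemidirectProduct.ext ?_ ?_
      · simp only [SemidirectProduct.mul_left, SemidirectProduct.left_inl, SemidirectProduct.right_inl,
          SemidirectProduct.left_inr, SemidirectProduct.inv_left, SemidirectProduct.mul_right,
          SemidirectProduct.right_inr, map_one, MulAut.one_apply, one_mul, mul_one, inv_one]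
        show x.left = w * Multiplicative.ofAdd (c • -Multiplicative.toAdd w)
        apply Multiplicative.toAdd.injective
        simp only [toAdd_mul, toAdd_ofAdd, w]
        funext i
        simp only [Pi.add_apply, Pi.smul_apply, Pi.neg_apply, smul_eq_mul]
        field_simp
        ring
      · simp
    rw [hx, conj_pow, ← map_pow, seven_pow, map_one, mul_one, mul_inv_cancel]

theorem frob_orders {k : ℕ} (x : Frob k) : orderOf x ∈ [1, 7, 11] := by
  rcases frob_pow x with h | h
  · rcases (Nat.dvd_prime (by norm_num : Nat.Prime 7)).mp (orderOf_dvd_of_pow_eq_one h) with e | e <;>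
      simp [e]
  · rcases (Nat.dvd_prime (by norm_num : Nat.Prime 11)).mp (orderOf_dvd_of_pow_eq_one h) with e | e <;>
      simp [e]

theorem card_frob (k : ℕ) : Nat.card (Frob k) = 1331 ^ k * 7 := by
  rw [SemidirectProduct.card, Nat.card_eq_of_bijective _ Multiplicative.toAdd.bijective, Nat.card_fun,
    GaloisField.card 11 3 (by norm_num), Nat.card_fin,
    show Nat.card seven = 7 from (Nat.card_zpowers _).trans exists_root.choose_spec]
  norm_num

theorem exists_order_six : ∃ g : J, orderOf g = 6 := by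
  obtain ⟨e⟩ := centralizer_equiv
  have h : ∃ p : Multiplicative (ZMod 2) × alternatingGroup (Fin 5), p ^ 6 = 1 ∧ p ^ 2 ≠ 1 ∧ p ^ 3 ≠ 1 := by
    decide +kernel
  obtain ⟨p, h6, h2, h3⟩ := h
  refine ⟨((e.symm p : Subgroup.centralizer ({tJ} : Set J)) : J), ?_⟩
  rw [Subgroup.orderOf_coe, e.symm.orderOf_eq]
  have hd := orderOf_dvd_of_pow_eq_one h6
  have hle : orderOf p ≤ 6 := Nat.le_of_dvd (by norm_num) hd
  have h2' : ¬ orderOf p ∣ 2 := fun h => h2 (orderOf_dvd_iff_pow_eq_one.mp h)
  have h3' : ¬ orderOf p ∣ 3 := fun h => h3 (orderOf_dvd_iff_pow_eq_one.mp h)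
  interval_cases (orderOf p) <;> omega

theorem exists_order_dvd_six {n : ℕ} (h : n ∣ 6) : ∃ g : J, orderOf g = n := by
  haveI := finite_J
  obtain ⟨g, hg⟩ := exists_order_six
  exact ⟨g ^ (6 / n), by
    rw [orderOf_pow_of_dvd (Nat.div_pos (Nat.le_of_dvd (by norm_num) h)
      (Nat.pos_of_dvd_of_pos h (by norm_num))).ne' (by rw [hg]; exact Nat.div_dvd_of_dvd h), hg,
      Nat.div_div_self h (by norm_num)]⟩

theorem exists_order_prime {p n : ℕ} (hp : p.Prime) (h : p ∣ 175560) (hn : n ∣ p) : ∃ g : J, orderOf g = n := by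
  haveI := finite_J
  haveI := Fact.mk hp
  rcases (Nat.dvd_prime hp).mp hn with rfl | rfl
  · exact ⟨1, orderOf_one⟩
  · exact exists_prime_orderOf_dvd_card' n (card_J ▸ h)

theorem small_cases : ∀ x : ℕ, x ∈ [1, 2, 3, 5, 6, 7, 10, 11, 15, 19] → x ≠ 7 → x ≠ 11 → x ∣ 570 := by
  intro x hx
  fin_cases hx <;> norm_num

theorem recombine : ∀ L ∈ Nat.divisors 570,
    Nat.lcm (Nat.gcd L 6) (Nat.lcm (Nat.gcd L 5) (Nat.gcd L 19)) = L := by
  decide +kernel

abbrev Four : Type := J × J × J × J

abbrev Twin (k : ℕ) : Type := J × J × J × Frob k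

theorem twin_spectrum (k : ℕ) (hk : 0 < k) :
    Set.range (orderOf : Twin k → ℕ) = Set.range (orderOf : Four → ℕ) := by
  haveI := finite_J
  haveI : Finite (Frob k) := Nat.finite_of_card_ne_zero (by rw [card_frob]; positivity)
  haveI : Fact (Nat.Prime 7) := ⟨by norm_num⟩
  obtain ⟨x7, h7⟩ := exists_prime_orderOf_dvd_card' (G := Frob k) 7 (by rw [card_frob]; exact dvd_mul_left 7 _)
  obtain ⟨x11, h11⟩ := exists_prime_orderOf_dvd_card' (G := Frob k) 11 (by
    rw [card_frob]; exact dvd_mul_of_dvd_left ((by norm_num : 11 ∣ 1331).trans (dvd_pow_self _ hk.ne')) _)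
  ext n
  simp only [Set.mem_range]
  constructor
  · rintro ⟨⟨a, b, c, x⟩, rfl⟩
    obtain ⟨d, hd⟩ : ∃ d : J, orderOf d = orderOf x := by
      have := frob_orders x
      simp only [List.mem_cons, List.not_mem_nil, or_false] at this
      rcases this with e | e | e <;> rw [e]
      · exact ⟨1, orderOf_one⟩
      · exact exists_order_prime (p := 7) (by norm_num) (by norm_num) dvd_rfl
      · exact exists_order_prime (p := 11) (by norm_num) (by norm_num) dvd_rfl
    exact ⟨(a, b, c, d), by simp only [Prod.orderOf, hd]⟩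
  · rintro ⟨⟨a, b, c, d⟩, rfl⟩
    have pick : ∀ y : J, orderOf y = 7 ∨ orderOf y = 11 → ∃ x : Frob k, orderOf x = orderOf y := fun y h => by
      rcases h with e | e <;> rw [e]
      exacts [⟨x7, h7⟩, ⟨x11, h11⟩]
    by_cases ha : orderOf a = 7 ∨ orderOf a = 11
    · obtain ⟨x, hx⟩ := pick a ha
      refine ⟨(b, c, d, x), ?_⟩
      simp only [Prod.orderOf, hx]
      ac_rfl
    by_cases hb : orderOf b = 7 ∨ orderOf b = 11
    · obtain ⟨x, hx⟩ := pick b hb
      refine ⟨(a, c, d, x), ?_⟩
      simp only [Prod.orderOf, hx]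
      ac_rfl
    by_cases hc : orderOf c = 7 ∨ orderOf c = 11
    · obtain ⟨x, hx⟩ := pick c hc
      refine ⟨(a, b, d, x), ?_⟩
      simp only [Prod.orderOf, hx]
      ac_rfl
    by_cases hd : orderOf d = 7 ∨ orderOf d = 11
    · obtain ⟨x, hx⟩ := pick d hd
      exact ⟨(a, b, c, x), by simp only [Prod.orderOf, hx]⟩
    push Not at ha hb hc hd
    set L := orderOf (a, b, c, d) with hL
    have hL570 : L ∣ 570 := by
      rw [hL]
      simp only [Prod.orderOf]
      exact Nat.lcm_dvd (small_cases _ (orderOf_mem a) ha.1 ha.2)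
        (Nat.lcm_dvd (small_cases _ (orderOf_mem b) hb.1 hb.2)
          (Nat.lcm_dvd (small_cases _ (orderOf_mem c) hc.1 hc.2) (small_cases _ (orderOf_mem d) hd.1 hd.2)))
    obtain ⟨g6, e6⟩ := exists_order_dvd_six (Nat.gcd_dvd_right L 6)
    obtain ⟨g5, e5⟩ := exists_order_prime (p := 5) (by norm_num) (by norm_num) (Nat.gcd_dvd_right L 5)
    obtain ⟨g19, e19⟩ := exists_order_prime (p := 19) (by norm_num) (by norm_num) (Nat.gcd_dvd_right L 19)
    refine ⟨(g6, g5, g19, 1), ?_⟩
    simp only [Prod.orderOf, e6, e5, e19, orderOf_one, Nat.lcm_one_right]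
    exact recombine L (Nat.mem_divisors.mpr ⟨hL570, by norm_num⟩)

end Cfsg.Agent.Spectra.JankoFourth
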